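import Groth.Agent.AlgSpEt.GorMor
import Groth.Agent.Gorenstein.FlatLocal
import Groth.Agent.Gorenstein.BaseChange
import Groth.Agent.FlatMorOne.FlatnessCriteria
import Groth.Agent.S1827
import Groth.Prelude.Def_Dual3

/-!
# Gorenstein morphisms of schemes: flatness, composition, local complete intersections
-/

set_option autoImplicit false
set_option backward.isDefEq.respectTransparency false

universe u

open CategoryTheory CategoryTheory.Limits AlgebraicGeometry IsLocalRing
open scoped TensorProduct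

namespace Groth.Dual3Gor

theorem isGorenstein_of_ringEquiv {C D : Type u} [CommRing C] [CommRing D] (e : C ≃+* D)
    (h : LocCoh.IsGorensteinLocalRing C) : LocCoh.IsGorensteinLocalRing D :=
  (Groth.AlgSpEt.GorRing.isGorenstein_iff_of_ringEquiv e).1 h

/-- Gorenstein local rings along a flat local homomorphism of Noetherian local rings. -/
theorem isGorenstein_flat_iff {A B : Type u} [CommRing A] [CommRing B] [IsLocalRing A] [IsLocalRing B]
    [IsNoetherianRing A] [IsNoetherianRing B] (φ : A →+* B) [IsLocalHom φ] (hφ : φ.Flat) :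
    LocCoh.IsGorensteinLocalRing B ↔
      LocCoh.IsGorensteinLocalRing A ∧ LocCoh.IsGorensteinLocalRing (B ⧸ (maximalIdeal A).map φ) := by
  letI := φ.toAlgebra
  haveI : IsLocalHom (algebraMap A B) := ‹IsLocalHom φ›
  haveI : Module.Flat A B := hφ
  haveI := GrothGoren.nontrivial_fibre A B
  show _ ↔ _ ∧ LocCoh.IsGorensteinLocalRing (B ⧸ (maximalIdeal A).map (algebraMap A B))
  rw [GrothGoren.isGorenstein_iff, GrothGoren.isGorenstein_iff, GrothGoren.isGorenstein_iff]
  exact GrothGoren.exists_injLT_flat_iff A B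

theorem flat_quotientMap {A B : Type u} [CommRing A] [CommRing B] (φ : A →+* B) (hφ : φ.Flat) (a : Ideal A) :
    (Ideal.quotientMap (a.map φ) φ Ideal.le_comap_map).Flat := by
  letI := φ.toAlgebra
  haveI : Module.Flat A B := hφ
  have e : (Ideal.quotientMap (a.map (algebraMap A B)) (algebraMap A B) Ideal.le_comap_map) =
      algebraMap (A ⧸ a) (B ⧸ a.map (algebraMap A B)) := Ideal.Quotient.ringHom_ext rfl
  have h : (algebraMap (A ⧸ a) (B ⧸ a.map (algebraMap A B))).Flat := RingHom.flat_algebraMap_iff.2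
    (Module.Flat.of_linearEquiv (M := (A ⧸ a) ⊗[A] B)
      (Algebra.TensorProduct.quotIdealMapEquivQuotTensor B a).toLinearEquiv)
  rw [← e] at h
  exact h

variable {X Y Z : Scheme.{u}}

/-- A flat morphism from a Gorenstein scheme to a locally Noetherian one. -/
theorem gorenstein_of_flat_source [IsLocallyNoetherian Y] (f : X ⟶ Y) [Flat f] (hX : Dual3.IsGorenstein X) :
    Dual3.IsGorensteinMor f ∧ ∀ x : X, LocCoh.IsGorensteinLocalRing (Y.presheaf.stalk (f x)) := by
  haveI := hX.1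
  have key : ∀ x, _ := fun x =>
    (isGorenstein_flat_iff (f.stalkMap x).hom (Flat.stalkMap f x)).1 (hX.2 x)
  exact ⟨fun x => (Groth.AlgSpEt.isGorensteinAt_iff f x).2 ⟨Flat.stalkMap f x, (key x).2⟩, fun x => (key x).1⟩

/-- Composition. -/
theorem isGorensteinAt_comp (f : X ⟶ Y) (g : Y ⟶ Z)
    (hfibg : ∀ y, IsLocallyNoetherian (g.fiber y)) (hfibfg : ∀ z, IsLocallyNoetherian ((f ≫ g).fiber z)) (x : X) :
    (Dual3.IsGorensteinAt f x → Dual3.IsGorensteinAt g (f x) → Dual3.IsGorensteinAt (f ≫ g) x) ∧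
    (Dual3.IsGorensteinAt (f ≫ g) x → (f.stalkMap x).hom.Flat →
      Dual3.IsGorensteinAt f x ∧ Dual3.IsGorensteinAt g (f x)) := by
  let Oz := Z.presheaf.stalk (g (f x))
  let φ := (f.stalkMap x).hom
  let ψ := (g.stalkMap (f x)).hom
  have hcomp : ((f ≫ g).stalkMap x).hom = φ.comp ψ := by rw [Scheme.Hom.stalkMap_comp]; rfl
  let a : Ideal (Y.presheaf.stalk (f x)) := (maximalIdeal Oz).map ψ
  let b : Ideal (X.presheaf.stalk x) := a.map φ
  have hb : (maximalIdeal (Z.presheaf.stalk ((f ≫ g) x))).map ((f ≫ g).stalkMap x).hom = b := by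
    rw [hcomp, ← Ideal.map_map]; rfl
  have ha_le : a ≤ maximalIdeal (Y.presheaf.stalk (f x)) := Groth.AlgSpEt.map_maximalIdeal_le g (f x)
  have hb_le : b ≤ maximalIdeal (X.presheaf.stalk x) := hb ▸ Groth.AlgSpEt.map_maximalIdeal_le (f ≫ g) x
  haveI : Nontrivial (Y.presheaf.stalk (f x) ⧸ a) := Ideal.Quotient.nontrivial_iff.2
    (ne_top_of_le_ne_top (maximalIdeal.isMaximal _).ne_top ha_le)
  haveI : Nontrivial (X.presheaf.stalk x ⧸ b) := Ideal.Quotient.nontrivial_iff.2
    (ne_top_of_le_ne_top (maximalIdeal.isMaximal _).ne_top hb_le)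
  haveI : IsLocalRing (Y.presheaf.stalk (f x) ⧸ a) :=
    .of_surjective' (Ideal.Quotient.mk a) Ideal.Quotient.mk_surjective
  haveI : IsLocalRing (X.presheaf.stalk x ⧸ b) :=
    .of_surjective' (Ideal.Quotient.mk b) Ideal.Quotient.mk_surjective
  haveI : IsNoetherianRing (Y.presheaf.stalk (f x) ⧸ a) := by
    obtain ⟨e⟩ := Groth.Flatmor4.exists_fiberStalkEquiv g (f x)
    haveI := hfibg (g (f x))
    exact isNoetherianRing_of_ringEquiv _ e.symm
  haveI : IsNoetherianRing (X.presheaf.stalk x ⧸ b) := by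
    obtain ⟨e⟩ := Groth.Flatmor4.exists_fiberStalkEquiv (f ≫ g) x
    haveI := hfibfg ((f ≫ g) x)
    exact isNoetherianRing_of_ringEquiv _ (e.symm.trans (Ideal.quotEquivOfEq hb))
  let χ : Y.presheaf.stalk (f x) ⧸ a →+* X.presheaf.stalk x ⧸ b :=
    Ideal.quotientMap b φ Ideal.le_comap_map
  haveI : IsLocalHom φ := inferInstanceAs (IsLocalHom (f.stalkMap x).hom)
  haveI hloc : IsLocalHom χ := by
    refine ⟨fun z hz => ?_⟩
    obtain ⟨t, rfl⟩ := Ideal.Quotient.mk_surjective z
    haveI : IsLocalHom (Ideal.Quotient.mk b) := IsLocalHom.of_surjective _ Ideal.Quotient.mk_surjective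
    have h1 : IsUnit (Ideal.Quotient.mk b (φ t)) := by simpa [χ] using hz
    exact (isUnit_of_map_unit φ t (isUnit_of_map_unit (Ideal.Quotient.mk b) _ h1)).map _
  have hclosed : Nonempty (((X.presheaf.stalk x ⧸ b) ⧸ (maximalIdeal (Y.presheaf.stalk (f x) ⧸ a)).map χ) ≃+*
      (X.presheaf.stalk x ⧸ (maximalIdeal (Y.presheaf.stalk (f x))).map φ)) := by
    have hm : (maximalIdeal (Y.presheaf.stalk (f x) ⧸ a)).map χ =
        ((maximalIdeal (Y.presheaf.stalk (f x))).map φ).map (Ideal.Quotient.mk b) := by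
      rw [← IsLocalRing.map_maximalIdeal_of_surjective (Ideal.Quotient.mk a) Ideal.Quotient.mk_surjective,
        Ideal.map_map, Ideal.map_map]
      rfl
    exact ⟨(Ideal.quotEquivOfEq hm).trans (DoubleQuot.quotQuotEquivQuotOfLE (Ideal.map_mono ha_le))⟩
  obtain ⟨e⟩ := hclosed
  have hfib : (f.stalkMap x).hom.Flat →
      (Groth.AlgSpEt.GorFibre X Z (f ≫ g) x ↔
        Groth.AlgSpEt.GorFibre Y Z g (f x) ∧ Groth.AlgSpEt.GorFibre X Y f x) := fun hflat => by
    letI := φ.toAlgebra
    haveI : Module.Flat (Y.presheaf.stalk (f x)) (X.presheaf.stalk x) := hflat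
    have hχ : χ.Flat := flat_quotientMap φ hflat a
    refine (Groth.AlgSpEt.GorRing.isGorenstein_iff_of_ringEquiv (Ideal.quotEquivOfEq hb)).trans
      ((isGorenstein_flat_iff χ hχ).trans (and_congr Iff.rfl ?_))
    exact Groth.AlgSpEt.GorRing.isGorenstein_iff_of_ringEquiv e
  constructor
  · intro hf hg
    rw [Groth.AlgSpEt.isGorensteinAt_iff] at hf hg ⊢
    exact ⟨hcomp ▸ hg.1.comp hf.1, (hfib hf.1).2 ⟨hg.2, hf.2⟩⟩
  · intro hfg hflat
    rw [Groth.AlgSpEt.isGorensteinAt_iff] at hfg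
    have hgflat : ψ.Flat := by
      letI := φ.toAlgebra
      letI := ψ.toAlgebra
      letI : Algebra Oz (X.presheaf.stalk x) := (φ.comp ψ).toAlgebra
      haveI : IsScalarTower Oz (Y.presheaf.stalk (f x)) (X.presheaf.stalk x) := .of_algebraMap_eq fun _ => rfl
      haveI : Module.Flat (Y.presheaf.stalk (f x)) (X.presheaf.stalk x) := hflat
      haveI : IsLocalHom (algebraMap (Y.presheaf.stalk (f x)) (X.presheaf.stalk x)) := ‹IsLocalHom φ›
      haveI : Module.FaithfullyFlat (Y.presheaf.stalk (f x)) (X.presheaf.stalk x) :=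
        Module.FaithfullyFlat.of_flat_of_isLocalHom
      haveI : Module.Flat Oz (X.presheaf.stalk x) := by
        have := hcomp ▸ hfg.1
        exact this
      exact Groth.FlatMorOne.flat_of_faithfullyFlat_module (X.presheaf.stalk x)
    have := (hfib hflat).1 hfg.2
    exact ⟨(Groth.AlgSpEt.isGorensteinAt_iff f x).2 ⟨hflat, this.2⟩,
      (Groth.AlgSpEt.isGorensteinAt_iff g (f x)).2 ⟨hgflat, this.1⟩⟩

/-- Local complete intersections over Gorenstein schemes. -/
theorem isGorenstein_of_lci (f : Y ⟶ X) (hf : Dual3.IsLCIMor f) (hX : Dual3.IsGorenstein X) :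
    Dual3.IsGorenstein Y := by
  haveI := hX.1
  have key : ∀ (U : Y.affineOpens) (V : X.affineOpens) (e : U.1 ≤ f ⁻¹ᵁ V.1),
      (letI := (f.appLE V.1 U.1 e).hom.toAlgebra; LCI.IsLCI Γ(X, V.1) Γ(Y, U.1)) →
      IsNoetherianRing Γ(Y, U.1) ∧ LocCoh.IsGorensteinRing Γ(Y, U.1) := by
    intro U V e h
    letI := (f.appLE V.1 U.1 e).hom.toAlgebra
    haveI : IsNoetherianRing Γ(X, V.1) := IsLocallyNoetherian.component_noetherian V
    haveI : LocCoh.IsGorensteinRing Γ(X, V.1) := ⟨fun p _ => by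
      let x : X := V.2.fromSpec ⟨p, inferInstance⟩
      have hx : x ∈ V.1 := by
        rw [← SetLike.mem_coe, ← V.2.range_fromSpec]; exact ⟨_, rfl⟩
      letI := TopCat.Presheaf.algebra_section_stalk X.presheaf (⟨x, hx⟩ : V.1)
      have hp : (V.2.primeIdealOf ⟨x, hx⟩).asIdeal = p := by
        have : V.2.primeIdealOf ⟨x, hx⟩ = ⟨p, inferInstance⟩ :=
          V.2.fromSpec.isOpenEmbedding.injective (V.2.fromSpec_primeIdealOf ⟨x, hx⟩)
        rw [this]
      have hloc : IsLocalization.AtPrime (X.presheaf.stalk x) (V.2.primeIdealOf ⟨x, hx⟩).asIdeal :=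
        V.2.isLocalization_stalk ⟨x, hx⟩
      haveI : IsLocalization p.primeCompl (X.presheaf.stalk x) := by
        have h1 : (V.2.primeIdealOf ⟨x, hx⟩).asIdeal.primeCompl = p.primeCompl := by
          ext z
          show z ∉ _ ↔ z ∉ p
          rw [hp]
          rfl
        exact h1 ▸ hloc
      exact isGorenstein_of_ringEquiv
        (IsLocalization.algEquiv p.primeCompl (X.presheaf.stalk x) (Localization.AtPrime p)).toRingEquiv (hX.2 x)⟩
    exact ⟨haveI := h.1; Algebra.FiniteType.isNoetherianRing Γ(X, V.1) _,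
      Groth.Agent.S1827.result Γ(X, V.1) Γ(Y, U.1) inferInstance h⟩
  refine ⟨?_, fun y => ?_⟩
  · choose U V e hy hl using hf
    refine isLocallyNoetherian_of_affine_cover (S := fun y => U y) ?_ (fun y => (key (U y) (V y) (e y) (hl y)).1)
    rw [eq_top_iff]
    intro y _
    exact TopologicalSpace.Opens.mem_iSup.2 ⟨y, hy y⟩
  · obtain ⟨U, V, e, hy, h⟩ := hf y
    haveI := (key U V e h).2
    letI := TopCat.Presheaf.algebra_section_stalk Y.presheaf (⟨y, hy⟩ : U.1)
    haveI : IsLocalization.AtPrime (Y.presheaf.stalk y) (U.2.primeIdealOf ⟨y, hy⟩).asIdeal :=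
      U.2.isLocalization_stalk ⟨y, hy⟩
    exact isGorenstein_of_ringEquiv (IsLocalization.algEquiv (U.2.primeIdealOf ⟨y, hy⟩).asIdeal.primeCompl
      (Localization.AtPrime (U.2.primeIdealOf ⟨y, hy⟩).asIdeal) (Y.presheaf.stalk y)).toRingEquiv
      (LocCoh.IsGorensteinRing.isGorensteinLocalRing_localization (A := Γ(Y, U.1)) _)

end Groth.Dual3Gor
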