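import Groth.Agent.Dual3Gor.QFOpen
import Groth.Agent.Dual3Gor.Basic
import Groth.Agent.CMMor.Criterion
import Groth.Agent.FlatMor2.FibCrit.SchemeCrit
import Groth.Agent.Curves1.Node.NodalSyntomic
import Groth.Agent.S0341
import Groth.Agent.S0342

/-!
# Openness of the Gorenstein locus of a flat morphism locally of finite presentation
-/

set_option autoImplicit false
set_option backward.isDefEq.respectTransparency false

universe u

open CategoryTheory CategoryTheory.Limits AlgebraicGeometry IsLocalRing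

namespace Groth.Dual3Gor

variable {X Y S : Scheme.{u}}

/-- The fibre local ring on an affine chart. -/
theorem gorFibre_iff_fibLocRing (f : X ⟶ Y) {V : Y.Opens} (hV : IsAffineOpen V) {W : X.Opens}
    (hW : IsAffineOpen W) (e : W ≤ f ⁻¹ᵁ V) (x : X) (hx : x ∈ W) :
    Groth.AlgSpEt.GorFibre X Y f x ↔
      (letI := (f.appLE V W e).hom.toAlgebra
       LocCoh.IsGorensteinLocalRing (EGA4.FibLocRing Γ(Y, V) Γ(X, W) (hW.primeIdealOf ⟨x, hx⟩).asIdeal)) := by
  letI := (f.appLE V W e).hom.toAlgebra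
  letI := Y.presheaf.algebra_section_stalk (⟨f x, e hx⟩ : V)
  letI := X.presheaf.algebra_section_stalk (⟨x, hx⟩ : W)
  let q := (hW.primeIdealOf ⟨x, hx⟩).asIdeal
  haveI hqs : IsLocalization.AtPrime (X.presheaf.stalk x) q := hW.isLocalization_stalk ⟨x, hx⟩
  haveI hps : IsLocalization.AtPrime (Y.presheaf.stalk (f x)) (q.under Γ(Y, V)) :=
    Groth.FlatMor2.FibCrit.isLocalization_stalk_under f hV hW e x hx
  let eq := IsLocalization.algEquiv q.primeCompl (X.presheaf.stalk x) (Localization.AtPrime q)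
  refine Groth.AlgSpEt.GorRing.isGorenstein_iff_of_ringEquiv
    (Ideal.quotientEquiv _ _ eq.toRingEquiv ?_)
  have hcomp : (eq.toRingEquiv : X.presheaf.stalk x →+* Localization.AtPrime q).comp
      ((f.stalkMap x).hom.comp (algebraMap Γ(Y, V) (Y.presheaf.stalk (f x)))) =
      algebraMap Γ(Y, V) (Localization.AtPrime q) := by
    ext a
    show eq ((f.stalkMap x).hom (Y.presheaf.germ V (f x) (e hx) a)) = _
    rw [Groth.FlatMor2.FibCrit.stalkMap_germ_appLE f e x hx a]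
    exact (eq.commutes (f.appLE V W e a)).trans
      (IsScalarTower.algebraMap_apply Γ(Y, V) Γ(X, W) (Localization.AtPrime q) a).symm
  show _ = Ideal.map (eq.toRingEquiv : X.presheaf.stalk x →+* Localization.AtPrime q) _
  rw [← IsLocalization.AtPrime.map_eq_maximalIdeal (q.under Γ(Y, V)) (Y.presheaf.stalk (f x)),
    Ideal.map_map, Ideal.map_map, RingHom.comp_assoc, hcomp]

/-- The Gorenstein locus of a flat quasi-finite morphism of finite presentation is open. -/
theorem isOpen_gorFibre_qf (f : X ⟶ Y) [Flat f] [LocallyQuasiFinite f] [LocallyOfFinitePresentation f] :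
    IsOpen {x : X | Groth.AlgSpEt.GorFibre X Y f x} := by
  rw [isOpen_iff_forall_mem_open]
  intro x₀ hx₀
  obtain ⟨V, hV, hxV, -⟩ := exists_isAffineOpen_mem_and_subset (x := f x₀) (TopologicalSpace.Opens.mem_top (f x₀))
  obtain ⟨W, hW, hxW, e⟩ := exists_isAffineOpen_mem_and_subset (x := x₀) (show x₀ ∈ f ⁻¹ᵁ V from hxV)
  letI := (f.appLE V W e).hom.toAlgebra
  haveI : Module.Flat Γ(Y, V) Γ(X, W) :=
    HasRingHomProperty.appLE @Flat f inferInstance ⟨V, hV⟩ ⟨W, hW⟩ e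
  haveI : Algebra.QuasiFinite Γ(Y, V) Γ(X, W) :=
    HasRingHomProperty.appLE @LocallyQuasiFinite f inferInstance ⟨V, hV⟩ ⟨W, hW⟩ e
  haveI : Algebra.FinitePresentation Γ(Y, V) Γ(X, W) := f.finitePresentation_appLE hV hW e
  have hcont : Continuous fun w : W => hW.primeIdealOf w := hW.isoSpec.hom.continuous
  obtain ⟨O, hO, hOeq⟩ := isOpen_induced_iff.mp
    ((isOpen_gorenstein_qf (A := Γ(Y, V)) (B := Γ(X, W))).preimage hcont)
  refine ⟨O ∩ W, fun x hx => (gorFibre_iff_fibLocRing f hV hW e x hx.2).2 ?_, hO.inter W.2, ?_, hxW⟩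
  · exact (Set.ext_iff.mp hOeq ⟨x, hx.2⟩).1 hx.1
  · exact (Set.ext_iff.mp hOeq ⟨x₀, hxW⟩).2 ((gorFibre_iff_fibLocRing f hV hW e x₀ hxW).1 hx₀)

theorem isGorensteinAt_openImmersion_comp {V : Scheme.{u}} (j : V ⟶ X) [IsOpenImmersion j] (f : X ⟶ S)
    (v : V) : Dual3.IsGorensteinAt (j ≫ f) v ↔ Dual3.IsGorensteinAt f (j v) := by
  rw [Groth.AlgSpEt.isGorensteinAt_iff, Groth.AlgSpEt.isGorensteinAt_iff]
  refine and_congr ?_ (Iff.of_eq (Groth.AlgSpEt.etMor_gorFibre.precomp j f v))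
  have hbij : Function.Bijective (j.stalkMap v).hom := ConcreteCategory.bijective_of_isIso _
  let e : X.presheaf.stalk (j v) ≃+* V.presheaf.stalk v := RingEquiv.ofBijective _ hbij
  have hst : ((j ≫ f).stalkMap v).hom = e.toRingHom.comp (f.stalkMap (j v)).hom := by
    rw [Scheme.Hom.stalkMap_comp]; rfl
  constructor
  · intro h
    have h' : (e.symm.toRingHom.comp (e.toRingHom.comp (f.stalkMap (j v)).hom)).Flat :=
      (hst ▸ h).comp (RingHom.Flat.of_bijective e.symm.bijective)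
    have key : e.symm.toRingHom.comp (e.toRingHom.comp (f.stalkMap (j v)).hom) = (f.stalkMap (j v)).hom :=
      RingHom.ext fun a => e.symm_apply_apply _
    exact (congrArg RingHom.Flat key).mp h'
  · intro h
    rw [hst]
    exact h.comp (RingHom.Flat.of_bijective e.bijective)

theorem isLocallyNoetherian_fiber (f : X ⟶ Y) [LocallyOfFiniteType f] (y : Y) :
    IsLocallyNoetherian (f.fiber y) :=
  haveI : LocallyOfFiniteType (f.fiberToSpecResidueField y) :=
    inferInstanceAs (LocallyOfFiniteType (pullback.snd f (Y.fromSpecResidueField y)))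
  LocallyOfFiniteType.isLocallyNoetherian (f.fiberToSpecResidueField y)

theorem isGorensteinAt_of_smooth (p : Y ⟶ S) [Smooth p] (y : Y) : Dual3.IsGorensteinAt p y := by
  refine ⟨Flat.stalkMap p y, ?_⟩
  haveI := Groth.CMMor.isRegularLocalRing_stalk_fiber p (p y) (p.asFiber y)
  exact Groth.Agent.S0342.result _

/-- Gorenstein points of a chart over affine space are Gorenstein points over the base, and conversely at flat points. -/
theorem isGorensteinAt_chart (f : X ⟶ S) [LocallyOfFiniteType f] {d : ℕ} (U : X.Opens)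
    (g : (U : Scheme.{u}) ⟶ 𝔸(ULift.{u} (Fin d); S))
    (hg : g ≫ (𝔸(ULift.{u} (Fin d); S) ↘ S) = U.ι ≫ f) (u : (U : Scheme.{u})) :
    (Dual3.IsGorensteinAt g u → Dual3.IsGorensteinAt f u.1) ∧
      (Dual3.IsGorensteinAt f u.1 → (g.stalkMap u).hom.Flat → Dual3.IsGorensteinAt g u) := by
  let p := 𝔸(ULift.{u} (Fin d); S) ↘ S
  haveI : Smooth p := Groth.GrpschAbsch.smooth_affineSpace _ S
  haveI : LocallyOfFiniteType (g ≫ p) := hg ▸ inferInstance
  have hiff : Dual3.IsGorensteinAt (g ≫ p) u ↔ Dual3.IsGorensteinAt f u.1 := by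
    rw [show g ≫ p = U.ι ≫ f from hg]
    exact isGorensteinAt_openImmersion_comp U.ι f u
  obtain ⟨h1, h2⟩ := isGorensteinAt_comp g p (isLocallyNoetherian_fiber p) (isLocallyNoetherian_fiber (g ≫ p)) u
  exact ⟨fun h => hiff.1 (h1 h (isGorensteinAt_of_smooth p _)), fun h hflat => (h2 (hiff.2 h) hflat).1⟩

theorem isCMAt_of_isGorensteinAt {f : X ⟶ S} {x : X} (h : Dual3.IsGorensteinAt f x) : MoreMor.IsCMAt f x :=
  haveI := h.2
  ⟨h.1, Groth.Agent.S0341.result _⟩

/-- Around a Gorenstein point there is a quasi-finite Gorenstein chart, all of whose points are Gorenstein. -/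
theorem exists_gorenstein_chart (f : X ⟶ S) [LocallyOfFinitePresentation f] (x : X) {d : ℕ}
    (hd : FlatMor.fibreDimAt f x = d) (h : Dual3.IsGorensteinAt f x) :
    ∃ (U : X.Opens) (g : (U : Scheme.{u}) ⟶ 𝔸(ULift.{u} (Fin d); S)), x ∈ U ∧
      g ≫ (𝔸(ULift.{u} (Fin d); S) ↘ S) = U.ι ≫ f ∧ LocallyQuasiFinite g ∧ Dual3.IsGorensteinMor g := by
  obtain ⟨U, g, hxU, hg, hqf, hfp, hiff⟩ := Groth.CMMor.exists_cm_chart f x d hd.le
  haveI : LocallyOfFinitePresentation (g ≫ (𝔸(ULift.{u} (Fin d); S) ↘ S)) := hg ▸ inferInstance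
  let O : (U : Scheme.{u}).Opens := ⟨_, Groth.CMMor.isOpen_flat_stalkMap g⟩
  haveI : Flat (O.ι ≫ g) := Flat.of_stalkMap _ fun o => by
    rw [Scheme.Hom.stalkMap_comp]
    exact RingHom.Flat.comp o.2 (RingHom.Flat.of_bijective (ConcreteCategory.bijective_of_isIso (O.ι.stalkMap o)))
  have hflat : (g.stalkMap ⟨x, hxU⟩).hom.Flat := (hiff _).2 ⟨isCMAt_of_isGorensteinAt h, hd⟩
  let o₀ : (O : Scheme.{u}) := ⟨⟨x, hxU⟩, hflat⟩
  let G : (O : Scheme.{u}).Opens := ⟨_, isOpen_gorFibre_qf (O.ι ≫ g)⟩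
  have hG : ∀ o : (O : Scheme.{u}), o ∈ G ↔ Dual3.IsGorensteinAt g o.1 := fun o => by
    show Groth.AlgSpEt.GorFibre _ _ (O.ι ≫ g) o ↔ _
    have h1 := isGorensteinAt_openImmersion_comp O.ι g o
    rw [Groth.AlgSpEt.isGorensteinAt_iff] at h1
    exact (and_iff_right (Flat.stalkMap (O.ι ≫ g) o)).symm.trans h1
  let U' : X.Opens := U.ι ''ᵁ O.ι ''ᵁ G
  have hle : U' ≤ U := by
    rintro _ ⟨u, -, rfl⟩
    exact u.2
  refine ⟨U', X.homOfLE hle ≫ g, ⟨⟨x, hxU⟩, ⟨o₀, (hG o₀).2 ((isGorensteinAt_chart f U g hg ⟨x, hxU⟩).2 h hflat), rfl⟩, rfl⟩,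
    by rw [Category.assoc, hg, ← Category.assoc, Scheme.homOfLE_ι], inferInstance, fun v => ?_⟩
  rw [isGorensteinAt_openImmersion_comp (X.homOfLE hle) g v]
  obtain ⟨v, hv'⟩ := v
  obtain ⟨u, ⟨o, ho, rfl⟩, rfl⟩ := id hv'
  have heq : (X.homOfLE hle) ⟨U.ι (O.ι o), hv'⟩ = O.ι o := U.ι.injective (by
    rw [← Scheme.Hom.comp_apply, Scheme.homOfLE_ι]
    rfl)
  exact (congrArg (Dual3.IsGorensteinAt g) heq).mpr ((hG o).1 ho)

theorem isOpen_isGorensteinAt (f : X ⟶ S) [LocallyOfFinitePresentation f] :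
    IsOpen {x : X | Dual3.IsGorensteinAt f x} := by
  rw [isOpen_iff_forall_mem_open]
  intro x hx
  obtain ⟨d, hd⟩ := Groth.CMMor.exists_fibreDimAt_eq_nat f x
  obtain ⟨U, g, hxU, hg, -, hgor⟩ := exists_gorenstein_chart f x hd hx
  exact ⟨U, fun y hy => (isGorensteinAt_chart f U g hg ⟨y, hy⟩).1 (hgor _), U.isOpen, hxU⟩

/-- Morphisms to affine space which are quasi-finite at a point. -/
theorem isGorensteinAt_of_quasiFiniteAt (f : X ⟶ S) [LocallyOfFinitePresentation f] {d : ℕ} (U : X.Opens)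
    (g : (U : Scheme.{u}) ⟶ 𝔸(ULift.{u} (Fin d); S))
    (hg : g ≫ (𝔸(ULift.{u} (Fin d); S) ↘ S) = U.ι ≫ f) (u : (U : Scheme.{u}))
    (hqf : Dual3.QuasiFiniteAt g u) (hd : FlatMor.fibreDimAt f u.1 = d) (h : Dual3.IsGorensteinAt f u.1) :
    Dual3.IsGorensteinAt g u := by
  let p := 𝔸(ULift.{u} (Fin d); S) ↘ S
  haveI : LocallyOfFinitePresentation (g ≫ p) := hg ▸ inferInstance
  haveI : LocallyOfFiniteType g := locallyOfFiniteType_of_comp g p
  let W : (U : Scheme.{u}).Opens := g.quasiFiniteLocus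
  have huW : u ∈ W := Scheme.Hom.mem_quasiFiniteLocus.2
    (Scheme.Hom.quasiFiniteAt_iff_isOpen_singleton_asFiber.2 hqf)
  let w : (W : Scheme.{u}) := ⟨u, huW⟩
  haveI : LocallyOfFinitePresentation ((W.ι ≫ g) ≫ p) := by rw [Category.assoc]; infer_instance
  refine (isGorensteinAt_chart f U g hg u).2 h ?_
  have hflat : ((W.ι ≫ g).stalkMap w).hom.Flat := by
    rw [Groth.CMMor.flat_stalkMap_iff_isCMAt, Category.assoc, Groth.CMMor.isCMAt_openImmersion_comp,
      Groth.FibreDim.fibreDimAt_openImmersion_comp, show g ≫ p = U.ι ≫ f from hg,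
      Groth.CMMor.isCMAt_openImmersion_comp, Groth.FibreDim.fibreDimAt_openImmersion_comp]
    exact ⟨isCMAt_of_isGorensteinAt h, hd⟩
  have hbij : Function.Bijective (W.ι.stalkMap w).hom := ConcreteCategory.bijective_of_isIso _
  let e := RingEquiv.ofBijective _ hbij
  have hst : ((W.ι ≫ g).stalkMap w).hom = e.toRingHom.comp (g.stalkMap u).hom := by
    rw [Scheme.Hom.stalkMap_comp]; rfl
  have h' : (e.symm.toRingHom.comp (e.toRingHom.comp (g.stalkMap u).hom)).Flat :=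
    (hst ▸ hflat).comp (RingHom.Flat.of_bijective e.symm.bijective)
  have key : e.symm.toRingHom.comp (e.toRingHom.comp (g.stalkMap u).hom) = (g.stalkMap u).hom :=
    RingHom.ext fun a => e.symm_apply_apply _
  exact (congrArg RingHom.Flat key).mp h'

end Groth.Dual3Gor
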