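import Groth.Agent.Calg1.DualSchLocal
import Groth.Prelude.Def_Dual3

/-!
# Charts of dualizing complexes on schemes
-/

set_option autoImplicit false

universe u

open CategoryTheory CategoryTheory.Limits AlgebraicGeometry
attribute [local instance] HasDerivedCategory.standard

namespace Groth.Dual3Gor

set_option backward.isDefEq.respectTransparency.types false in
/-- The stalk of a scheme at a point of a chart is the localization. -/
theorem nonempty_stalk_chart {A : Type u} [CommRing A] {X : Scheme.{u}} (j : Spec (CommRingCat.of A) ⟶ X)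
    [IsOpenImmersion j] (p : PrimeSpectrum A) :
    Nonempty (X.presheaf.stalk (j p) ≃+* Localization.AtPrime p.asIdeal) := by
  haveI : IsLocalization.AtPrime ((Spec.structureSheaf A).presheaf.stalk p) p.asIdeal := inferInstance
  exact ⟨(asIso (j.stalkMap p)).commRingCatIsoToRingEquiv.trans
    (IsLocalization.algEquiv p.asIdeal.primeCompl ((Spec.structureSheaf A).presheaf.stalk p)
      (Localization.AtPrime p.asIdeal)).toRingEquiv⟩

/-- Some cohomology sheaf of a dualizing complex is nonzero at every point. -/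
theorem exists_nontrivial_stalk_HD (X : Scheme.{u}) [IsLocallyNoetherian X]
    [∀ (U : Scheme.{u}) (j : U ⟶ X) [IsOpenImmersion j], PreservesFiniteLimits (Scheme.Modules.restrictFunctor j)]
    [∀ (R : CommRingCat.{u}), PreservesFiniteLimits (tilde.functor R)] (K : DCoh.D X)
    (hK : Dual2.IsDualizingSch X K) (x : X) : ∃ i : ℤ, Nontrivial ((DCoh.HD K i).presheaf.stalk x) := by
  obtain ⟨U, hU, hxU, -⟩ := X.isBasis_affineOpens.exists_subset_of_mem_open (Set.mem_univ x) isOpen_univ
  obtain ⟨U, hUa, rfl⟩ := hU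
  have : IsNoetherianRing Γ(X, U) := IsLocallyNoetherian.component_noetherian ⟨U, hUa⟩
  let j : Spec (CommRingCat.of Γ(X, U)) ⟶ X := hUa.fromSpec
  have : IsOpenImmersion j := hUa.isOpenImmersion_fromSpec
  obtain ⟨ω', hω', ⟨e⟩⟩ := hK Γ(X, U) j
  obtain ⟨p, rfl⟩ : x ∈ Set.range j := by rw [hUa.range_fromSpec]; exact hxU
  obtain ⟨i, hi⟩ := Groth.Calg1.DualSch.exists_nontrivial_localized_HD ω' hω' p.asIdeal
  exact ⟨i, (Groth.Calg1.DualSch.nontrivial_stalk_chart K j ω' e p i).2 hi⟩

theorem subsingleton_stalk_HD_inD {X : Scheme.{u}} (ω : X.Modules) (k : ℤ) (hk : k ≠ 0) (x : X) :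
    Subsingleton ((DCoh.HD (DCoh.inD X ω) k).presheaf.stalk x) := by
  have hz : IsZero (DCoh.HD (DCoh.inD X ω) k) := by
    rcases lt_or_gt_of_ne hk with h | h
    · exact DerivedCategory.isZero_of_isGE ((DerivedCategory.singleFunctor X.Modules 0).obj ω) 0 k h
    · exact DerivedCategory.isZero_of_isLE ((DerivedCategory.singleFunctor X.Modules 0).obj ω) 0 k h
  have hP : IsZero (DCoh.HD (DCoh.inD X ω) k).presheaf := (Scheme.Modules.toPresheaf X).map_isZero hz
  have : IsZero ((TopCat.Presheaf.stalkFunctor AddCommGrpCat.{u} x).obj (DCoh.HD (DCoh.inD X ω) k).presheaf) :=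
    Functor.map_isZero _ hP
  exact AddCommGrpCat.subsingleton_of_isZero this

end Groth.Dual3Gor
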