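import Mathlib.RingTheory.Noetherian.Basic
import Mathlib.RingTheory.Finiteness.Cardinality
import Mathlib.Algebra.Module.Injective
import Mathlib.LinearAlgebra.Isomorphisms
import Mathlib.LinearAlgebra.StdBasis

/-!
Finiteness of the cohomology of `Hom(N, J)` for a bounded below complex of injective modules `J` with
finite cohomology and a finite module `N` over a Noetherian ring (dimension shifting in `N`).
-/

universe u

namespace Groth.Dual3Gor.HomFin

variable {A : Type u} [CommRing A]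

lemma exists_desc {F N M : Type u} [AddCommGroup F] [Module A F] [AddCommGroup N] [Module A N]
    [AddCommGroup M] [Module A M] (π : F →ₗ[A] N) (hπ : Function.Surjective π) (f : F →ₗ[A] M)
    (hf : LinearMap.ker π ≤ LinearMap.ker f) : ∃ g : N →ₗ[A] M, g ∘ₗ π = f := by
  refine ⟨(LinearMap.ker π).liftQ f hf ∘ₗ (π.quotKerEquivOfSurjective hπ).symm.toLinearMap, ?_⟩
  ext x
  simp only [LinearMap.comp_apply, LinearEquiv.coe_coe]
  rw [show (π.quotKerEquivOfSurjective hπ).symm (π x) = Submodule.Quotient.mk x from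
    (π.quotKerEquivOfSurjective hπ).symm_apply_eq.2 rfl]
  rfl

variable [IsNoetherianRing A] (J : ℤ → Type u) [∀ n, AddCommGroup (J n)] [∀ n, Module A (J n)]
  (d : ∀ n, J n →ₗ[A] J (n + 1))

/-- The cohomology in degree `n + 1` of `Hom(N, J)` is finite. -/
def Fin' (N : Type u) [AddCommGroup N] [Module A N] (n : ℤ) : Prop :=
  ∃ S : Set (N →ₗ[A] J (n + 1)), S.Finite ∧ (∀ s ∈ S, d (n + 1) ∘ₗ s = 0) ∧
    ∀ φ : N →ₗ[A] J (n + 1), d (n + 1) ∘ₗ φ = 0 →
      ∃ y ∈ Submodule.span A S, ∃ ψ : N →ₗ[A] J n, φ = y + d n ∘ₗ ψ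

variable {J d}

theorem fin'_step (hd : ∀ n, d (n + 1) ∘ₗ d n = 0) (hinj : ∀ n, Module.Injective A (J n))
    (hfin : ∀ n, ∃ T : Set (J (n + 1)), T.Finite ∧
      ∀ x, d (n + 1) x = 0 → x ∈ Submodule.span A T ⊔ LinearMap.range (d n))
    (n : ℤ) (ih : ∀ (N : Type u) [AddCommGroup N] [Module A N] [Module.Finite A N], Fin' J d N n)
    (N : Type u) [AddCommGroup N] [Module A N] [Module.Finite A N] : Fin' J d N (n + 1) := by
  classical
  obtain ⟨r, π, hπ⟩ := Module.Finite.exists_fin' A N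
  let K := LinearMap.ker π
  haveI : Module.Finite A K := Module.IsNoetherian.finite A K
  obtain ⟨S', hS'f, hS'c, hS'⟩ := ih K
  -- extensions of the generators to the free module, and their descended coboundaries
  have hext : ∀ s : S', ∃ (e : (Fin r → A) →ₗ[A] J (n + 1)) (σ : N →ₗ[A] J (n + 1 + 1)),
      e ∘ₗ K.subtype = s.1 ∧ σ ∘ₗ π = d (n + 1) ∘ₗ e := fun s => by
    obtain ⟨e, he⟩ := (hinj (n + 1)).out K.subtype K.injective_subtype s.1
    obtain ⟨σ, hσ⟩ := exists_desc π hπ (d (n + 1) ∘ₗ e) fun x hx => by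
      have := LinearMap.congr_fun (hS'c s.1 s.2) ⟨x, hx⟩
      simpa [← he] using this
    exact ⟨e, σ, LinearMap.ext he, hσ⟩
  choose e σ he hσ using hext
  haveI : Finite S' := hS'f.to_subtype
  -- the map to the cohomology of the free module
  let Z : Submodule A (N →ₗ[A] J (n + 1 + 1)) :=
    LinearMap.ker (LinearMap.compRight (S := A) (d (n + 1 + 1)))
  let L : Z →ₗ[A] Fin r → (J (n + 1 + 1) ⧸ LinearMap.range (d (n + 1))) :=
    LinearMap.pi fun k => (LinearMap.range (d (n + 1))).mkQ ∘ₗ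
      LinearMap.applyₗ (π (Pi.single k 1)) ∘ₗ Z.subtype
  obtain ⟨T, hTf, hT⟩ := hfin (n + 1)
  let W : Submodule A (Fin r → (J (n + 1 + 1) ⧸ LinearMap.range (d (n + 1)))) :=
    Submodule.pi Set.univ fun _ => (Submodule.span A T).map (LinearMap.range (d (n + 1))).mkQ
  have hW : W.FG := Submodule.fg_pi fun _ => (Submodule.fg_span hTf).map _
  have hLW : LinearMap.range L ≤ W := by
    rintro _ ⟨φ, rfl⟩ k -
    obtain ⟨t, ht, y, hy, hty⟩ := Submodule.mem_sup.1 (hT (φ.1 (π (Pi.single k 1)))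
      (LinearMap.congr_fun φ.2 _))
    refine ⟨t, ht, ?_⟩
    change _ = Submodule.Quotient.mk (φ.1 (π (Pi.single k 1)))
    refine (Submodule.Quotient.eq _).2 ?_
    rw [← hty, sub_add_cancel_left]
    exact neg_mem hy
  haveI : IsNoetherian A W := isNoetherian_of_fg_of_noetherian _ hW
  have hLfg : (LinearMap.range L).FG := by
    have h := (IsNoetherian.noetherian ((LinearMap.range L).comap W.subtype)).map W.subtype
    rwa [Submodule.map_comap_subtype, inf_eq_right.2 hLW] at h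
  obtain ⟨G, hGf, hG⟩ := Submodule.fg_def.1 hLfg
  choose lift hlift using fun g : G => (hG.le (Submodule.subset_span g.2) : g.1 ∈ LinearMap.range L)
  haveI : Finite G := hGf.to_subtype
  refine ⟨Set.range σ ∪ Set.range (fun g => (lift g).1),
    (Set.finite_range σ).union (Set.finite_range _), ?_, fun φ hφ => ?_⟩
  · rintro _ (⟨s, rfl⟩ | ⟨g, rfl⟩)
    · refine LinearMap.ext fun x => ?_
      obtain ⟨x, rfl⟩ := hπ x
      have := LinearMap.congr_fun (hσ s) x
      simp only [LinearMap.comp_apply] at this ⊢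
      rw [this]
      exact LinearMap.congr_fun (hd (n + 1)) _
    · exact (lift g).2
  let Sσ := Submodule.span A (Set.range σ ∪ Set.range (fun g => (lift g).1))
  -- reduce to a cocycle with trivial image
  obtain ⟨y₁, hy₁, hy₁'⟩ : ∃ y ∈ Submodule.span A (Set.range lift), L ⟨φ, hφ⟩ = L y := by
    have : L ⟨φ, hφ⟩ ∈ (Submodule.span A (Set.range lift)).map L := by
      rw [Submodule.map_span]
      refine Submodule.span_mono ?_ (hG.ge ⟨_, rfl⟩)
      exact fun g hg => ⟨lift ⟨g, hg⟩, ⟨_, rfl⟩, hlift ⟨g, hg⟩⟩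
    obtain ⟨y, hy, hy'⟩ := this
    exact ⟨y, hy, hy'.symm⟩
  have hy₁S : y₁.1 ∈ Sσ := by
    have := Submodule.mem_map_of_mem (f := Z.subtype) hy₁
    rw [Submodule.map_span] at this
    refine Submodule.span_mono ?_ this
    rintro _ ⟨_, ⟨g, rfl⟩, rfl⟩
    exact Or.inr ⟨g, rfl⟩
  have hker : ∀ k, (φ - y₁.1) (π (Pi.single k 1)) ∈ LinearMap.range (d (n + 1)) := fun k => by
    rw [LinearMap.sub_apply]
    exact (Submodule.Quotient.eq _).1 (congrFun hy₁' k)
  choose x hx using hker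
  let θ : (Fin r → A) →ₗ[A] J (n + 1) := (Pi.basisFun A (Fin r)).constr A x
  have hθ : d (n + 1) ∘ₗ θ = (φ - y₁.1) ∘ₗ π := (Pi.basisFun A (Fin r)).ext fun k => by
    simp only [LinearMap.comp_apply, θ, Module.Basis.constr_basis]
    rw [hx k, Pi.basisFun_apply]
  obtain ⟨y₂, hy₂, ψ', hψ'⟩ := hS' (θ ∘ₗ K.subtype) (LinearMap.ext fun z => by
    have h := LinearMap.congr_fun hθ z.1
    rw [LinearMap.comp_apply, LinearMap.comp_apply, show π z.1 = 0 from z.2, map_zero] at h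
    simpa using h)
  let M : Submodule A ((Fin r → A) →ₗ[A] J (n + 1)) :=
    (Sσ.map (LinearMap.lcomp A (J (n + 1 + 1)) π)).comap (LinearMap.compRight (S := A) (d (n + 1)))
  obtain ⟨e₂, he₂M, he₂⟩ : y₂ ∈ M.map (LinearMap.lcomp A (J (n + 1)) K.subtype) := by
    refine Submodule.span_le.2 (fun s hs => ?_) hy₂
    exact ⟨e ⟨s, hs⟩, ⟨σ ⟨s, hs⟩, Submodule.subset_span (Or.inl ⟨_, rfl⟩), hσ ⟨s, hs⟩⟩, he ⟨s, hs⟩⟩
  obtain ⟨η₂, hη₂, hη₂'⟩ := he₂M
  obtain ⟨ψ, hψ⟩ := (hinj n).out K.subtype K.injective_subtype ψ'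
  obtain ⟨η, hη⟩ := exists_desc π hπ (θ - e₂ - d n ∘ₗ ψ) fun z hz => by
    have h := LinearMap.congr_fun hψ' ⟨z, hz⟩
    simp only [LinearMap.comp_apply, LinearMap.add_apply, Submodule.coe_subtype, ← he₂,
      ← hψ, LinearMap.lcomp_apply'] at h
    have hψz : ψ z = ψ' ⟨z, hz⟩ := hψ ⟨z, hz⟩
    simp [LinearMap.mem_ker, h, hψz]
  refine ⟨y₁.1 + η₂, add_mem hy₁S hη₂, η, ?_⟩
  refine LinearMap.ext fun w => ?_
  obtain ⟨z, rfl⟩ := hπ w
  have h1 := LinearMap.congr_fun hθ z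
  have h2 := LinearMap.congr_fun hη₂' z
  have h3 := LinearMap.congr_fun hη z
  have h4 := LinearMap.congr_fun (hd n) (ψ z)
  simp only [LinearMap.comp_apply, LinearMap.sub_apply, LinearMap.lcomp_apply',
    LinearMap.compRight_apply, LinearMap.add_apply, LinearMap.zero_apply] at h1 h2 h3 h4 ⊢
  rw [h3, map_sub, map_sub, h1, ← h2, h4]
  abel

/-- For every finite module and every degree. -/
theorem fin'_all (hd : ∀ n, d (n + 1) ∘ₗ d n = 0) (hinj : ∀ n, Module.Injective A (J n))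
    (hfin : ∀ n, ∃ T : Set (J (n + 1)), T.Finite ∧
      ∀ x, d (n + 1) x = 0 → x ∈ Submodule.span A T ⊔ LinearMap.range (d n))
    (a : ℤ) (hbd : ∀ n, n < a → Subsingleton (J n)) (n : ℤ)
    (N : Type u) [AddCommGroup N] [Module A N] [Module.Finite A N] : Fin' J d N n := by
  suffices key : ∀ (k : ℕ) (m : ℤ), m + 1 < a + k →
      ∀ (N : Type u) [AddCommGroup N] [Module A N] [Module.Finite A N], Fin' J d N m from
    key (n + 2 - a).toNat n (by omega) N
  intro k
  induction k with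
  | zero =>
    intro m hm N _ _ _
    haveI := hbd (m + 1) (by omega)
    exact ⟨∅, Set.finite_empty, by simp, fun φ _ =>
      ⟨0, zero_mem _, 0, LinearMap.ext fun x => Subsingleton.elim _ _⟩⟩
  | succ k ih =>
    intro m hm N _ _ _
    obtain ⟨m, rfl⟩ : ∃ m', m = m' + 1 := ⟨m - 1, by omega⟩
    exact fin'_step hd hinj hfin m (fun N _ _ _ => ih m (by omega) N) N

/-- Torsion elements: the cohomology of `Hom(A ⧸ I, J)` is finite. -/
theorem exists_finite_torsion (hd : ∀ n, d (n + 1) ∘ₗ d n = 0) (hinj : ∀ n, Module.Injective A (J n))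
    (hfin : ∀ n, ∃ T : Set (J (n + 1)), T.Finite ∧
      ∀ x, d (n + 1) x = 0 → x ∈ Submodule.span A T ⊔ LinearMap.range (d n))
    (a : ℤ) (hbd : ∀ n, n < a → Subsingleton (J n)) (I : Ideal A) (n : ℤ) :
    ∃ S : Set (J (n + 1)), S.Finite ∧ (∀ s ∈ S, d (n + 1) s = 0 ∧ ∀ b ∈ I, b • s = 0) ∧
      ∀ x, d (n + 1) x = 0 → (∀ b ∈ I, b • x = 0) →
        ∃ y ∈ Submodule.span A S, ∃ w : J n, (∀ b ∈ I, b • w = 0) ∧ x = y + d n w := by
  obtain ⟨S, hSf, hSc, hS⟩ := fin'_all hd hinj hfin a hbd n (A ⧸ I)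
  let one : A ⧸ I := Submodule.Quotient.mk 1
  have hkill : ∀ {m : ℤ} (f : (A ⧸ I) →ₗ[A] J m) (b : A), b ∈ I → b • f one = 0 := fun f b hb => by
    rw [← map_smul, show b • one = 0 from (Submodule.Quotient.mk_eq_zero _).2 (by simpa using hb),
      map_zero]
  refine ⟨(fun s => s one) '' S, hSf.image _, ?_, fun x hx hxI => ?_⟩
  · rintro _ ⟨s, hs, rfl⟩
    exact ⟨LinearMap.congr_fun (hSc s hs) one, hkill s⟩
  obtain ⟨φ, hφ⟩ : ∃ φ : (A ⧸ I) →ₗ[A] J (n + 1), φ one = x :=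
    ⟨Submodule.liftQ I (LinearMap.toSpanSingleton A _ x) fun b hb => by
      simpa [LinearMap.mem_ker] using hxI b hb, by
      change LinearMap.toSpanSingleton A _ x 1 = x
      simp⟩
  obtain ⟨y, hy, ψ, hψ⟩ := hS φ (LinearMap.ext fun q => by
    obtain ⟨c, rfl⟩ := Submodule.Quotient.mk_surjective _ q
    rw [LinearMap.comp_apply, show (Submodule.Quotient.mk c : A ⧸ I) = c • one from
      (congrArg _ (mul_one c).symm).trans (Submodule.Quotient.mk_smul I c 1), map_smul, hφ,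
      map_smul, hx, smul_zero, LinearMap.zero_apply])
  refine ⟨y one, ?_, ψ one, hkill ψ, by rw [← hφ, hψ]; rfl⟩
  exact (Submodule.map_span (LinearMap.applyₗ one) S).le ⟨y, hy, rfl⟩

end Groth.Dual3Gor.HomFin
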