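import Groth.Agent.Dual3Gor.HomOQCoh
import Groth.Agent.Dual3Gor.HomFin
import Groth.Agent.Dual3Deligne.Basic
import Groth.Agent.CohTwo.EssResolution
import Groth.Agent.CohTwo.QCohInjective
import Groth.Agent.CohTwo.QCohExt
import Groth.Agent.CohTwo.InjectiveSections
import Groth.Agent.QCohMod.QCohCatAbelian
import Groth.Agent.KTheory.RPlusBase
import Groth.Prelude.Def_Dual3

/-!
`R Hom(O_Z, -)` preserves quasi-coherent and coherent cohomology.
-/

universe u

open CategoryTheory CategoryTheory.Limits AlgebraicGeometry TopologicalSpace Opposite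

attribute [local instance] HasDerivedCategory.standard

namespace Groth.Dual3Gor.RHomO

open Groth.QCohMod (appₗ appₗ_apply app_injective_of_mono)
open Groth.Dual3Gor.HomOQCoh (ε)

variable {Z X : Scheme.{u}}

/-- Sections of a zero module. -/
theorem subsingleton_sections {M : X.Modules} (h : IsZero M) (V : X.Opens) : Subsingleton Γ(M, V) :=
  ⟨fun a b => by
    have key : ∀ c : Γ(M, V), c = 0 := fun c =>
      (congr($(congrArg (fun φ : M ⟶ M => φ.app V) (h.eq_of_src (𝟙 M) 0)) c) :)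
    rw [key a, key b]⟩

/-- Evaluate an equation of morphisms on sections. -/
theorem app_eq {M N : X.Modules} {φ ψ : M ⟶ N} (h : φ = ψ) (U : X.Opens) (x : Γ(M, U)) :
    φ.app U x = ψ.app U x := by rw [h]

variable [IsLocallyNoetherian X]

/-- A bounded below object with quasi-coherent cohomology is a complex of quasi-coherent injectives. -/
theorem exists_qcoh_injective (K : DerivedCategory.Plus X.Modules) (hK : DCoh.IsQCohD K.obj) :
    ∃ (J : CochainComplex.Plus X.Modules), (∀ n, Injective (J.obj.X n)) ∧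
      (∀ n, (J.obj.X n).IsQuasicoherent) ∧
      Nonempty (DerivedCategory.Plus.Qh.obj ((HomotopyCategory.Plus.quotient X.Modules).obj J) ≅ K) := by
  let ι := (QCohCat.isQCoh X).ι
  haveI : PreservesFiniteColimits ι := PreservesColimitsOfSize.preservesFiniteColimits.{u, u} _
  obtain ⟨a, ha⟩ := K.property
  haveI : DerivedCategory.IsGE K.obj a := ha
  obtain ⟨I, hI, hinj, ⟨e⟩⟩ := Groth.CohTwo.EssResolution.exists_iso ι
    (fun S hS h₁ h₃ => by
      obtain ⟨M₁, ⟨e₁⟩⟩ := h₁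
      obtain ⟨M₃, ⟨e₃⟩⟩ := h₃
      haveI : S.X₁.IsQuasicoherent := (Groth.QCohMod.isQCoh_iff_of_iso e₁).1 M₁.2
      haveI : S.X₃.IsQuasicoherent := (Groth.QCohMod.isQCoh_iff_of_iso e₃).1 M₃.2
      exact ⟨⟨S.X₂, Groth.CohTwo.QCohExt.isQCoh_of_shortExact hS⟩, ⟨Iso.refl _⟩⟩)
    (fun M => by
      haveI : M.obj.IsQuasicoherent := M.2
      obtain ⟨Q, β, hβ, hq, hQ⟩ := Groth.CohTwo.QCohInj.exists_mono_qcoh_injective M.obj
      exact ⟨⟨Q, hq⟩, ObjectProperty.homMk β, ι.mono_of_mono_map hβ, hQ⟩)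
    K.obj a (fun n => ⟨⟨_, hK n⟩, ⟨Iso.refl _⟩⟩)
  let J : CochainComplex.Plus X.Modules :=
    ⟨(ι.mapHomologicalComplex (ComplexShape.up ℤ)).obj I, a,
      (CochainComplex.isStrictlyGE_mapHomologicalComplex_obj_iff _ _ _).2 hI⟩
  refine ⟨J, hinj, fun n => (I.X n).2, ⟨DerivedCategory.Plus.ι.preimageIso ?_⟩⟩
  exact (DerivedCategory.quotientCompQhIso X.Modules).app J.obj ≪≫
    (ι.mapDerivedCategoryFactors.app I).symm ≪≫ e

variable (i : Z ⟶ X) [Dual3.HasHomO i] [EnoughInjectives X.Modules]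

/-- The cohomology of `R Hom(O_Z, K)` from a complex of injectives. -/
theorem nonempty_hd_iso {K : DerivedCategory.Plus X.Modules} (J : CochainComplex.Plus X.Modules)
    (hJ : ∀ n, Injective (J.obj.X n))
    (e : DerivedCategory.Plus.Qh.obj ((HomotopyCategory.Plus.quotient X.Modules).obj J) ≅ K) (n : ℤ) :
    Nonempty (DCoh.HD ((Dual3.RHomOPlus i).obj K).obj n ≅
      (((Dual3.homO i).mapHomologicalComplex (ComplexShape.up ℤ)).obj J.obj).homology n) := by
  haveI := Groth.Agent.RPlusBase.isIso_unit_of_injective (Dual3.homO i) J hJ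
  let c : ((Dual3.RHomOPlus i).obj K).obj ≅
      DerivedCategory.Q.obj (((Dual3.homO i).mapHomologicalComplex (ComplexShape.up ℤ)).obj J.obj) :=
    DerivedCategory.Plus.ι.mapIso ((Dual3.RHomOPlus i).mapIso e.symm ≪≫
      (asIso ((Dual3.homO i).rightDerivedFunctorPlusUnit.app
        ((HomotopyCategory.Plus.quotient X.Modules).obj J))).symm) ≪≫
    (DerivedCategory.quotientCompQhIso Z.Modules).app _
  exact ⟨(DerivedCategory.homologyFunctor Z.Modules n).mapIso c ≪≫
    (DerivedCategory.homologyFunctorFactors Z.Modules n).app _⟩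

variable [IsClosedImmersion i]

/-- `R Hom(O_Z, -)` preserves quasi-coherent cohomology. -/
theorem isQCohD (K : DerivedCategory.Plus X.Modules) (hK : DCoh.IsQCohD K.obj) :
    DCoh.IsQCohD ((Dual3.RHomOPlus i).obj K).obj := fun n => by
  obtain ⟨J, hJ, hJq, ⟨e⟩⟩ := exists_qcoh_injective K hK
  obtain ⟨c⟩ := nonempty_hd_iso i J hJ e n
  haveI : ∀ q, ((((Dual3.homO i).mapHomologicalComplex (ComplexShape.up ℤ)).obj J.obj).X q).IsQuasicoherent :=
    fun q => haveI := hJq q; Groth.Dual3Gor.HomOQCoh.isQCoh_homO i (J.obj.X q)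
  exact (Groth.QCohMod.isQCoh_iff_of_iso c).2 (Groth.Dual3Deligne.isQCoh_homology _ n)

/-- Over an affine open the cohomology of a complex with quasi-coherent terms and coherent cohomology is
generated by finitely many cocycles. -/
theorem exists_finite_cocycles (F : CochainComplex X.Modules ℤ) [∀ q, (F.X q).IsQuasicoherent]
    (hF : ∀ q, Coh.IsCoh (F.homology q)) {U : X.Opens} (hU : IsAffineOpen U) (n : ℤ) :
    ∃ T : Set Γ(F.X (n + 1), U), T.Finite ∧
      ∀ x, appₗ (F.d (n + 1) (n + 1 + 1)) U x = 0 →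
        x ∈ Submodule.span Γ(X, U) T ⊔ LinearMap.range (appₗ (F.d n (n + 1)) U) := by
  haveI := (hF (n + 1)).1
  haveI := Groth.QCohMod.finite_sections _ (hF (n + 1)).2 hU
  obtain ⟨G, hG⟩ := (Module.Finite.fg_top : (⊤ : Submodule Γ(X, U) Γ(F.homology (n + 1), U)).FG)
  choose z hz using fun g : Γ(F.homology (n + 1), U) =>
    Groth.Dual3Deligne.surjective_homologyπ_app F (n + 1) hU g
  refine ⟨appₗ (F.iCycles (n + 1)) U '' (z '' G), (G.finite_toSet.image _).image _, fun x hx => ?_⟩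
  obtain ⟨w, rfl⟩ := Groth.Dual3Deligne.exists_iCycles_app_eq F (n + 1) x hx
  obtain ⟨y, hy, hy'⟩ : ∃ y ∈ Submodule.span Γ(X, U) (z '' G),
      appₗ (F.homologyπ (n + 1)) U y = appₗ (F.homologyπ (n + 1)) U w := by
    have h1 : appₗ (F.homologyπ (n + 1)) U w ∈
        (Submodule.span Γ(X, U) (z '' G)).map (appₗ (F.homologyπ (n + 1)) U) := by
      rw [Submodule.map_span]
      have h2 : appₗ (F.homologyπ (n + 1)) U w ∈ (⊤ : Submodule Γ(X, U) _) := trivial
      rw [← hG] at h2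
      refine Submodule.span_mono (s := (G : Set Γ(F.homology (n + 1), U))) (fun g hg => ?_) h2
      exact ⟨z g, Set.mem_image_of_mem z hg, hz g⟩
    exact h1
  refine Submodule.mem_sup.2 ⟨appₗ (F.iCycles (n + 1)) U y,
    (Submodule.map_span (appₗ (F.iCycles (n + 1)) U) (z '' G)).le (Submodule.mem_map_of_mem hy),
    appₗ (F.iCycles (n + 1)) U (w - y), ?_,
    by rw [map_sub, appₗ_apply, appₗ_apply, add_sub_cancel]⟩
  have hS : (ShortComplex.mk (F.toCycles n (n + 1)) (F.homologyπ (n + 1))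
      (F.toCycles_comp_homologyπ n (n + 1))).Exact :=
    ShortComplex.exact_of_g_is_cokernel _ (F.homologyIsCokernel n (n + 1) (by simp))
  haveI := Groth.Dual3Deligne.isQCoh_cycles F (n + 1)
  haveI : (ShortComplex.mk (F.toCycles n (n + 1)) (F.homologyπ (n + 1))
      (F.toCycles_comp_homologyπ n (n + 1))).X₁.IsQuasicoherent := inferInstanceAs (F.X n).IsQuasicoherent
  haveI : (ShortComplex.mk (F.toCycles n (n + 1)) (F.homologyπ (n + 1))
      (F.toCycles_comp_homologyπ n (n + 1))).X₂.IsQuasicoherent := Groth.Dual3Deligne.isQCoh_cycles F (n + 1)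
  haveI : (ShortComplex.mk (F.toCycles n (n + 1)) (F.homologyπ (n + 1))
      (F.toCycles_comp_homologyπ n (n + 1))).X₃.IsQuasicoherent :=
    Groth.Dual3Deligne.isQCoh_homology F (n + 1)
  obtain ⟨v, hv⟩ := Groth.QCohMod.exists_app_eq_of_exact hS hU (w - y)
    (by rw [← appₗ_apply, map_sub, hy', sub_self])
  refine ⟨v, ?_⟩
  rw [appₗ_apply, appₗ_apply, ← F.toCycles_i n (n + 1), ← hv]
  rfl

/-- `R Hom(O_Z, -)` preserves coherent cohomology. -/
theorem isCohD (K : DerivedCategory.Plus X.Modules) (hK : DCoh.IsCohD K.obj) :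
    DCoh.IsCohD ((Dual3.RHomOPlus i).obj K).obj := fun n => by
  obtain ⟨J, hJ, hJq, ⟨e⟩⟩ := exists_qcoh_injective K fun q => (hK q).1
  obtain ⟨c⟩ := nonempty_hd_iso i J hJ e n
  refine Groth.QCohMod.isCoh_of_iso c.symm ?_
  obtain ⟨m, rfl⟩ : ∃ m, n = m + 1 := ⟨n - 1, by omega⟩
  let C₀ := ((Dual3.homO i).mapHomologicalComplex (ComplexShape.up ℤ)).obj J.obj
  let P := Scheme.Modules.pushforward i
  let C := (P.mapHomologicalComplex (ComplexShape.up ℤ)).obj C₀
  haveI : ∀ q, (C.X q).IsQuasicoherent := fun q =>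
    haveI := hJq q; Groth.Dual3Gor.HomOQCoh.isQCoh_push_homO i (J.obj.X q)
  haveI := hJq
  have hH : ∀ q, Coh.IsCoh (J.obj.homology q) := fun q =>
    Groth.QCohMod.isCoh_of_iso
      ((DerivedCategory.homologyFunctor X.Modules q).mapIso (DerivedCategory.Plus.ι.mapIso e.symm ≪≫
        (DerivedCategory.quotientCompQhIso X.Modules).app J.obj) ≪≫
        (DerivedCategory.homologyFunctorFactors X.Modules q).app J.obj) (hK q)
  refine Groth.Dual3Gor.HomOQCoh.isCoh_of_push i _
    (Groth.QCohMod.isCoh_of_iso ((C₀.sc (m + 1)).mapHomologyIso P) ?_)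
  change Coh.IsCoh (C.homology (m + 1))
  refine (Groth.QCohMod.isCoh_iff _).2 ⟨Groth.Dual3Deligne.isQCoh_homology C (m + 1), fun U hU => ?_⟩
  haveI : IsNoetherianRing Γ(X, U) := IsLocallyNoetherian.component_noetherian ⟨U, hU⟩
  obtain ⟨a, ha⟩ := J.property
  obtain ⟨S, hSf, hSc, hS⟩ := Groth.Dual3Gor.HomFin.exists_finite_torsion
    (J := fun q => Γ(J.obj.X q, U)) (d := fun q => appₗ (J.obj.d q (q + 1)) U)
    (fun q => LinearMap.ext fun x => app_eq (J.obj.d_comp_d q (q + 1) (q + 1 + 1)) U x)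
    (fun q => haveI := hJ q; Groth.CohTwo.InjSec.injective_sections _ hU)
    (fun q => exists_finite_cocycles J.obj hH hU q) a
    (fun q hq => Groth.Dual3Gor.RHomO.subsingleton_sections
      (J.obj.isZero_of_isStrictlyGE a q hq) U)
    (i.ker.ideal ⟨U, hU⟩) m
  have hcomm : ∀ (p q : ℤ) (y : Γ(C.X p, U)), (ε i (J.obj.X q)).app U ((C.d p q).app U y) =
      (J.obj.d p q).app U ((ε i (J.obj.X p)).app U y) := fun p q y =>
    app_eq ((Dual3.homOAdj i).counit.naturality (J.obj.d p q)) U y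
  choose s hs using fun t : S => Groth.Dual3Gor.HomOQCoh.exists_ε_eq i _ ⟨U, hU⟩ t.1 (hSc t.1 t.2).2
  choose z hz using fun t : S => Groth.Dual3Deligne.exists_iCycles_app_eq C (m + 1) (s t) (by
    apply app_injective_of_mono (ε i (J.obj.X (m + 1 + 1))) U
    rw [hcomm, hs]
    exact (hSc t.1 t.2).1.trans (map_zero (appₗ (ε i (J.obj.X (m + 1 + 1))) U)).symm)
  haveI : Finite S := hSf.to_subtype
  refine ⟨Submodule.fg_def.2 ⟨Set.range fun t => appₗ (C.homologyπ (m + 1)) U (z t),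
    Set.finite_range _, top_le_iff.1 fun g _ => ?_⟩⟩
  obtain ⟨w, rfl⟩ := Groth.Dual3Deligne.surjective_homologyπ_app C (m + 1) hU g
  let x := (ε i (J.obj.X (m + 1))).app U ((C.iCycles (m + 1)).app U w)
  obtain ⟨y, hy, v, hv, hxy⟩ := hS x (by
    change (J.obj.d (m + 1) (m + 1 + 1)).app U x = 0
    rw [← hcomm]
    have : (C.d (m + 1) (m + 1 + 1)).app U ((C.iCycles (m + 1)).app U w) = 0 :=
      app_eq (C.iCycles_d (m + 1) (m + 1 + 1)) U w
    rw [this]
    exact map_zero (appₗ (ε i (J.obj.X (m + 1 + 1))) U))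
    (fun b hb => Groth.Dual3Gor.HomOQCoh.ε_killed i _ ⟨U, hU⟩ _ b hb)
  obtain ⟨v', hv'⟩ := Groth.Dual3Gor.HomOQCoh.exists_ε_eq i _ ⟨U, hU⟩ v hv
  obtain ⟨y', hy', hy''⟩ : ∃ y' ∈ Submodule.span Γ(X, U) (Set.range z),
      (ε i (J.obj.X (m + 1))).app U ((C.iCycles (m + 1)).app U y') = y := by
    have h : Submodule.span Γ(X, U) S ≤ (Submodule.span Γ(X, U) (Set.range z)).map
        ((appₗ (ε i (J.obj.X (m + 1))) U) ∘ₗ (appₗ (C.iCycles (m + 1)) U)) := by
      rw [Submodule.map_span]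
      refine Submodule.span_mono fun t ht => ⟨z ⟨t, ht⟩, ⟨_, rfl⟩, ?_⟩
      exact (congrArg _ (hz ⟨t, ht⟩)).trans (hs ⟨t, ht⟩)
    obtain ⟨y', h1, h2⟩ := h hy
    exact ⟨y', h1, h2⟩
  have hw : w = y' + (C.toCycles m (m + 1)).app U v' := by
    apply app_injective_of_mono (C.iCycles (m + 1)) U
    apply app_injective_of_mono (ε i (J.obj.X (m + 1))) U
    change x = _
    rw [hxy]
    refine Eq.trans ?_ (((congrArg (appₗ (ε i (J.obj.X (m + 1))) U) (map_add (appₗ (C.iCycles (m + 1)) U)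
      y' ((C.toCycles m (m + 1)).app U v'))).trans (map_add _ _ _))).symm
    simp only [appₗ_apply]
    rw [hy'']
    congr 1
    have : (C.iCycles (m + 1)).app U ((C.toCycles m (m + 1)).app U v') = (C.d m (m + 1)).app U v' :=
      app_eq (C.toCycles_i m (m + 1)) U v'
    rw [this, hcomm, hv']
  have h0 : (C.homologyπ (m + 1)).app U ((C.toCycles m (m + 1)).app U v') = 0 :=
    app_eq (C.toCycles_comp_homologyπ m (m + 1)) U v'
  change appₗ (C.homologyπ (m + 1)) U w ∈ _
  rw [hw, map_add, show appₗ (C.homologyπ (m + 1)) U ((C.toCycles m (m + 1)).app U v') = 0 from h0,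
    add_zero]
  have := Submodule.mem_map_of_mem (f := appₗ (C.homologyπ (m + 1)) U) hy'
  rw [Submodule.map_span, ← Set.range_comp] at this
  exact this

end Groth.Dual3Gor.RHomO
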