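import Groth.Agent.Dual3Gor.DeligneOpen
import Groth.Agent.Dual3Gor.RHomO
import Groth.Prelude.Def_Dual3

/-!
Deligne's formula `colim Hom(I^n F, L) = Hom(F|_U, L|_U)` for bounded complexes of coherent modules and bounded
below objects with coherent cohomology.
-/

universe u

open CategoryTheory CategoryTheory.Limits AlgebraicGeometry

attribute [local instance] HasDerivedCategory.standard

namespace Groth.Dual3Gor.DeligneHom

open Groth.Dual3Gor.DeligneOpen (exists_incl incl_unique eventually_exists eventually_zero isIso_restrict_ι)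

/-- Every morphism to a K-injective complex comes from a morphism of complexes. -/
theorem exists_Q_map_eq {C : Type*} [Category* C] [Abelian C] [HasDerivedCategory C]
    {A B : CochainComplex C ℤ} [B.IsKInjective] (α : DerivedCategory.Q.obj A ⟶ DerivedCategory.Q.obj B) :
    ∃ g : A ⟶ B, DerivedCategory.Q.map g = α := by
  let e := DerivedCategory.quotientCompQhIso C
  obtain ⟨h, hh⟩ := (CochainComplex.IsKInjective.Qh_map_bijective
    ((HomotopyCategory.quotient C (ComplexShape.up ℤ)).obj A) B).2 (e.hom.app A ≫ α ≫ e.inv.app B)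
  obtain ⟨g, rfl⟩ := (HomotopyCategory.quotient C (ComplexShape.up ℤ)).map_surjective h
  refine ⟨g, ?_⟩
  rw [← cancel_epi (e.hom.app A)]
  erw [← e.hom.naturality g]
  rw [Functor.comp_map, hh]
  simp

/-- Equal morphisms to a K-injective complex are homotopic. -/
theorem nonempty_homotopy {C : Type*} [Category* C] [Abelian C] [HasDerivedCategory C]
    {A B : CochainComplex C ℤ} [B.IsKInjective] {f g : A ⟶ B}
    (h : DerivedCategory.Q.map f = DerivedCategory.Q.map g) : Nonempty (Homotopy f g) := by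
  refine ⟨HomotopyCategory.homotopyOfEq f g ((CochainComplex.IsKInjective.Qh_map_bijective _ B).1 ?_)⟩
  let e := DerivedCategory.quotientCompQhIso C
  change (HomotopyCategory.quotient C (ComplexShape.up ℤ) ⋙ DerivedCategory.Qh).map f =
    (HomotopyCategory.quotient C (ComplexShape.up ℤ) ⋙ DerivedCategory.Qh).map g
  rw [← cancel_mono (e.hom.app B)]
  erw [e.hom.naturality f, e.hom.naturality g]
  rw [h]

variable {U X : Scheme.{u}}

/-- A uniform bound for eventually true properties which are trivial outside an interval. -/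
theorem exists_uniform (P : ℤ → ℕ → Prop) (lo hi : ℤ) (hout : ∀ q, q < lo ∨ hi < q → ∀ M, P q M)
    (hev : ∀ q, ∃ N, ∀ M, N ≤ M → P q M) : ∃ N, ∀ M, N ≤ M → ∀ q, P q M := by
  choose N hN using hev
  refine ⟨(Finset.Icc lo hi).sup N, fun M hM q => ?_⟩
  by_cases hq : q < lo ∨ hi < q
  · exact hout q hq M
  · exact hN q M ((Finset.le_sup (Finset.mem_Icc.2 ⟨by omega, by omega⟩)).trans hM)

variable [AlgebraicGeometry.IsNoetherian X] (j : U ⟶ X) [IsOpenImmersion j]
  [PreservesFiniteLimits (Scheme.Modules.restrictFunctor j)]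
  (I : X.IdealSheafData) (hI : I.supportSetᶜ = Set.range j)
  (F : CochainComplex X.Modules ℤ) (lo hi : ℤ) (hF : DCoh.VanishesOutside F lo hi)
  (hFc : ∀ q : ℤ, Coh.IsCoh (F.X q))
  (J : CochainComplex.Plus X.Modules) (hJ : ∀ q, Injective (J.obj.X q))
  (hJq : ∀ q, (J.obj.X q).IsQuasicoherent)

set_option quotPrecheck false
local notation "R" => Scheme.Modules.restrictFunctor j
local notation "R'" => (Scheme.Modules.restrictFunctor j).mapHomologicalComplex (ComplexShape.up ℤ)

omit [AlgebraicGeometry.IsNoetherian X] in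
include hF in
theorem isZero_deligne (M : ℕ) (q : ℤ) (hq : q < lo ∨ hi < q) :
    IsZero ((Dual3.idealMul (I ^ M)).obj (F.X q)) :=
  Functor.map_isZero _ (hF q hq)

omit [AlgebraicGeometry.IsNoetherian X] in
include hJ in
theorem isKInjective_restrict : CochainComplex.IsKInjective ((R').obj J.obj) := by
  obtain ⟨a, ha⟩ := J.property
  haveI : ∀ q, Injective (((R').obj J.obj).X q) := fun q =>
    haveI := hJ q
    Groth.CohTwo.injective_restrict j (J.obj.X q)
  haveI : CochainComplex.IsStrictlyGE ((R').obj J.obj) a := by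
    rw [CochainComplex.isStrictlyGE_iff]
    exact fun k hk => Functor.map_isZero (R) (J.obj.isZero_of_isStrictlyGE a k hk)
  exact CochainComplex.isKInjective_of_injective _ a

include hI hF hFc hJq in
/-- A morphism of complexes on the open extends to some `I^n F`. -/
theorem exists_chain_map (a : (R').obj F ⟶ (R').obj J.obj) :
    ∃ (n : ℕ) (ψ : (Dual3.deligne I n).obj F ⟶ J.obj),
      (R').map ψ = (R').map (Dual3.deligneι I n F) ≫ a := by
  haveI := hJq
  haveI hq : ∀ q, (F.X q).IsQuasicoherent := fun q => (hFc q).1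
  obtain ⟨M₁, hM₁⟩ := exists_uniform (fun q M => ∃ ψ : (Dual3.idealMul (I ^ M)).obj (F.X q) ⟶ J.obj.X q,
      (R).map ψ = (R).map (Dual3.idealMulι (I ^ M) (F.X q)) ≫ a.f q) lo hi
    (fun q hq M => ⟨0, (Functor.map_isZero (R) (isZero_deligne I F lo hi hF M q hq)).eq_of_src _ _⟩)
    (fun q => eventually_exists j I hI (J.obj.X q) (F.X q) (hFc q) (a.f q))
  choose ψ₁ hψ₁ using hM₁ M₁ le_rfl
  let D : ∀ q, (Dual3.idealMul (I ^ M₁)).obj (F.X q) ⟶ J.obj.X (q + 1) := fun q =>
    ψ₁ q ≫ J.obj.d q (q + 1) - (Dual3.idealMul (I ^ M₁)).map (F.d q (q + 1)) ≫ ψ₁ (q + 1)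
  have hD : ∀ q, (R).map (D q) = 0 := fun q => by
    simp only [D, Functor.map_sub, Functor.map_comp, hψ₁, sub_eq_zero]
    refine ((Category.assoc _ _ _).trans
      (congrArg ((R).map (Dual3.idealMulι (I ^ M₁) (F.X q)) ≫ ·) (a.comm q (q + 1)))).trans ?_
    refine (Category.assoc _ _ _).symm.trans ((congrArg (· ≫ a.f (q + 1)) ?_).trans (Category.assoc _ _ _))
    change (R).map (Dual3.idealMulι (I ^ M₁) (F.X q)) ≫ (R).map (F.d q (q + 1)) = _
    exact ((R).map_comp _ _).symm.trans ((congrArg (R).map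
      (Dual3.idealMul_map_ι (I ^ M₁) (F.d q (q + 1)))).symm.trans ((R).map_comp _ _))
  obtain ⟨M₂, hM₂⟩ := exists_uniform (fun q M =>
      ∀ t : (Dual3.idealMul (I ^ M)).obj (F.X q) ⟶ (Dual3.idealMul (I ^ M₁)).obj (F.X q),
      t ≫ Dual3.idealMulι (I ^ M₁) (F.X q) = Dual3.idealMulι (I ^ M) (F.X q) → t ≫ D q = 0) lo hi
    (fun q hq M t _ => (isZero_deligne I F lo hi hF M q hq).eq_of_src _ _)
    (fun q => by
      obtain ⟨N, _, hN⟩ := eventually_zero j I hI (J.obj.X (q + 1)) (F.X q) (hFc q) M₁ (D q) (hD q)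
      exact ⟨N, hN⟩)
  let n := max M₁ M₂
  choose t ht using fun q => exists_incl I (le_max_left M₁ M₂) (F.X q)
  refine ⟨n, { f := fun q => t q ≫ ψ₁ q, comm' := fun p q hpq => ?_ }, ?_⟩
  · obtain rfl : p + 1 = q := hpq
    have h := hM₂ n (le_max_right _ _) p (t p) (ht p)
    simp only [D, Preadditive.comp_sub, sub_eq_zero] at h
    have hcomm : t p ≫ (Dual3.idealMul (I ^ M₁)).map (F.d p (p + 1)) =
        (Dual3.idealMul (I ^ n)).map (F.d p (p + 1)) ≫ t (p + 1) := by
      apply incl_unique I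
      rw [Category.assoc, Dual3.idealMul_map_ι, Category.assoc, ht, ← Category.assoc, ht,
        Dual3.idealMul_map_ι]
    exact (Category.assoc _ _ _).trans (h.trans ((Category.assoc _ _ _).symm.trans
      ((congrArg (· ≫ ψ₁ (p + 1)) hcomm).trans (Category.assoc _ _ _))))
  · refine HomologicalComplex.hom_ext _ _ fun q => ?_
    change (R).map (t q ≫ ψ₁ q) = (R).map (Dual3.idealMulι (I ^ n) (F.X q)) ≫ a.f q
    rw [(R).map_comp, hψ₁]
    exact (Category.assoc _ _ _).symm.trans
      (congrArg (· ≫ a.f q) (((R).map_comp _ _).symm.trans (congrArg (R).map (ht q))))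

include hI hF hFc hJq in
/-- A homotopy on the open between maps out of `I^n F` extends to some `I^m F`. -/
theorem exists_homotopy (n : ℕ) (g : (Dual3.deligne I n).obj F ⟶ J.obj)
    (h : Homotopy ((R').map g) 0) :
    ∃ m : ℕ, n ≤ m ∧ ∀ t : (Dual3.deligne I m).obj F ⟶ (Dual3.deligne I n).obj F,
      t ≫ Dual3.deligneι I n F = Dual3.deligneι I m F → Nonempty (Homotopy (t ≫ g) 0) := by
  classical
  haveI := hJq
  haveI hq : ∀ q, (F.X q).IsQuasicoherent := fun q => (hFc q).1
  have hι := fun q => isIso_restrict_ι j I hI (F.X q) n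
  let h' : ∀ q p, (R).obj ((Dual3.idealMul (I ^ n)).obj (F.X q)) ⟶ (R).obj (J.obj.X p) := fun q p => h.hom q p
  obtain ⟨M₁, hM₁⟩ := exists_uniform (fun q M => n ≤ M →
      ∀ t : (Dual3.idealMul (I ^ M)).obj (F.X q) ⟶ (Dual3.idealMul (I ^ n)).obj (F.X q),
      t ≫ Dual3.idealMulι (I ^ n) (F.X q) = Dual3.idealMulι (I ^ M) (F.X q) →
      ∀ p, p + 1 = q → ∃ k : (Dual3.idealMul (I ^ M)).obj (F.X q) ⟶ J.obj.X p,
        (R).map k = (R).map t ≫ h' q p) lo hi
    (fun q hq M _ t _ p _ => ⟨0, (Functor.map_isZero (R) (isZero_deligne I F lo hi hF M q hq)).eq_of_src _ _⟩)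
    (fun q => by
      obtain ⟨N, hN⟩ := eventually_exists j I hI (J.obj.X (q - 1)) (F.X q) (hFc q)
        (inv ((R).map (Dual3.idealMulι (I ^ n) (F.X q))) ≫ h' q (q - 1))
      refine ⟨N, fun M hM _ t ht p hp => ?_⟩
      obtain rfl : p = q - 1 := by omega
      obtain ⟨k, hk⟩ := hN M hM
      refine ⟨k, hk.trans ?_⟩
      rw [← ht, (R).map_comp, Category.assoc, IsIso.hom_inv_id_assoc])
  let M' := max M₁ n
  choose t₁ ht₁ using fun q => exists_incl I (le_max_right M₁ n) (F.X q)
  choose k hk using fun q p (hp : p + 1 = q) => hM₁ M' (le_max_left _ _) q (le_max_right _ _) (t₁ q) (ht₁ q) p hp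
  let D : ∀ q, (Dual3.idealMul (I ^ M')).obj (F.X q) ⟶ J.obj.X q := fun q =>
    t₁ q ≫ g.f q - ((Dual3.idealMul (I ^ M')).map (F.d q (q + 1)) ≫ k (q + 1) q rfl +
      k q (q - 1) (by omega) ≫ J.obj.d (q - 1) q)
  have hcomm : ∀ p q, t₁ p ≫ (Dual3.idealMul (I ^ n)).map (F.d p q) =
      (Dual3.idealMul (I ^ M')).map (F.d p q) ≫ t₁ q := fun p q => by
    apply incl_unique I
    rw [Category.assoc, Dual3.idealMul_map_ι, Category.assoc, ht₁, ← Category.assoc, ht₁,
      Dual3.idealMul_map_ι]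
  have hD : ∀ q, (R).map (D q) = 0 := fun q => by
    have hc := h.comm q
    rw [dNext_eq _ (show (ComplexShape.up ℤ).Rel q (q + 1) from rfl),
      prevD_eq _ (show (ComplexShape.up ℤ).Rel (q - 1) q from (sub_add_cancel q 1))] at hc
    have hc' : @Eq ((R).obj ((Dual3.idealMul (I ^ n)).obj (F.X q)) ⟶ (R).obj (J.obj.X q)) ((R).map (g.f q))
        ((R).map ((Dual3.idealMul (I ^ n)).map (F.d q (q + 1))) ≫ h' (q + 1) q +
          h' q (q - 1) ≫ (R).map (J.obj.d (q - 1) q)) := hc.trans (add_zero _)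
    simp only [D, Functor.map_sub, Functor.map_add, Functor.map_comp, hk, sub_eq_zero]
    refine (congrArg ((R).map (t₁ q) ≫ ·) hc').trans ?_
    simp only [Preadditive.comp_add, Category.assoc]
    rw [← Category.assoc ((R).map (t₁ q)), ← (R).map_comp, hcomm, (R).map_comp, Category.assoc]
  obtain ⟨M₂, hM₂⟩ := exists_uniform (fun q M =>
      ∀ u : (Dual3.idealMul (I ^ M)).obj (F.X q) ⟶ (Dual3.idealMul (I ^ M')).obj (F.X q),
      u ≫ Dual3.idealMulι (I ^ M') (F.X q) = Dual3.idealMulι (I ^ M) (F.X q) → u ≫ D q = 0) lo hi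
    (fun q hq M u _ => (isZero_deligne I F lo hi hF M q hq).eq_of_src _ _)
    (fun q => by
      obtain ⟨N, _, hN⟩ := eventually_zero j I hI (J.obj.X q) (F.X q) (hFc q) M' (D q) (hD q)
      exact ⟨N, hN⟩)
  let m := max M' M₂
  refine ⟨m, (le_max_right M₁ n).trans (le_max_left M' M₂), fun t ht => ?_⟩
  choose u hu using fun q => exists_incl I (le_max_left M' M₂) (F.X q)
  let hh : ∀ q p, (ComplexShape.up ℤ).Rel p q → (((Dual3.deligne I m).obj F).X q ⟶ J.obj.X p) :=
    fun q p hp => u q ≫ k q p hp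
  refine ⟨(Homotopy.ofEq ?_).trans (Homotopy.nullHomotopy' hh)⟩
  refine HomologicalComplex.hom_ext _ _ fun q => ?_
  rw [Homotopy.nullHomotopicMap'_f (show (ComplexShape.up ℤ).Rel (q - 1) q from (sub_add_cancel q 1))
    (show (ComplexShape.up ℤ).Rel q (q + 1) from rfl)]
  have htq : t.f q = u q ≫ t₁ q := by
    apply incl_unique I
    exact (congrArg (fun φ => φ.f q) ht).trans
      (((hu q).symm.trans (congrArg (u q ≫ ·) (ht₁ q).symm)).trans (Category.assoc _ _ _).symm)
  have h0 := hM₂ m (le_max_right _ _) q (u q) (hu q)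
  simp only [D, Preadditive.comp_sub, Preadditive.comp_add, sub_eq_zero] at h0
  have hc2 : (Dual3.idealMul (I ^ m)).map (F.d q (q + 1)) ≫ u (q + 1) =
      u q ≫ (Dual3.idealMul (I ^ M')).map (F.d q (q + 1)) := by
    apply incl_unique I
    rw [Category.assoc, hu, Dual3.idealMul_map_ι, Category.assoc, Dual3.idealMul_map_ι, ← Category.assoc, hu]
  change t.f q ≫ g.f q = (Dual3.idealMul (I ^ m)).map (F.d q (q + 1)) ≫ u (q + 1) ≫ k (q + 1) q _ +
    (u q ≫ k q (q - 1) _) ≫ J.obj.d (q - 1) q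
  rw [htq]
  refine (Category.assoc _ _ _).trans (h0.trans ?_)
  refine congrArg₂ (· + ·) ?_ (Category.assoc _ _ _).symm
  exact ((Category.assoc _ _ _).symm.trans ((congrArg (· ≫ k (q + 1) q rfl) hc2.symm).trans (Category.assoc _ _ _)))

variable {L : DCoh.D X} (hLc : DCoh.IsCohD L) (c₀ : ℤ) (hK : ∀ i : ℤ, i < c₀ → IsZero (DCoh.HD L i))

include hI hF hFc hLc hK in
/-- Deligne's formula. -/
theorem deligne_formula :
    (∀ α : (DCoh.restrictD j).obj (DCoh.toD X F) ⟶ (DCoh.restrictD j).obj L,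
      ∃ (n : ℕ) (φ : DCoh.toD X ((Dual3.deligne I n).obj F) ⟶ L),
        (DCoh.restrictD j).map (DerivedCategory.Q.map (Dual3.deligneι I n F)) ≫ α =
          (DCoh.restrictD j).map φ) ∧
    ∀ (n : ℕ) (φ ψ : DCoh.toD X ((Dual3.deligne I n).obj F) ⟶ L),
      (DCoh.restrictD j).map φ = (DCoh.restrictD j).map ψ → ∃ m : ℕ, n ≤ m ∧
        ∀ t : (Dual3.deligne I m).obj F ⟶ (Dual3.deligne I n).obj F,
          t ≫ Dual3.deligneι I n F = Dual3.deligneι I m F →
            DerivedCategory.Q.map t ≫ φ = DerivedCategory.Q.map t ≫ ψ := by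
  have hge : DerivedCategory.IsGE L c₀ := (DerivedCategory.isGE_iff L c₀).2 hK
  obtain ⟨J, hJ, hJq, ⟨e⟩⟩ := Groth.Dual3Gor.RHomO.exists_qcoh_injective
    (⟨L, c₀, hge⟩ : DerivedCategory.Plus X.Modules) (fun q => (hLc q).1)
  let θ : DerivedCategory.Q.obj J.obj ≅ L :=
    ((DerivedCategory.quotientCompQhIso X.Modules).app J.obj).symm ≪≫ DerivedCategory.Plus.ι.mapIso e
  haveI hKX : CochainComplex.IsKInjective J.obj := by
    obtain ⟨a, ha⟩ := J.property
    haveI := hJ
    exact CochainComplex.isKInjective_of_injective J.obj a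
  haveI hKU := isKInjective_restrict j J hJ
  let f := (Scheme.Modules.restrictFunctor j).mapDerivedCategoryFactors
  refine ⟨fun α => ?_, fun n φ ψ hφψ => ?_⟩
  · obtain ⟨a, ha⟩ := exists_Q_map_eq (f.inv.app F ≫ α ≫ (DCoh.restrictD j).map θ.inv ≫ f.hom.app J.obj)
    obtain ⟨n, p, hp⟩ := exists_chain_map j I hI F lo hi hF hFc J hJq a
    refine ⟨n, DerivedCategory.Q.map p ≫ θ.hom, ?_⟩
    rw [← cancel_mono ((DCoh.restrictD j).map θ.inv), Category.assoc, ← Functor.map_comp, Category.assoc,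
      Iso.hom_inv_id, Category.comp_id, ← cancel_mono (f.hom.app J.obj), Category.assoc, Category.assoc]
    erw [f.hom.naturality p]
    rw [Functor.comp_map, hp, Functor.map_comp, ha]
    erw [← f.hom.naturality_assoc (Dual3.deligneι I n F)]
    simp
  · obtain ⟨p, hp⟩ := exists_Q_map_eq (φ ≫ θ.inv)
    obtain ⟨s, hs⟩ := exists_Q_map_eq (ψ ≫ θ.inv)
    have h1 : DerivedCategory.Q.map ((R').map p) = DerivedCategory.Q.map ((R').map s) := by
      rw [← cancel_epi (f.hom.app ((Dual3.deligne I n).obj F))]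
      erw [← f.hom.naturality p, ← f.hom.naturality s]
      simp only [Functor.comp_map, hp, hs, Functor.map_comp]
      rw [show (Scheme.Modules.restrictFunctor j).mapDerivedCategory.map φ =
        (Scheme.Modules.restrictFunctor j).mapDerivedCategory.map ψ from hφψ]
    obtain ⟨h⟩ := nonempty_homotopy h1
    obtain ⟨m, hnm, hm⟩ := exists_homotopy j I hI F lo hi hF hFc J hJq n (p - s)
      ((Homotopy.ofEq (by rw [Functor.map_sub])).trans (Homotopy.equivSubZero h))
    refine ⟨m, hnm, fun t ht => ?_⟩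
    obtain ⟨h'⟩ := hm t ht
    have h2 : DerivedCategory.Q.map (t ≫ p) = DerivedCategory.Q.map (t ≫ s) :=
      DerivedCategory.Q_map_eq_of_homotopy _
        (Homotopy.equivSubZero.symm ((Homotopy.ofEq (Preadditive.comp_sub _ _ _).symm).trans h'))
    rw [Functor.map_comp, Functor.map_comp, hp, hs] at h2
    rwa [← cancel_mono θ.inv, Category.assoc, Category.assoc]

end Groth.Dual3Gor.DeligneHom
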