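import Groth.Agent.S9515
import Groth.Agent.S9516
import Groth.Agent.CohTwo.IdealMulPow
import Groth.Agent.CohTwo.Extend
import Groth.Agent.QCohMod.ClosedImm

/-!
Deligne's formula for morphisms of modules along an arbitrary open immersion, in eventual form.
-/

universe u

open CategoryTheory CategoryTheory.Limits AlgebraicGeometry TopologicalSpace Opposite

namespace Groth.Dual3Gor.DeligneOpen

open Groth.CohTwo (exists_pow_incl)

variable {U X : Scheme.{u}} (j : U ⟶ X) [IsOpenImmersion j] (I : X.IdealSheafData)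
  (hI : I.supportSetᶜ = Set.range j)

theorem ideal_eq_top_of_disjoint (J : X.IdealSheafData) {W : X.Opens} (hW : IsAffineOpen W)
    (h : ∀ x ∈ W, x ∉ (J.support : Set X)) : J.ideal ⟨W, hW⟩ = ⊤ := by
  by_contra hne
  obtain ⟨P, hP, hle⟩ := Ideal.exists_le_maximal _ hne
  let p : PrimeSpectrum Γ(X, W) := ⟨P, hP.isPrime⟩
  have hpW : hW.fromSpec p ∈ W := by
    show hW.fromSpec p ∈ (W : Set X)
    rw [← hW.range_fromSpec]
    exact Set.mem_range_self p
  refine h _ hpW ((Scheme.IdealSheafData.mem_support_iff_of_mem (U := ⟨W, hW⟩) hpW).2 ?_)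
  rw [Scheme.mem_zeroLocus_iff]
  intro f hf hmem
  have hp : p ∈ hW.fromSpec ⁻¹ᵁ X.basicOpen f := hmem
  rw [hW.fromSpec_preimage_basicOpen] at hp
  exact hp (hle hf)

theorem exists_incl {n M : ℕ} (h : n ≤ M) (G : X.Modules) [G.IsQuasicoherent] :
    ∃ t : (Dual3.idealMul (I ^ M)).obj G ⟶ (Dual3.idealMul (I ^ n)).obj G,
      t ≫ Dual3.idealMulι (I ^ n) G = Dual3.idealMulι (I ^ M) G :=
  exists_pow_incl I h G

theorem incl_unique {G : X.Modules} {n : ℕ} {A : X.Modules}
    {t t' : A ⟶ (Dual3.idealMul (I ^ n)).obj G}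
    (h : t ≫ Dual3.idealMulι (I ^ n) G = t' ≫ Dual3.idealMulι (I ^ n) G) : t = t' :=
  (cancel_mono _).1 h

include hI in
theorem isIso_restrict_ι (G : X.Modules) [G.IsQuasicoherent] (n : ℕ) :
    IsIso ((Scheme.Modules.restrictFunctor j).map (Dual3.idealMulι (I ^ n) G)) := by
  refine Groth.QCohMod.isIso_of_affine_bijective _ fun W hW => ?_
  have hV : IsAffineOpen (j ''ᵁ W) := hW.image_of_isOpenImmersion j
  refine ⟨Groth.CohTwo.app_injective (Dual3.idealMulι (I ^ n) G) (j ''ᵁ W), fun s => ?_⟩
  have htop : I.ideal ⟨j ''ᵁ W, hV⟩ = ⊤ :=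
    ideal_eq_top_of_disjoint I hV fun x hx hxI => by
      have h1 : x ∈ Set.range j := Scheme.Hom.image_le_opensRange j W hx
      rw [← hI] at h1
      exact h1 hxI
  exact (Groth.CohTwo.range_idealMulι_pow I n G hV s).2 (by
    rw [htop, Ideal.top_pow]
    exact (Submodule.top_smul _).ge trivial)

include hI in
theorem coe_opensRange : (j.opensRange : Set X) = (I.support : Set X)ᶜ :=
  hI.symm

/-- The isomorphism between `U` and the image of `j`. -/
noncomputable abbrev toRange : U ⟶ (j.opensRange : Scheme.{u}) := j.isoOpensRange.hom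

theorem isEquivalence_restrict_of_isIso {W V : Scheme.{u}} (e : W ⟶ V) [IsIso e] :
    (Scheme.Modules.restrictFunctor e).IsEquivalence := by
  have hu : IsIso (Scheme.Modules.restrictAdjunction e).unit := by
    have : ∀ M : V.Modules, IsIso ((Scheme.Modules.restrictAdjunction e).unit.app M) := fun M => by
      rw [Scheme.Modules.Hom.isIso_iff_isIso_app]
      intro Y
      rw [Scheme.Modules.restrictAdjunction_unit_app_app]
      have hY : e ''ᵁ (e ⁻¹ᵁ Y) = Y := by
        rw [Scheme.Hom.image_preimage_eq_opensRange_inf, Scheme.Hom.opensRange_of_isIso, top_inf_eq]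
      have hi : IsIso (homOfLE (Scheme.Hom.image_preimage_le e Y)) :=
        ⟨homOfLE hY.ge, Subsingleton.elim _ _, Subsingleton.elim _ _⟩
      exact (M.presheaf).map_isIso (homOfLE (Scheme.Hom.image_preimage_le e Y)).op
    exact NatIso.isIso_of_isIso_app _
  exact (Scheme.Modules.restrictAdjunction e).toEquivalence.isEquivalence_functor

theorem isEquivalence_toRange : (Scheme.Modules.restrictFunctor (toRange j)).IsEquivalence :=
  isEquivalence_restrict_of_isIso (toRange j)

/-- Restriction along `j` factors through the open subscheme. -/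
noncomputable def resIso : Scheme.Modules.restrictFunctor j ≅
    Scheme.Modules.restrictFunctor j.opensRange.ι ⋙ Scheme.Modules.restrictFunctor (toRange j) :=
  Scheme.Modules.restrictFunctorCongr (j.isoOpensRange_hom_ι).symm ≪≫
    Scheme.Modules.restrictFunctorComp (toRange j) j.opensRange.ι

variable [IsNoetherian X]

include hI in
/-- Morphisms on the open extend to all high powers. -/
theorem eventually_exists (F G : X.Modules) [F.IsQuasicoherent] (hG : Coh.IsCoh G)
    (φ : (Scheme.Modules.restrictFunctor j).obj G ⟶ (Scheme.Modules.restrictFunctor j).obj F) :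
    ∃ N : ℕ, ∀ M, N ≤ M → ∃ ψ : (Dual3.idealMul (I ^ M)).obj G ⟶ F,
      (Scheme.Modules.restrictFunctor j).map ψ =
        (Scheme.Modules.restrictFunctor j).map (Dual3.idealMulι (I ^ M) G) ≫ φ := by
  haveI := isEquivalence_toRange j
  haveI := hG.1
  obtain ⟨φ', hφ'⟩ := (Scheme.Modules.restrictFunctor (toRange j)).map_surjective
    ((resIso j).inv.app G ≫ φ ≫ (resIso j).hom.app F)
  obtain ⟨n, ψ, hψ⟩ := Groth.Agent.S9515.result X F G inferInstance hG I j.opensRange
    (coe_opensRange j I hI) φ'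
  refine ⟨n, fun M hM => ?_⟩
  obtain ⟨t, ht⟩ := exists_incl I hM G
  refine ⟨t ≫ ψ, ?_⟩
  rw [← ht, Functor.map_comp, Functor.map_comp, Category.assoc]
  congr 1
  rw [← cancel_mono ((resIso j).hom.app F), Category.assoc]
  erw [(resIso j).hom.naturality ψ]
  rw [Functor.comp_map, hψ, Functor.map_comp, hφ']
  erw [← (resIso j).hom.naturality_assoc (Dual3.idealMulι (I ^ n) G)]
  simp

include hI in
/-- A morphism vanishing on the open is killed by all high powers. -/
theorem eventually_zero (F G : X.Modules) [F.IsQuasicoherent] (hG : Coh.IsCoh G) (n : ℕ)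
    (D : (Dual3.idealMul (I ^ n)).obj G ⟶ F)
    (hD : (Scheme.Modules.restrictFunctor j).map D = 0) :
    ∃ N : ℕ, n ≤ N ∧ ∀ M, N ≤ M → ∀ t : (Dual3.idealMul (I ^ M)).obj G ⟶ (Dual3.idealMul (I ^ n)).obj G,
      t ≫ Dual3.idealMulι (I ^ n) G = Dual3.idealMulι (I ^ M) G → t ≫ D = 0 := by
  haveI := isEquivalence_toRange j
  haveI := hG.1
  have h0 : (Scheme.Modules.restrictFunctor j.opensRange.ι).map D = 0 := by
    apply (Scheme.Modules.restrictFunctor (toRange j)).map_injective
    rw [Functor.map_zero, ← cancel_epi ((resIso j).hom.app _), comp_zero]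
    erw [← (resIso j).hom.naturality D]
    rw [hD, zero_comp]
  obtain ⟨N, ι, hι, hιD⟩ := Groth.Agent.S9516.result X F G inferInstance hG I j.opensRange
    (coe_opensRange j I hI) n D h0
  refine ⟨max N n, le_max_right _ _, fun M hM t ht => ?_⟩
  obtain ⟨u, hu⟩ := exists_incl I ((le_max_left N n).trans hM) G
  have : t = u ≫ ι := incl_unique I (by rw [ht, Category.assoc, hι, hu])
  rw [this, Category.assoc, hιD, comp_zero]

end Groth.Dual3Gor.DeligneOpen
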