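import Groth.Agent.DualCore.LocalFamilies
import Mathlib.RingTheory.Flat.Basic
import Mathlib.LinearAlgebra.TensorProduct.Quotient

/-!
# Descent of dualizing complexes along finitely many flat algebras covering the spectrum
-/

set_option autoImplicit false

universe u

open CategoryTheory CategoryTheory.Limits DerivedCategory TensorProduct
attribute [local instance] HasDerivedCategory.standard

namespace Groth.Dual3Gor

open Groth.DualCore

variable {A : Type u} [CommRing A] {ι : Type} [Fintype ι] (B : ι → Type u) [∀ j, CommRing (B j)]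
  [∀ j, Algebra A (B j)] [∀ j, Module.Flat A (B j)]

omit [Fintype ι] in
/-- Flat algebras whose spectra cover are jointly faithful. -/
theorem subsingleton_of_covering
    (hcov : ∀ p : PrimeSpectrum A, ∃ j, ∃ q : PrimeSpectrum (B j), PrimeSpectrum.comap (algebraMap A (B j)) q = p)
    (M : Type*) [AddCommGroup M] [Module A M] (h : ∀ j, Subsingleton (B j ⊗[A] M)) : Subsingleton M := by
  refine subsingleton_of_forall_eq 0 fun x => ?_
  by_contra hx
  let l := LinearMap.toSpanSingleton A M x
  have hne : LinearMap.ker l ≠ ⊤ := fun ht => hx (by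
    have : (1 : A) ∈ LinearMap.ker l := ht ▸ Submodule.mem_top
    simpa [l] using this)
  obtain ⟨m, hm, hle⟩ := Ideal.exists_le_maximal _ hne
  obtain ⟨j, q, hq⟩ := hcov ⟨m, hm.isPrime⟩
  let g := (LinearMap.ker l).liftQ l le_rfl
  have hg : Function.Injective g := LinearMap.ker_eq_bot.1 (Submodule.ker_liftQ_eq_bot _ _ le_rfl le_rfl)
  haveI := h j
  haveI : Subsingleton (B j ⊗[A] (A ⧸ LinearMap.ker l)) :=
    (Module.Flat.lTensor_preserves_injective_linearMap g hg).subsingleton
  have h0 : (1 : B j) ⊗ₜ[A] (Ideal.Quotient.mk (LinearMap.ker l) 1 : A ⧸ LinearMap.ker l) = 0 := Subsingleton.elim _ _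
  have h1 := congrArg (TensorProduct.tensorQuotEquivQuotSMul (B j) (LinearMap.ker l)) h0
  rw [map_zero, TensorProduct.tensorQuotEquivQuotSMul_tmul_mk, one_smul, Submodule.Quotient.mk_eq_zero] at h1
  have h2 : LinearMap.ker l • (⊤ : Submodule A (B j)) ≤ q.asIdeal.restrictScalars A :=
    Submodule.smul_le.2 fun a ha b _ => by
      have hm' : m ≤ q.asIdeal.comap (algebraMap A (B j)) := (congrArg PrimeSpectrum.asIdeal hq).ge
      show a • b ∈ q.asIdeal
      rw [Algebra.smul_def]
      exact q.asIdeal.mul_mem_right _ (hm' (hle ha))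
  exact q.isPrime.ne_top ((Ideal.eq_top_iff_one _).2 (h2 h1))

/-- Being dualizing descends along finitely many flat algebras whose spectra cover. -/
theorem isDualizing_of_covering [IsNoetherianRing A]
    (hcov : ∀ p : PrimeSpectrum A, ∃ j, ∃ q : PrimeSpectrum (B j), PrimeSpectrum.comap (algebraMap A (B j)) q = p)
    (K : Dual.D A) (h : ∀ j, Dual.IsDualizing (B j) ((extD A (B j)).obj K)) : Dual.IsDualizing A K := by
  classical
  have hB := fun (M : Type (u + 1)) (_ : AddCommGroup M) (_ : Module A M) hM =>
    subsingleton_of_covering B hcov M hM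
  have hfin : ∀ i, Module.Finite A (Dual.HD A K i) := fun i => by
    let H := Dual.HD A K i
    haveI : ∀ j, Module.Finite (B j) (B j ⊗[A] H) := fun j =>
      haveI := (h j).finite_cohomology i
      Module.Finite.equiv (HDExtEquiv (B := B j) K i).symm
    have hgen : ∀ j, ∃ N : Submodule A H, N.FG ∧ ∀ z : B j ⊗[A] H,
        z ∈ Submodule.span (B j) (TensorProduct.mk A (B j) H 1 '' N) := fun j => by
      obtain ⟨s, hs⟩ := (Module.Finite.fg_top : (⊤ : Submodule (B j) (B j ⊗[A] H)).FG)
      choose S hS using fun z : B j ⊗[A] H => TensorProduct.exists_finset z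
      refine ⟨Submodule.span A (s.biUnion fun z => (S z).image Prod.snd : Finset H), ⟨_, rfl⟩, fun z => ?_⟩
      refine (Submodule.span_le.2 fun y hy => ?_ : Submodule.span (B j) (s : Set (B j ⊗[A] H)) ≤ _)
        (hs ▸ Submodule.mem_top)
      rw [SetLike.mem_coe, hS y]
      refine Submodule.sum_mem _ fun p hp => ?_
      rw [show p.1 ⊗ₜ[A] p.2 = p.1 • ((1 : B j) ⊗ₜ[A] p.2) by rw [TensorProduct.smul_tmul', smul_eq_mul, mul_one]]
      exact Submodule.smul_mem _ _ (Submodule.subset_span ⟨p.2, Submodule.subset_span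
        (by simpa using ⟨y, hy, p.1, hp⟩), rfl⟩)
    choose N hN hgen using hgen
    have hsub : Subsingleton (H ⧸ ⨆ j, N j) := subsingleton_of_covering B hcov _ fun j => by
      refine subsingleton_of_forall_eq 0 fun z => ?_
      obtain ⟨z, rfl⟩ := LinearMap.lTensor_surjective (B j) (Submodule.mkQ_surjective (⨆ j, N j)) z
      have : Submodule.span (B j) (TensorProduct.mk A (B j) H 1 '' N j) ≤
          LinearMap.ker (LinearMap.baseChange (B j) (⨆ j, N j).mkQ) := Submodule.span_le.2 (by
        rintro _ ⟨x, hx, rfl⟩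
        simp [(Submodule.Quotient.mk_eq_zero _).2 (le_iSup N j hx)])
      exact this (hgen j z)
    refine ⟨?_⟩
    rw [← Submodule.Quotient.subsingleton_iff.1 hsub]
    exact Submodule.fg_iSup N hN
  choose α β hαβ using fun j => (h j).finite_injective_dimension
  obtain ⟨p, hp⟩ : ∃ p : ℤ, ∀ j, p ≤ α j :=
    ⟨-(∑ j, |α j|), fun j => by
      have := Finset.single_le_sum (fun k _ => abs_nonneg (α k)) (Finset.mem_univ j)
      have := neg_abs_le (α j)
      lia⟩
  obtain ⟨q, hq⟩ : ∃ q : ℤ, ∀ j, β j ≤ q :=
    ⟨∑ j, |β j|, fun j => (le_abs_self _).trans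
      (Finset.single_le_sum (fun k _ => abs_nonneg (β k)) (Finset.mem_univ j))⟩
  have hH : ∀ i, (i < p ∨ q < i) → Subsingleton (Dual.HD A K i) := fun i hi => by
    refine subsingleton_of_covering B hcov _ fun j => ?_
    haveI : Subsingleton (Dual.HD (B j) ((extD A (B j)).obj K) i) :=
      haveI := hαβ j (B j) i (by
        have := hp j
        have := hq j
        lia)
      (homAEquiv _ i).symm.toEquiv.subsingleton
    exact (HDExtEquiv (B := B j) K i).toEquiv.subsingleton
  haveI : IsGE K p := isGE_of_HD K p fun i hi => hH i (Or.inl hi)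
  haveI : IsLE K q := (isLE_iff K q).2 fun i hi =>
    ModuleCat.isZero_iff_subsingleton.2 (hH i (Or.inr hi))
  exact isDualizing_of_family B (fun M _ _ hM => hB M _ _ hM) K hfin p q
    ⟨p, q, injDim_of_family B (fun M _ _ hM => hB M _ _ hM) K p p q fun j M _ _ i hi => hαβ j M i (by
        have := hp j
        have := hq j
        lia)⟩
    (fun j => (h j).toEnd_bijective) (fun j => (h j).ext_self_subsingleton)

end Groth.Dual3Gor
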