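import Groth.Agent.Dual3HomO.Sections
import Groth.Agent.QCohMod.Coherent
import Groth.Agent.QCohMod.PullbackQCoh
import Groth.Agent.QCohMod.Killed
import Groth.Agent.Misc6.DevissageSupp

/-!
`Hom(O_Z, -)` of a quasi-coherent module is quasi-coherent, and coherence descends along `i_*`.
-/

universe u

open CategoryTheory CategoryTheory.Limits AlgebraicGeometry TopologicalSpace Opposite

namespace Groth.Dual3Gor.HomOQCoh

open Groth.QCohMod (res resFun res_res res_self res_smul res_app app_injective_of_mono)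

variable {Z X : Scheme.{u}} (i : Z ⟶ X) [IsClosedImmersion i]

/-- The counit `i^* i_* H ⟶ H` of a closed immersion is invertible. -/
theorem nonempty_pullback_push_iso (H : Z.Modules) :
    Nonempty ((Scheme.Modules.pullback i).obj ((Scheme.Modules.pushforward i).obj H) ≅ H) := by
  let adj := Scheme.Modules.pullbackPushforwardAdjunction i
  haveI := (Groth.Misc7.ClosedImm.fullyFaithfulPush i).full
  haveI := (Groth.Misc7.ClosedImm.fullyFaithfulPush i).faithful
  haveI : IsIso (adj.counit.app H) := inferInstance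
  exact ⟨asIso (adj.counit.app H)⟩

theorem isQCoh_of_push (H : Z.Modules) (h : ((Scheme.Modules.pushforward i).obj H).IsQuasicoherent) :
    H.IsQuasicoherent := by
  haveI := h
  obtain ⟨e⟩ := nonempty_pullback_push_iso i H
  exact (Groth.QCohMod.isQCoh_iff_of_iso e).1 (Groth.QCohMod.isQCoh_pullback_obj i _)

theorem isCoh_of_push (H : Z.Modules) (h : Coh.IsCoh ((Scheme.Modules.pushforward i).obj H)) :
    Coh.IsCoh H := by
  haveI := h.1
  obtain ⟨e⟩ := nonempty_pullback_push_iso i H
  exact Groth.QCohMod.isCoh_of_iso e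
    ⟨Groth.QCohMod.isQCoh_pullback_obj i _, Groth.QCohMod.isFT_pullback i _ h.2⟩

variable [Dual3.HasHomO i] [IsLocallyNoetherian X]

/-- The counit `i_* Hom(O_Z, F) ⟶ F`. -/
noncomputable abbrev ε (F : X.Modules) :
    (Scheme.Modules.pushforward i).obj ((Dual3.homO i).obj F) ⟶ F :=
  (Dual3.homOAdj i).counit.app F

instance mono_ε (F : X.Modules) : Mono (ε i F) := Groth.Dual3HomO.mono_counit i F

omit [IsLocallyNoetherian X] in
theorem ε_killed (F : X.Modules) (U : X.affineOpens)
    (y : Γ((Scheme.Modules.pushforward i).obj ((Dual3.homO i).obj F), U.1)) (a : Γ(X, U.1))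
    (ha : a ∈ i.ker.ideal U) : a • (ε i F).app U.1 y = 0 := by
  rw [← Scheme.Modules.Hom.app_smul,
    Groth.QCohMod.killed_pushforward i ((Dual3.homO i).obj F) U a ha y, map_zero]

omit [IsLocallyNoetherian X] in
theorem exists_ε_eq (F : X.Modules) (U : X.affineOpens) (s : Γ(F, U.1))
    (hs : ∀ a ∈ i.ker.ideal U, a • s = 0) : ∃ y, (ε i F).app U.1 y = s :=
  Groth.Dual3HomO.exists_counit_app_eq i F U s hs

theorem isQCoh_push_homO (F : X.Modules) [F.IsQuasicoherent] :
    ((Scheme.Modules.pushforward i).obj ((Dual3.homO i).obj F)).IsQuasicoherent := by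
  classical
  refine Groth.QCohMod.isQCoh_of_forall_affine _ (fun U hU f s => ?_) (fun U hU f t ht => ?_)
  · let D := X.basicOpen f
    let j : D ≤ U := X.basicOpen_le f
    let s' := (ε i F).app D s
    obtain ⟨k, b, hb⟩ := Groth.QCohMod.exists_pow_smul_eq_res F hU f s'
    haveI : IsNoetherianRing Γ(X, U) := IsLocallyNoetherian.component_noetherian ⟨U, hU⟩
    obtain ⟨G, hG⟩ := (IsNoetherian.noetherian (i.ker.ideal ⟨U, hU⟩))
    have hl : ∀ a ∈ G, ∃ l : ℕ, f ^ l • a • b = 0 := fun a ha => by
      refine Groth.QCohMod.exists_pow_smul_eq_zero F hU f (a • b) ?_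
      have haI : a ∈ i.ker.ideal ⟨U, hU⟩ := hG.le (Submodule.subset_span ha)
      have h1 : resFun X j a • s' = 0 :=
        ε_killed i F ⟨D, hU.basicOpen f⟩ s (resFun X j a) (Scheme.IdealSheafData.ideal_le_comap_ideal i.ker
          (U := ⟨D, hU.basicOpen f⟩) (V := ⟨U, hU⟩) j haI)
      rw [res_smul, hb, smul_comm]
      exact (congrArg _ h1).trans (smul_zero _)
    choose l hl using hl
    let L := G.attach.sup fun a => l a.1 a.2
    have hkill : ∀ a ∈ i.ker.ideal ⟨U, hU⟩, a • f ^ L • b = 0 := fun a ha => by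
      rw [← hG] at ha
      induction ha using Submodule.span_induction with
      | mem a ha =>
        have hle : l a ha ≤ L := Finset.le_sup (f := fun a : G => l a.1 a.2) (Finset.mem_attach G ⟨a, ha⟩)
        change a • f ^ L • b = 0
        rw [smul_comm, show L = (L - l a ha) + l a ha from (Nat.sub_add_cancel hle).symm, pow_add, mul_smul]
        exact (congrArg _ (hl a ha)).trans (smul_zero _)
      | zero => rw [zero_smul]
      | add a c _ _ ha hc => rw [add_smul, ha, hc, add_zero]
      | smul r a _ ha => rw [smul_eq_mul, mul_smul, ha, smul_zero]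
    obtain ⟨t, ht⟩ := exists_ε_eq i F ⟨U, hU⟩ _ hkill
    refine ⟨L + k, t, app_injective_of_mono (ε i F) D ?_⟩
    rw [Scheme.Modules.Hom.app_smul, ← res_app, ht, res_smul, hb, pow_add, mul_smul, map_pow]
  · have h0 : res F (X.basicOpen_le f) ((ε i F).app U t) = 0 := by rw [res_app, ht, map_zero]
    obtain ⟨n, hn⟩ := Groth.QCohMod.exists_pow_smul_eq_zero F hU f _ h0
    exact ⟨n, app_injective_of_mono (ε i F) U (by rw [Scheme.Modules.Hom.app_smul, hn, map_zero])⟩

theorem isQCoh_homO (F : X.Modules) [F.IsQuasicoherent] : ((Dual3.homO i).obj F).IsQuasicoherent :=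
  isQCoh_of_push i _ (isQCoh_push_homO i F)

end Groth.Dual3Gor.HomOQCoh
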