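import Groth.Agent.Dual3Gor.SchemeD
import Groth.Agent.DualCore.Regular
import Groth.Agent.DualCore.CM
import Groth.Agent.DualCore.AtPrime
import Groth.Agent.AlgSpEt.GorRing
import Mathlib.RingTheory.Support

/-!
# Invertible dualizing complexes and Gorenstein rings

`isGorenstein_atPrime_of_iso_shift`, `exists_away_iso_shift` (the ring side), `exists_affine_chart_invertible`,
`invertibleD_of_forall_chart` (the scheme side).
-/

set_option autoImplicit false

universe u

open CategoryTheory CategoryTheory.Limits AlgebraicGeometry DerivedCategory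
open scoped TensorProduct
attribute [local instance] HasDerivedCategory.standard

namespace Groth.Dual3Gor

section Ring

variable {A : Type u} [CommRing A] {ω : Dual.D A}

theorem subsingleton_HD_of_iso_shift (n : ℤ) (e : ω ≅ (Dual.inD A A)⟦n⟧) (j : ℤ) (hj : j ≠ -n) :
    Subsingleton (Dual.HD A ω j) := by
  haveI := Groth.DualCore.subsingleton_HD_inD (A := A) A (n + j) (by lia)
  exact ((Groth.DualCore.HDCongr e j).trans (Groth.DualCore.HDShiftEquiv _ n j (n + j) rfl)).toEquiv.subsingleton

/-- A ring with an invertible dualizing complex is Gorenstein. -/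
theorem isGorenstein_atPrime_of_iso_shift [IsNoetherianRing A] (hω : Dual.IsDualizing A ω) (n : ℤ)
    (e : ω ≅ (Dual.inD A A)⟦n⟧) (p : Ideal A) [p.IsPrime] :
    LocCoh.IsGorensteinLocalRing (Localization.AtPrime p) := by
  haveI : IsNoetherianRing (Localization.AtPrime p) :=
    IsLocalization.isNoetherianRing p.primeCompl _ inferInstance
  rw [GrothGoren.isGorenstein_iff,
    Groth.DualCore.exists_injLT_iff_single_degree (Groth.DualCore.isDualizing_atPrime p hω)]
  refine ⟨-n, fun j hj => ?_, ⟨?_⟩⟩
  · haveI := subsingleton_HD_of_iso_shift n e j hj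
    exact (Groth.DualCore.HDExtEquiv ω j).symm.toEquiv.subsingleton
  · let e1 : Dual.HD A ω (-n) ≃ₗ[A] A := (Groth.DualCore.HDCongr e (-n)).trans
      ((Groth.DualCore.HDShiftEquiv _ n (-n) 0 (by lia)).trans (Groth.DualCore.HDinDEquiv A))
    exact (Groth.DualCore.HDExtEquiv ω (-n)).symm.trans
      ((e1.baseChange A (Localization.AtPrime p)).trans (TensorProduct.AlgebraTensorModule.rid A _ _))

/-- A complex with one cohomology module, free of rank one, is a shift of the ring. -/
theorem nonempty_iso_shift_of_single_degree {B : Type u} [CommRing B] (X : Dual.D B) (i : ℤ)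
    (h : ∀ j, j ≠ i → Subsingleton (Dual.HD B X j)) (e : Dual.HD B X i ≃ₗ[B] B) :
    Nonempty (X ≅ (Dual.inD B B)⟦-i⟧) := by
  obtain ⟨f⟩ := Groth.DualCore.nonempty_iso_of_single_degree X i h
  exact ⟨(shiftShiftNeg X i).symm ≪≫ (shiftFunctor (Dual.D B) (-i)).mapIso
    (f ≪≫ (singleFunctor (ModuleCat.{u} B) 0).mapIso e.toModuleIso)⟩

/-- Near a Gorenstein point a dualizing complex is a shift of the ring. -/
theorem exists_away_iso_shift [IsNoetherianRing A] (hω : Dual.IsDualizing A ω) (p : Ideal A) [p.IsPrime]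
    (hp : LocCoh.IsGorensteinLocalRing (Localization.AtPrime p)) :
    ∃ g, g ∉ p ∧ ∃ n : ℤ, Nonempty ((Groth.DualCore.extD A (Localization.Away g)).obj ω ≅
      (Dual.inD (Localization.Away g) (Localization.Away g))⟦n⟧) := by
  classical
  haveI : IsNoetherianRing (Localization.AtPrime p) :=
    IsLocalization.isNoetherianRing p.primeCompl _ inferInstance
  rw [GrothGoren.isGorenstein_iff,
    Groth.DualCore.exists_injLT_iff_single_degree (Groth.DualCore.isDualizing_atPrime p hω)] at hp
  obtain ⟨i, hi, ⟨e₀⟩⟩ := hp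
  obtain ⟨a, b, hab⟩ := hω.finite_injective_dimension
  haveI := hω.finite_cohomology
  have hzero : ∀ j, (j < a ∨ b < j) → Subsingleton (Dual.HD A ω j) := fun j hj => by
    haveI := hab A j hj
    exact (Groth.DualCore.homAEquiv ω j).symm.toEquiv.subsingleton
  -- the other degrees vanish near `p`
  have hout : ∀ j, j ≠ i → ∀ x : Dual.HD A ω j, ∃ s, s ∉ p ∧ s • x = 0 := fun j hj x => by
    have h1 : Subsingleton (LocalizedModule p.primeCompl (Dual.HD A ω j)) :=
      ((Groth.DualCore.tensorEquivLocalized p _).symm.trans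
        (Groth.DualCore.HDExtEquiv ω j)).toEquiv.subsingleton_congr.2 (hi j hj)
    obtain ⟨s, hs, hsx⟩ := LocalizedModule.subsingleton_iff.1 h1 x
    exact ⟨s, hs, hsx⟩
  let U : Set (PrimeSpectrum A) := (⋃ j ∈ (Finset.Icc a b).erase i, Module.support A (Dual.HD A ω j))ᶜ
  have hU : IsOpen U := (Set.Finite.isClosed_biUnion (Finset.finite_toSet _)
    fun j _ => Module.isClosed_support).isOpen_compl
  have hpU : (⟨p, inferInstance⟩ : PrimeSpectrum A) ∈ U := by
    simp only [U, Set.mem_compl_iff, Set.mem_iUnion₂, not_exists]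
    intro j hj
    rw [Module.notMem_support_iff']
    intro x
    obtain ⟨s, hs, hsx⟩ := hout j (Finset.mem_erase.1 hj).1 x
    exact ⟨s, hs, hsx⟩
  obtain ⟨_, ⟨g₁, rfl⟩, hg₁, hg₁U⟩ := PrimeSpectrum.isTopologicalBasis_basic_opens.exists_subset_of_mem_open hpU hU
  -- the degree `i` part is free of rank one near `p`
  let M := Dual.HD A ω i
  let e : Localization.AtPrime p ⊗[A] M ≃ₗ[Localization.AtPrime p] Localization.AtPrime p :=
    (Groth.DualCore.HDExtEquiv ω i).trans e₀
  haveI : IsLocalizedModule p.primeCompl (TensorProduct.mk A (Localization.AtPrime p) M 1) :=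
    (isLocalizedModule_iff_isBaseChange p.primeCompl (Localization.AtPrime p) _).2 (TensorProduct.isBaseChange A M _)
  obtain ⟨⟨m, s⟩, hms⟩ := IsLocalizedModule.surj p.primeCompl (TensorProduct.mk A (Localization.AtPrime p) M 1)
    (e.symm 1)
  have hm : e (1 ⊗ₜ m) = algebraMap A (Localization.AtPrime p) s := by
    have h1 := congrArg e (show s.1 • e.symm 1 = (1 : Localization.AtPrime p) ⊗ₜ[A] m from hms)
    rwa [← algebraMap_smul (Localization.AtPrime p) s.1 (e.symm 1), map_smul, e.apply_symm_apply,
      smul_eq_mul, mul_one, eq_comm] at h1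
  have hu : IsUnit (algebraMap A (Localization.AtPrime p) s) := IsLocalization.map_units _ s
  let l : A →ₗ[A] M := LinearMap.toSpanSingleton A M m
  have hmap : ∀ x : Localization.AtPrime p, IsLocalizedModule.map p.primeCompl
      (Algebra.linearMap A (Localization.AtPrime p)) (TensorProduct.mk A (Localization.AtPrime p) M 1) l x =
      x ⊗ₜ m := by
    let L : Localization.AtPrime p →ₗ[A] Localization.AtPrime p ⊗[A] M :=
      (TensorProduct.mk A (Localization.AtPrime p) M).flip m
    have hL : IsLocalizedModule.map p.primeCompl (Algebra.linearMap A (Localization.AtPrime p))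
        (TensorProduct.mk A (Localization.AtPrime p) M 1) l = L := by
      apply IsLocalizedModule.ext p.primeCompl (Algebra.linearMap A (Localization.AtPrime p))
        (IsLocalizedModule.map_units (TensorProduct.mk A (Localization.AtPrime p) M 1))
      apply LinearMap.ext_ring
      rw [LinearMap.comp_apply, LinearMap.comp_apply, IsLocalizedModule.map_apply]
      simp [L, l]
    exact fun x => LinearMap.congr_fun hL x
  have hbij : Function.Bijective (IsLocalizedModule.map p.primeCompl
      (Algebra.linearMap A (Localization.AtPrime p)) (TensorProduct.mk A (Localization.AtPrime p) M 1) l) := by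
    have h2 : ∀ x : Localization.AtPrime p, e (x ⊗ₜ m) = x * algebraMap A (Localization.AtPrime p) s := fun x => by
      rw [← hm, ← smul_eq_mul x (e _), ← map_smul, TensorProduct.smul_tmul', smul_eq_mul, mul_one]
    refine ⟨fun x y hxy => hu.mul_left_injective (?_ : x * _ = y * _), fun z => ?_⟩
    · rw [← h2, ← h2, ← hmap, ← hmap, hxy]
    · refine ⟨e z * ↑hu.unit⁻¹, e.injective ?_⟩
      rw [hmap, h2, mul_assoc, IsUnit.val_inv_mul, mul_one]
  haveI : Module.FinitePresentation A M := Module.finitePresentation_of_finite A _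
  obtain ⟨r, hr, hrt⟩ := exists_bijective_map_powers p.primeCompl (Algebra.linearMap A (Localization.AtPrime p))
    (TensorProduct.mk A (Localization.AtPrime p) M 1) l hbij
  refine ⟨r * g₁, p.primeCompl.mul_mem hr hg₁, -i,
    nonempty_iso_shift_of_single_degree _ i (fun j hj => ?_) ?_⟩
  · have h1 : Subsingleton (LocalizedModule (Submonoid.powers (r * g₁)) (Dual.HD A ω j)) := by
      rw [LocalizedModule.subsingleton_iff_support_subset]
      intro q hq
      show {r * g₁} ⊆ (q.asIdeal : Set A)
      rw [Set.singleton_subset_iff]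
      by_cases hr' : j ∈ Finset.Icc a b
      · refine q.asIdeal.mul_mem_left r (by_contra fun hg => ?_)
        exact hg₁U (show q ∈ PrimeSpectrum.basicOpen g₁ from hg)
          (Set.mem_iUnion₂.2 ⟨j, Finset.mem_erase.2 ⟨hj, hr'⟩, hq⟩)
      · haveI := hzero j (by simp at hr'; lia)
        simp [Module.support_eq_empty] at hq
    exact ((LocalizedModule.equivTensorProduct (Submonoid.powers (r * g₁)) _).trans
      (Groth.DualCore.HDExtEquiv ω j)).toEquiv.subsingleton_congr.1 h1
  · let eM : LocalizedModule (Submonoid.powers (r * g₁)) A ≃ₗ[Localization.Away (r * g₁)]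
        LocalizedModule (Submonoid.powers (r * g₁)) M :=
      LinearEquiv.ofBijective _ (hrt (r * g₁) (dvd_mul_right r g₁))
    exact ((Groth.DualCore.HDExtEquiv ω i).symm.trans
      (LocalizedModule.equivTensorProduct (Submonoid.powers (r * g₁)) M).symm).trans (eM.symm.trans
        ((LocalizedModule.equivTensorProduct (Submonoid.powers (r * g₁)) A).trans
          (TensorProduct.AlgebraTensorModule.rid A _ _)))

end Ring

section Scheme

variable [∀ (U V : Scheme.{u}) (j : U ⟶ V) [IsOpenImmersion j],
  PreservesFiniteLimits (Scheme.Modules.restrictFunctor j)]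
  [∀ (R : CommRingCat.{u}), PreservesFiniteLimits (tilde.functor R)]

/-- An invertible object is a shift of the structure sheaf on affine charts. -/
theorem exists_affine_chart_invertible {X : Scheme.{u}} {K : DCoh.D X} (hK : Dual3.IsInvertibleD K) (x : X) :
    ∃ (A : Type u) (_ : CommRing A) (j : Spec (CommRingCat.of A) ⟶ X) (_ : IsOpenImmersion j) (n : ℤ),
      x ∈ Set.range j ∧ Nonempty ((DCoh.restrictD j).obj K ≅
        (DCoh.tildeD (CommRingCat.of A)).obj ((Dual.inD A A)⟦n⟧)) := by
  obtain ⟨U, n, hxU, ⟨e⟩⟩ := hK x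
  obtain ⟨V, hV, hxV, hVU⟩ := exists_isAffineOpen_mem_and_subset (x := x) hxU
  let j : Spec (CommRingCat.of Γ(X, V)) ⟶ X := hV.fromSpec
  haveI : IsOpenImmersion j := hV.isOpenImmersion_fromSpec
  let j' : Spec (CommRingCat.of Γ(X, V)) ⟶ (U : Scheme.{u}) :=
    IsOpenImmersion.lift U.ι j (by rw [Scheme.Opens.range_ι, hV.range_fromSpec]; exact hVU)
  have hfac : j' ≫ U.ι = j := IsOpenImmersion.lift_fac _ _ _
  haveI : IsOpenImmersion j' :=
    haveI : IsOpenImmersion (j' ≫ U.ι) := hfac ▸ inferInstance
    IsOpenImmersion.of_comp j' U.ι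
  obtain ⟨e1⟩ := nonempty_restrictD_comp j' U.ι j hfac.symm
  obtain ⟨e2⟩ := nonempty_restrictD_inD_unit j' n
  obtain ⟨e3⟩ := nonempty_tildeD_inD_self Γ(X, V) n
  exact ⟨Γ(X, V), inferInstance, j, inferInstance, n, by rw [hV.range_fromSpec]; exact hxV,
    ⟨(e1.app K).symm ≪≫ (DCoh.restrictD j').mapIso e ≪≫ e2 ≪≫ e3.symm⟩⟩

/-- An object which is a shift of the structure sheaf on affine charts is invertible. -/
theorem invertibleD_of_forall_chart {X : Scheme.{u}} {K : DCoh.D X}
    (h : ∀ x : X, ∃ (A : Type u) (_ : CommRing A) (j : Spec (CommRingCat.of A) ⟶ X) (_ : IsOpenImmersion j)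
      (n : ℤ), x ∈ Set.range j ∧ Nonempty ((DCoh.restrictD j).obj K ≅
        (DCoh.tildeD (CommRingCat.of A)).obj ((Dual.inD A A)⟦n⟧))) : Dual3.IsInvertibleD K := by
  intro x
  obtain ⟨A, _, j, _, n, hx, ⟨e⟩⟩ := h x
  refine ⟨j.opensRange, n, hx, ?_⟩
  let i : (j.opensRange : Scheme.{u}) ⟶ Spec (CommRingCat.of A) := j.isoOpensRange.inv
  have hfac : i ≫ j = j.opensRange.ι := j.isoOpensRange_inv_comp
  obtain ⟨e1⟩ := nonempty_restrictD_comp i j j.opensRange.ι hfac.symm
  obtain ⟨e2⟩ := nonempty_tildeD_inD_self A n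
  obtain ⟨e3⟩ := nonempty_restrictD_inD_unit i n
  exact ⟨(e1.app K).symm ≪≫ (DCoh.restrictD i).mapIso (e ≪≫ e2) ≪≫ e3⟩

end Scheme

end Groth.Dual3Gor
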