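import Groth.Agent.Dual3Gor.SchemeD
import Groth.Agent.DualCore.SmoothBC
import Groth.Agent.DualCore.LocalFamilies
import Groth.Agent.QCohMod.Local
import Groth.Agent.Misc4.QCohTildeD

/-!
# Dualizing complexes on schemes are recognised on an affine cover
-/

set_option autoImplicit false

universe u

open CategoryTheory CategoryTheory.Limits AlgebraicGeometry
attribute [local instance] HasDerivedCategory.standard

namespace Groth.Dual3Gor

variable [∀ (U V : Scheme.{u}) (j : U ⟶ V) [IsOpenImmersion j],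
  PreservesFiniteLimits (Scheme.Modules.restrictFunctor j)]
  [∀ (R : CommRingCat.{u}), PreservesFiniteLimits (tilde.functor R)]

/-- The affine open `D(f)` of `Spec A`. -/
noncomputable abbrev away (A : Type u) [CommRing A] (f : A) :
    Spec (CommRingCat.of (Localization.Away f)) ⟶ Spec (CommRingCat.of A) :=
  Spec.map (CommRingCat.ofHom (algebraMap A (Localization.Away f)))

theorem exists_away_mem {A : Type u} [CommRing A] (p : PrimeSpectrum A) {U : Set (PrimeSpectrum A)}
    (hU : IsOpen U) (hp : p ∈ U) :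
    ∃ f : A, p ∈ Set.range (away A f) ∧ Set.range (away A f) ⊆ U := by
  obtain ⟨_, ⟨f, rfl⟩, hf, hfU⟩ := PrimeSpectrum.isTopologicalBasis_basic_opens.exists_subset_of_mem_open hp hU
  have : Set.range (away A f) = (PrimeSpectrum.basicOpen f : Set (PrimeSpectrum A)) :=
    PrimeSpectrum.localization_away_comap_range (Localization.Away f) f
  exact ⟨f, this ▸ hf, this ▸ hfU⟩

/-- The dualizing complex of a chart restricted to a smaller affine open. -/
theorem exists_isDualizing_restrict {X : Scheme.{u}} (K : DCoh.D X) (C B : Type u) [CommRing C] [CommRing B]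
    (j : Spec (CommRingCat.of C) ⟶ X) [IsOpenImmersion j] (ω : Dual.D C) (hω : Dual.IsDualizing C ω)
    (e : (DCoh.restrictD j).obj K ≅ (DCoh.tildeD (CommRingCat.of C)).obj ω)
    (h : Spec (CommRingCat.of B) ⟶ X) [IsOpenImmersion h] (hle : Set.range h ⊆ Set.range j) :
    ∃ ω' : Dual.D B, Dual.IsDualizing B ω' ∧
      Nonempty ((DCoh.restrictD h).obj K ≅ (DCoh.tildeD (CommRingCat.of B)).obj ω') := by
  let k : Spec (CommRingCat.of B) ⟶ Spec (CommRingCat.of C) := IsOpenImmersion.lift j h hle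
  have hfac : k ≫ j = h := IsOpenImmersion.lift_fac _ _ _
  haveI : IsOpenImmersion k :=
    haveI : IsOpenImmersion (k ≫ j) := hfac ▸ inferInstance
    IsOpenImmersion.of_comp k j
  letI : Algebra C B := (Spec.preimage k).hom.toAlgebra
  have hk : Spec.map (CommRingCat.ofHom (algebraMap C B)) = k := Spec.map_preimage k
  haveI : IsOpenImmersion (Spec.map (CommRingCat.ofHom (algebraMap C B))) := hk ▸ inferInstance
  haveI : Module.Flat C B := RingHom.flat_algebraMap_iff.1
    ((HasRingHomProperty.Spec_iff (P := @Flat)).1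
      (inferInstanceAs (Flat (Spec.map (CommRingCat.ofHom (algebraMap C B))))))
  haveI : Algebra.Smooth C B := by
    have hs : (CommRingCat.ofHom (algebraMap C B)).hom.Smooth := (HasRingHomProperty.Spec_iff (P := @Smooth)).1
      (inferInstanceAs (Smooth (Spec.map (CommRingCat.ofHom (algebraMap C B)))))
    exact RingHom.smooth_algebraMap.1 hs
  haveI := hω.isNoetherianRing
  obtain ⟨e1⟩ := nonempty_restrictD_comp (Spec.map (CommRingCat.ofHom (algebraMap C B))) j h (by rw [hk, hfac])
  obtain ⟨e2⟩ := nonempty_restrictD_tildeD C B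
  exact ⟨_, Groth.DualCore.isDualizing_extD_of_smooth hω,
    ⟨(e1.app K).symm ≪≫ (DCoh.restrictD _).mapIso e ≪≫ e2.app ω⟩⟩

theorem isQCoh_tilde (R : CommRingCat.{u}) (M : ModuleCat.{u} R) :
    ((tilde.functor R).obj M).IsQuasicoherent :=
  inferInstance

omit [∀ (U V : Scheme.{u}) (j : U ⟶ V) [IsOpenImmersion j],
    PreservesFiniteLimits (Scheme.Modules.restrictFunctor j)]
  [∀ (R : CommRingCat.{u}), PreservesFiniteLimits (tilde.functor R)] in
theorem isQCoh_restrict_opensRange {X Y : Scheme.{u}} (f : Y ⟶ X) [IsOpenImmersion f] (M : X.Modules)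
    (h : (M.restrict f).IsQuasicoherent) : (M.restrict f.opensRange.ι).IsQuasicoherent :=
  (Groth.QCohMod.isQCoh_iff_of_iso
    ((Scheme.Modules.restrictFunctorCongr f.isoOpensRange_inv_comp.symm).app M ≪≫
      (Scheme.Modules.restrictFunctorComp _ _).app M)).2
    (@Scheme.Modules.isQuasicoherent_restrictFunctor _ _ f.isoOpensRange.inv _ (M.restrict f) h)

theorem isQCoh_restrict_HD {X : Scheme.{u}} {B : Type u} [CommRing B] (j : Spec (CommRingCat.of B) ⟶ X)
    [IsOpenImmersion j] (E : DCoh.D X) (ω : Dual.D B)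
    (e : (DCoh.restrictD j).obj E ≅ (DCoh.tildeD (CommRingCat.of B)).obj ω) (i : ℤ) :
    ((DCoh.HD E i).restrict j).IsQuasicoherent := by
  haveI := preservesFiniteColimits_restrictFunctor j
  obtain ⟨e1⟩ := Groth.Calg1.DualSch.nonempty_homology_mapDerivedCategory (Scheme.Modules.restrictFunctor j) E i
  obtain ⟨e2⟩ := Groth.Calg1.DualSch.nonempty_homology_tildeD (CommRingCat.of B) ω i
  exact (Groth.QCohMod.isQCoh_iff_of_iso
    (e1.symm ≪≫ (DerivedCategory.homologyFunctor _ i).mapIso e ≪≫ e2)).2 (isQCoh_tilde _ _)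

/-- Quasi-coherent cohomology from a cover by affine opens on which the object is a derived tilde. -/
theorem isQCohD_of_charts {X : Scheme.{u}} (E : DCoh.D X)
    (h : ∀ p : X, ∃ (B : Type u) (_ : CommRing B) (j : Spec (CommRingCat.of B) ⟶ X) (_ : IsOpenImmersion j)
      (ω : Dual.D B), p ∈ j.opensRange ∧
      Nonempty ((DCoh.restrictD j).obj E ≅ (DCoh.tildeD (CommRingCat.of B)).obj ω)) :
    DCoh.IsQCohD E := fun i => by
  refine Groth.QCohMod.isQCoh_of_forall_exists _ fun p => ?_
  obtain ⟨B, _, j, _, ω, hp, ⟨e⟩⟩ := h p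
  exact ⟨j.opensRange, hp, isQCoh_restrict_opensRange j _ (isQCoh_restrict_HD j E ω e i)⟩

/-- Dualizing complexes over a ring are recognised on a cover by basic opens. -/
theorem isDualizing_of_away_tilde {A : Type u} [CommRing A] [IsNoetherianRing A] (ω : Dual.D A)
    (h : ∀ p : PrimeSpectrum A, ∃ f : A, p ∈ Set.range (away A f) ∧ ∃ ω' : Dual.D (Localization.Away f),
      Dual.IsDualizing (Localization.Away f) ω' ∧
      Nonempty ((DCoh.restrictD (away A f)).obj ((DCoh.tildeD (CommRingCat.of A)).obj ω) ≅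
        (DCoh.tildeD (CommRingCat.of (Localization.Away f))).obj ω')) :
    Dual.IsDualizing A ω := by
  classical
  choose f hf ω' hω' he using h
  obtain ⟨t, ht⟩ := CompactSpace.elim_nhds_subcover (X := (Spec (CommRingCat.of A) : Scheme.{u}))
    (fun p => Set.range (away A (f p)))
    fun p => (away A (f p)).isOpenEmbedding.isOpen_range.mem_nhds (hf p)
  let g : Fin t.card → A := fun k => f (t.equivFin.symm k).1
  have hspan : Ideal.span (Set.range g) = ⊤ := by
    rw [← PrimeSpectrum.iSup_basicOpen_eq_top_iff, eq_top_iff]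
    intro p _
    obtain ⟨q, hq, hp⟩ := Set.mem_iUnion₂.1 (ht.symm.subset (Set.mem_univ p))
    rw [TopologicalSpace.Opens.mem_iSup]
    refine ⟨t.equivFin ⟨q, hq⟩, ?_⟩
    simp only [g, Equiv.symm_apply_apply]
    rw [← SetLike.mem_coe, ← PrimeSpectrum.localization_away_comap_range (Localization.Away (f q)) (f q)]
    exact hp
  refine Groth.DualCore.isDualizing_of_away g hspan ω fun k => ?_
  obtain ⟨e⟩ := he (t.equivFin.symm k).1
  obtain ⟨e2⟩ := nonempty_restrictD_tildeD A (Localization.Away (f (t.equivFin.symm k).1))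
  obtain ⟨e3⟩ := nonempty_iso_of_tildeD_iso _ ((e2.app ω).symm ≪≫ e)
  exact Groth.DualCore.isDualizing_of_iso e3.symm (hω' _)

/-- An object which is dualizing on the members of an affine cover is dualizing. -/
theorem isDualizingSch_of_cover {X : Scheme.{u}} [IsLocallyNoetherian X] (K : DCoh.D X)
    (h : ∀ x : X, ∃ (C : Type u) (_ : CommRing C) (j : Spec (CommRingCat.of C) ⟶ X) (_ : IsOpenImmersion j)
      (ω : Dual.D C), x ∈ Set.range j ∧ Dual.IsDualizing C ω ∧
        Nonempty ((DCoh.restrictD j).obj K ≅ (DCoh.tildeD (CommRingCat.of C)).obj ω)) :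
    Dual2.IsDualizingSch X K := by
  intro A _ j _
  haveI : IsLocallyNoetherian (Spec (CommRingCat.of A)) := isLocallyNoetherian_of_isOpenImmersion j
  haveI : IsNoetherianRing A :=
    (isLocallyNoetherian_Spec (R := CommRingCat.of A)).1 ‹IsLocallyNoetherian (Spec (CommRingCat.of A))›
  -- small opens of `Spec A` on which `K` is dualizing
  have hsmall : ∀ p : PrimeSpectrum A, ∃ f : A, p ∈ Set.range (away A f) ∧
      ∃ ω' : Dual.D (Localization.Away f), Dual.IsDualizing (Localization.Away f) ω' ∧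
        Nonempty ((DCoh.restrictD (away A f)).obj ((DCoh.restrictD j).obj K) ≅
          (DCoh.tildeD (CommRingCat.of (Localization.Away f))).obj ω') := by
    intro p
    obtain ⟨C, _, jC, _, ω, hx, hω, ⟨e⟩⟩ := h (j p)
    obtain ⟨f, hf, hfU⟩ := exists_away_mem (U := j ⁻¹' Set.range jC) p
      (jC.isOpenEmbedding.isOpen_range.preimage j.continuous) hx
    obtain ⟨ω', hω', ⟨e'⟩⟩ := exists_isDualizing_restrict K C _ jC ω hω e (away A f ≫ j) (by
      rintro _ ⟨q, rfl⟩
      exact hfU ⟨q, rfl⟩)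
    obtain ⟨e1⟩ := nonempty_restrictD_comp (away A f) j _ rfl
    exact ⟨f, hf, ω', hω', ⟨e1.app K ≪≫ e'⟩⟩
  obtain ⟨ω, ⟨eω⟩⟩ := (Groth.Misc4.QCohTildeD.isQCohD_iff (CommRingCat.of A) _).1
    (isQCohD_of_charts _ fun p => by
      obtain ⟨f, hf, ω', -, he⟩ := hsmall p
      exact ⟨_, inferInstance, away A f, inferInstance, ω', hf, he⟩)
  refine ⟨ω, isDualizing_of_away_tilde ω fun p => ?_, ⟨eω.symm⟩⟩
  obtain ⟨f, hf, ω', hω', ⟨e⟩⟩ := hsmall p
  exact ⟨f, hf, ω', hω', ⟨(DCoh.restrictD (away A f)).mapIso eω ≪≫ e⟩⟩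

end Groth.Dual3Gor
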