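import Groth.Agent.S0369
import Groth.Agent.S0366
import Groth.Agent.S2668
import Groth.Agent.DualCore.Regular
import Groth.Agent.Calg1.DualSchLocal
import Groth.Agent.CohTwo.ExtShSections
import Groth.Agent.QCohMod.Affine
import Groth.Agent.Dual3Gor.LocalD

/-!
# The lowest cohomology module of a dualizing complex
-/

set_option autoImplicit false

universe u

open CategoryTheory CategoryTheory.Limits AlgebraicGeometry IsLocalRing
open scoped TensorProduct
attribute [local instance] HasDerivedCategory.standard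

namespace Groth.Dual3Gor

/-- The lowest cohomology module of a dualizing complex over a local ring is `(S₂)`, and torsion-free
over a domain. -/
theorem hasSk_two_of_lowest (A : Type u) [CommRing A] [IsLocalRing A] [IsNoetherianRing A] (ω : Dual.D A)
    (hω : Dual.IsDualizing A ω) (n : ℤ) (hlt : ∀ i, i < n → Subsingleton (Dual.HD A ω i))
    (hn : Nontrivial (Dual.HD A ω n)) :
    LocCoh.HasSk 2 A (Dual.HD A ω n) ∧ (IsDomain A → Module.IsTorsionFree A (Dual.HD A ω n)) := by
  obtain ⟨d, hd⟩ : ∃ d : ℕ, ringKrullDim A = (d : WithBot ℕ∞) := by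
    obtain ⟨d, hd⟩ := Groth.DualCore.exists_supportDim_eq (A := A) A
    exact ⟨d, Module.supportDim_self_eq_ringKrullDim A ▸ hd⟩
  obtain ⟨m, hm, -, -⟩ := Groth.DualCore.exists_normalized hω
  let ω' := ω⟦m⟧
  have hω' : Dual.IsDualizing A ω' := Groth.DualCore.isDualizing_shift hω m
  haveI := hω'.finite_cohomology
  let sh : ∀ i j : ℤ, m + i = j → Dual.HD A ω' i ≃ₗ[A] Dual.HD A ω j := fun i j h =>
    Groth.DualCore.HDShiftEquiv ω m i j h
  let K := Dual.HD A ω' (-(d : ℤ))
  obtain ⟨hsupp, hS2⟩ := Groth.Agent.S0369.result A ω' hω' hm d hd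
  obtain ⟨E, _, _, f, hf⟩ := GrothMatlis.exists_hull A (IsLocalRing.ResidueField A)
  obtain ⟨H, _, _, _, ⟨σ⟩, ⟨e⟩⟩ := Groth.DualCore.exists_localCohomology_equiv hω' hm hf A d
  let τ' : H ≃ₗ[A] K := σ.trans (Groth.DualCore.homAEquiv ω' (-(d : ℤ)))
  let eK : (K →ₗ[A] E) ≃ₗ[A] LocCoh.H (IsLocalRing.maximalIdeal A) d A :=
    (LinearEquiv.arrowCongr τ' (LinearEquiv.refl A E)).symm.trans e.symm
  -- the top degree is `-d`
  have hK : Nontrivial K := by
    obtain ⟨l, hl⟩ := Order.le_krullDim_iff.1 (show (d : WithBot ℕ∞) ≤ ringKrullDim A from hd.ge)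
    have hco : Order.coheight l.head = (d : ℕ∞) := by
      refine le_antisymm (WithBot.coe_le_coe.1 ((Order.coheight_le_krullDim l.head).trans hd.le)) ?_
      rw [← hl]
      exact Order.length_le_coheight_head
    obtain ⟨x, hx⟩ := Module.mem_support_iff'.1 (Groth.LocCohBase.mem_support_of_coheight_eq hd eK hco)
    by_contra h
    haveI := not_nontrivial_iff_subsingleton.1 h
    exact hx 1 (fun h1 => l.head.isPrime.ne_top ((Ideal.eq_top_iff_one _).2 h1)) (Subsingleton.elim _ _)
  have hbelow : ∀ i, i < -(d : ℤ) → Subsingleton (Dual.HD A ω' i) := fun i hi => by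
    rw [← not_nontrivial_iff_subsingleton]
    intro hnt
    haveI : Nontrivial (Dual.inD A A ⟶ ω'⟦i⟧) := (Groth.DualCore.homAEquiv ω' i).toEquiv.nontrivial
    have := ((Groth.Agent.S0366.result A ω' hω' hm A d
      ((Module.supportDim_self_eq_ringKrullDim A).trans hd) i).1 inferInstance).1
    lia
  have hnm : n = m + -(d : ℤ) := by
    rcases lt_trichotomy n (m + -(d : ℤ)) with h | h | h
    · haveI := hbelow (n - m) (by lia)
      haveI := (sh (n - m) n (by lia)).symm.toEquiv.subsingleton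
      exact absurd hn (not_nontrivial _)
    · exact h
    · haveI := hlt _ h
      haveI := (sh (-(d : ℤ)) _ rfl).toEquiv.subsingleton
      exact absurd hK (not_nontrivial _)
  let τ := sh (-(d : ℤ)) n hnm.symm
  refine ⟨Groth.Agent.S2668.hasSk_congr τ hS2, fun _ => ?_⟩
  suffices h : Module.IsTorsionFree A K from
    Function.Injective.moduleIsTorsionFree τ.symm τ.symm.injective (fun r x => map_smul τ.symm r x)
  refine ⟨fun r hr => ?_⟩
  by_contra hcon
  have hmem : r ∈ ⋃ p ∈ associatedPrimes A K, (p : Set A) := by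
    rw [biUnion_associatedPrimes_eq_compl_regular]
    exact hcon
  obtain ⟨P, hP, hrP⟩ := Set.mem_iUnion₂.1 hmem
  haveI := hP.isPrime
  have hco := (Groth.LocCohBase.mem_associatedPrimes_iff hd hf eK ⟨P, inferInstance⟩).1 hP
  have hbot : (⟨⊥, Ideal.isPrime_bot⟩ : PrimeSpectrum A) = ⟨P, inferInstance⟩ :=
    Groth.LocCohBase.mem_minimalPrimes_of_coheight_eq hd hco.ge bot_le
  have hP0 : P = ⊥ := (congrArg PrimeSpectrum.asIdeal hbot).symm
  rw [hP0] at hrP
  exact hr.ne_zero hrP

theorem hasSk_of_subsingleton (k : ℕ) (A : Type u) [CommRing A] (M : Type u) [AddCommGroup M] [Module A M]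
    [Subsingleton M] : LocCoh.HasSk k A M := fun p _ => by
  rw [Module.supportDim_eq_bot_of_subsingleton, min_bot_right]
  exact bot_le

/-- A dualizing complex on a scheme has quasi-coherent cohomology. -/
theorem isQCohD_of_forall {X : Scheme.{u}} [IsLocallyNoetherian X]
    [∀ (U : Scheme.{u}) (j : U ⟶ X) [IsOpenImmersion j], PreservesFiniteLimits (Scheme.Modules.restrictFunctor j)]
    [∀ (R : CommRingCat.{u}), PreservesFiniteLimits (tilde.functor R)] (K : DCoh.D X)
    (hK : Dual2.IsDualizingSch X K) : DCoh.IsQCohD K := fun i => by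
  refine Groth.QCohMod.isQCoh_of_forall_exists _ fun p => ?_
  obtain ⟨U, hU, hpU, -⟩ := exists_isAffineOpen_mem_and_subset (x := p) (TopologicalSpace.Opens.mem_top p)
  let j : Spec (CommRingCat.of Γ(X, U)) ⟶ X := hU.fromSpec
  haveI : IsOpenImmersion j := hU.isOpenImmersion_fromSpec
  obtain ⟨ω, -, ⟨e⟩⟩ := hK Γ(X, U) j
  haveI := preservesFiniteColimits_restrictFunctor j
  obtain ⟨e1⟩ := Groth.Calg1.DualSch.nonempty_homology_mapDerivedCategory (Scheme.Modules.restrictFunctor j) K i
  obtain ⟨e2⟩ := Groth.Calg1.DualSch.nonempty_homology_tildeD (CommRingCat.of Γ(X, U)) ω i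
  haveI : ((DCoh.HD K i).restrict hU.fromSpec).IsQuasicoherent :=
    (Groth.QCohMod.isQCoh_iff_of_iso
      (e1.symm ≪≫ (DerivedCategory.homologyFunctor _ i).mapIso e ≪≫ e2)).2 (isQCoh_tilde _ _)
  exact ⟨U, hpU, Groth.QCohMod.isQCoh_restrict_ι_of_fromSpec _ hU⟩

/-- The lowest cohomology sheaf of a dualizing complex at a point. -/
theorem hasSk_two_stalk (X : Scheme.{u}) [IsLocallyNoetherian X]
    [∀ (U : Scheme.{u}) (j : U ⟶ X) [IsOpenImmersion j], PreservesFiniteLimits (Scheme.Modules.restrictFunctor j)]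
    [∀ (R : CommRingCat.{u}), PreservesFiniteLimits (tilde.functor R)] (K : DCoh.D X)
    (hK : Dual2.IsDualizingSch X K) (n : ℤ) (hlt : ∀ i : ℤ, i < n → IsZero (DCoh.HD K i)) (x : X) :
    LocCoh.HasSk 2 (X.presheaf.stalk x) ((DCoh.HD K n).presheaf.stalk x) ∧
      (IsDomain (X.presheaf.stalk x) →
        Module.IsTorsionFree (X.presheaf.stalk x) ((DCoh.HD K n).presheaf.stalk x)) := by
  obtain ⟨U, hU, hxU, -⟩ := exists_isAffineOpen_mem_and_subset (x := x) (TopologicalSpace.Opens.mem_top x)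
  have : IsNoetherianRing Γ(X, U) := IsLocallyNoetherian.component_noetherian ⟨U, hU⟩
  let j : Spec (CommRingCat.of Γ(X, U)) ⟶ X := hU.fromSpec
  have : IsOpenImmersion j := hU.isOpenImmersion_fromSpec
  obtain ⟨ω, hω, ⟨e⟩⟩ := hK Γ(X, U) j
  haveI := preservesFiniteColimits_restrictFunctor j
  have hsec : ∀ i, Nonempty (Γ(DCoh.HD K i, U) ≃ₗ[Γ(X, U)] Dual.HD Γ(X, U) ω i) := fun i => by
    obtain ⟨e1⟩ := Groth.Calg1.DualSch.nonempty_homology_mapDerivedCategory (Scheme.Modules.restrictFunctor j) K i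
    obtain ⟨e2⟩ := Groth.Calg1.DualSch.nonempty_homology_tildeD (CommRingCat.of Γ(X, U)) ω i
    exact ⟨(Groth.CohTwo.ExtShSec.topLin hU _).symm.trans
      ((moduleSpecΓFunctor.mapIso (e1.symm ≪≫ (DerivedCategory.homologyFunctor _ i).mapIso e ≪≫ e2)) ≪≫
        (tilde.isoTop _).symm).toLinearEquiv⟩
  have hq : DCoh.IsQCohD K := isQCohD_of_forall K hK
  haveI : ∀ i, (DCoh.HD K i).IsQuasicoherent := fun i => hq i
  let q := hU.primeIdealOf ⟨x, hxU⟩
  let R := X.presheaf.stalk x
  letI : Algebra Γ(X, U) R := TopCat.Presheaf.algebra_section_stalk X.presheaf (⟨x, hxU⟩ : U)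
  haveI : IsLocalization.AtPrime R q.asIdeal := hU.isLocalization_stalk ⟨x, hxU⟩
  haveI : Module.Flat Γ(X, U) R := IsLocalization.flat R q.asIdeal.primeCompl
  have hsub : ∀ i, IsZero (DCoh.HD K i) → Subsingleton (Dual.HD R ((Groth.DualCore.extD Γ(X, U) R).obj ω) i) :=
    fun i hi => by
    have hP : IsZero (DCoh.HD K i).presheaf := (Scheme.Modules.toPresheaf X).map_isZero hi
    haveI : Subsingleton Γ(DCoh.HD K i, U) :=
      AddCommGrpCat.subsingleton_of_isZero (((evaluation _ _).obj (Opposite.op U)).map_isZero hP)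
    haveI := (hsec i).some.symm.toEquiv.subsingleton
    exact (Groth.DualCore.HDExtEquiv ω i).symm.toEquiv.subsingleton
  letI := Groth.QCohMod.stalkModule (DCoh.HD K n) x hxU
  haveI : IsScalarTower Γ(X, U) R ((DCoh.HD K n).presheaf.stalk x) := IsScalarTower.of_algebraMap_smul fun _ _ => rfl
  haveI := Groth.QCohMod.isLocalizedModule_germ (DCoh.HD K n) hU x hxU
  let τ : Dual.HD R ((Groth.DualCore.extD Γ(X, U) R).obj ω) n ≃ₗ[R] (DCoh.HD K n).presheaf.stalk x :=
    (Groth.DualCore.HDExtEquiv ω n).symm.trans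
      (((hsec n).some.symm.baseChange Γ(X, U) R).trans
        (IsLocalizedModule.isBaseChange q.asIdeal.primeCompl R (Groth.QCohMod.germₗ (DCoh.HD K n) x hxU)).equiv)
  rcases subsingleton_or_nontrivial ((DCoh.HD K n).presheaf.stalk x) with h | h
  · exact ⟨hasSk_of_subsingleton 2 R _, fun _ => inferInstance⟩
  · haveI := τ.toEquiv.nontrivial
    haveI : IsNoetherianRing R := IsLocalization.isNoetherianRing q.asIdeal.primeCompl R inferInstance
    obtain ⟨h1, h2⟩ := hasSk_two_of_lowest R _ (Groth.DualCore.isDualizing_extD q.asIdeal.primeCompl hω) n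
      (fun i hi => hsub i (hlt i hi)) inferInstance
    refine ⟨Groth.Agent.S2668.hasSk_congr τ h1, fun hd => ?_⟩
    haveI := h2 hd
    exact Function.Injective.moduleIsTorsionFree τ.symm τ.symm.injective (fun r x => map_smul τ.symm r x)

end Groth.Dual3Gor
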