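import Groth.Agent.Misc4.DerivedComp
import Groth.Agent.Misc4.QCohTildeD
import Groth.Agent.PropsBasic2.TildePullback
import Groth.Agent.DualCore.Extend
import Groth.Agent.Dual3Gor.Chart

/-!
# Restriction, tilde and shifts on derived categories of schemes

`nonempty_restrictD_comp`, `nonempty_restrictD_congr`, `nonempty_restrictD_tildeD`,
`nonempty_tildeD_inD_self`, `nonempty_restrictD_inD_unit`, `nonempty_iso_of_tildeD_iso`.
-/

set_option autoImplicit false
set_option backward.isDefEq.respectTransparency.types false

universe u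

open CategoryTheory CategoryTheory.Limits AlgebraicGeometry
attribute [local instance] HasDerivedCategory.standard

namespace Groth.Dual3Gor

variable {X Y Z : Scheme.{u}}

theorem preservesFiniteColimits_restrictFunctor (f : X ⟶ Y) [IsOpenImmersion f] :
    PreservesFiniteColimits (Scheme.Modules.restrictFunctor f) :=
  haveI : PreservesColimitsOfSize.{0, 0} (Scheme.Modules.restrictFunctor f) :=
    (Scheme.Modules.restrictAdjunction f).leftAdjoint_preservesColimits
  inferInstance

theorem additive_tildeR (R : CommRingCat.{u}) : (tilde.functor R).Additive := inferInstance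

theorem additive_tildeOf (A : Type u) [CommRing A] : (tilde.functor (CommRingCat.of A)).Additive :=
  additive_tildeR (CommRingCat.of A)

attribute [local instance] additive_tildeOf

theorem preservesFiniteColimits_tilde (R : CommRingCat.{u}) : PreservesFiniteColimits (tilde.functor R) :=
  haveI : PreservesColimitsOfSize.{0, 0} (tilde.functor R) :=
    (tilde.adjunction (R := R)).leftAdjoint_preservesColimits
  inferInstance

section Restrict

variable [∀ (U V : Scheme.{u}) (j : U ⟶ V) [IsOpenImmersion j],
  PreservesFiniteLimits (Scheme.Modules.restrictFunctor j)]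

/-- Restriction is transitive. -/
theorem nonempty_restrictD_comp (f : X ⟶ Y) (g : Y ⟶ Z) [IsOpenImmersion f] [IsOpenImmersion g]
    (h : X ⟶ Z) [IsOpenImmersion h] (hfg : h = f ≫ g) :
    Nonempty (DCoh.restrictD g ⋙ DCoh.restrictD f ≅ DCoh.restrictD h) := by
  subst hfg
  haveI := preservesFiniteColimits_restrictFunctor f
  haveI := preservesFiniteColimits_restrictFunctor g
  haveI := preservesFiniteColimits_restrictFunctor (f ≫ g)
  exact ⟨Groth.Misc4.DerivedComp.compIso _ _ _ (Scheme.Modules.restrictFunctorComp f g).symm⟩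

/-- The structure sheaf restricts to the structure sheaf. -/
theorem nonempty_restrictD_inD_unit (f : X ⟶ Y) [IsOpenImmersion f] (n : ℤ) :
    Nonempty ((DCoh.restrictD f).obj ((DCoh.inD Y (Coh.structureModule Y))⟦n⟧) ≅
      (DCoh.inD X (Coh.structureModule X))⟦n⟧) :=
  haveI := preservesFiniteColimits_restrictFunctor f
  ⟨((DCoh.restrictD f).commShiftIso n).app _ ≪≫ (shiftFunctor _ n).mapIso
    (((Scheme.Modules.restrictFunctor f).mapDerivedCategorySingleFunctor 0).app (Coh.structureModule Y) ≪≫
      (DerivedCategory.singleFunctor X.Modules 0).mapIso (Scheme.Modules.restrictUnitIso f))⟩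

end Restrict

variable [∀ (R : CommRingCat.{u}), PreservesFiniteLimits (tilde.functor R)]

/-- The tilde of a free module of rank one is the structure sheaf. -/
theorem nonempty_tildeD_inD_self (A : Type u) [CommRing A] (n : ℤ) :
    Nonempty ((DCoh.tildeD (CommRingCat.of A)).obj ((Dual.inD A A)⟦n⟧) ≅
      (DCoh.inD (Spec (CommRingCat.of A)) (Coh.structureModule (Spec (CommRingCat.of A))))⟦n⟧) :=
  haveI := preservesFiniteColimits_tilde (CommRingCat.of A)
  ⟨((DCoh.tildeD (CommRingCat.of A)).commShiftIso n).app _ ≪≫ (shiftFunctor _ n).mapIso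
    (((tilde.functor (CommRingCat.of A)).mapDerivedCategorySingleFunctor 0).app (ModuleCat.of A A) ≪≫
      (DerivedCategory.singleFunctor _ 0).mapIso (tildeSelf (R := CommRingCat.of A)))⟩

/-- The derived tilde reflects isomorphisms of objects. -/
theorem nonempty_iso_of_tildeD_iso (A : Type u) [CommRing A] {K L : Dual.D A}
    (e : (DCoh.tildeD (CommRingCat.of A)).obj K ≅ (DCoh.tildeD (CommRingCat.of A)).obj L) : Nonempty (K ≅ L) := by
  haveI : (DCoh.tildeD (CommRingCat.of A)).Full :=
    ⟨fun {M N} g => (Groth.Misc4.QCohTildeD.bijective_map (CommRingCat.of A) M N).2 g⟩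
  haveI : (DCoh.tildeD (CommRingCat.of A)).Faithful :=
    ⟨fun {M N} _ _ h => (Groth.Misc4.QCohTildeD.bijective_map (CommRingCat.of A) M N).1 h⟩
  exact ⟨(DCoh.tildeD (CommRingCat.of A)).preimageIso e⟩

/-- The derived tilde commutes with restriction to an affine open. -/
theorem nonempty_restrictD_tildeD
    [∀ (U V : Scheme.{u}) (j : U ⟶ V) [IsOpenImmersion j], PreservesFiniteLimits (Scheme.Modules.restrictFunctor j)]
    (A B : Type u) [CommRing A] [CommRing B] [Algebra A B] [Module.Flat A B]
    [IsOpenImmersion (Spec.map (CommRingCat.ofHom (algebraMap A B)))] :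
    Nonempty (DCoh.tildeD (CommRingCat.of A) ⋙ DCoh.restrictD (Spec.map (CommRingCat.ofHom (algebraMap A B))) ≅
      Groth.DualCore.extD A B ⋙ DCoh.tildeD (CommRingCat.of B)) := by
  let j := Spec.map (CommRingCat.ofHom (algebraMap A B))
  haveI := preservesFiniteColimits_restrictFunctor j
  haveI := preservesFiniteColimits_tilde (CommRingCat.of A)
  haveI := preservesFiniteColimits_tilde (CommRingCat.of B)
  let H := Groth.DualCore.ext A B ⋙ tilde.functor (CommRingCat.of B)
  let e : tilde.functor (CommRingCat.of A) ⋙ Scheme.Modules.restrictFunctor j ≅ H :=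
    Functor.isoWhiskerLeft _ (Scheme.Modules.restrictFunctorIsoPullback j) ≪≫
      Groth.PropsBasic2.TildePullback.iso (CommRingCat.ofHom (algebraMap A B))
  haveI : H.Additive := inferInstanceAs (Groth.DualCore.ext A B ⋙ tilde.functor (CommRingCat.of B)).Additive
  haveI : PreservesFiniteLimits H :=
    inferInstanceAs (PreservesFiniteLimits (Groth.DualCore.ext A B ⋙ tilde.functor (CommRingCat.of B)))
  haveI : PreservesFiniteColimits H :=
    inferInstanceAs (PreservesFiniteColimits (Groth.DualCore.ext A B ⋙ tilde.functor (CommRingCat.of B)))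
  exact ⟨Groth.Misc4.DerivedComp.compIso _ _ H e ≪≫
    (Groth.Misc4.DerivedComp.compIso (Groth.DualCore.ext A B) (tilde.functor (CommRingCat.of B)) H (Iso.refl _)).symm⟩

end Groth.Dual3Gor
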