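import Groth.Agent.DerivedCoh.KFlat.LpullComp
import Groth.Agent.Dual3Gor.SchemeD
import Groth.Agent.S1055

/-!
# `Lf^*` on affine charts
-/

set_option autoImplicit false

universe u

open CategoryTheory CategoryTheory.Limits AlgebraicGeometry
open Groth.DerivedCoh.KFlat (L₀ pullCx flatResolution flatResolutionAug LpullResIso)
attribute [local instance] HasDerivedCategory.standard

namespace Groth.Dual3Gor

variable [∀ (U V : Scheme.{u}) (j : U ⟶ V) [IsOpenImmersion j],
  PreservesFiniteLimits (Scheme.Modules.restrictFunctor j)]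

local notation "up" => ComplexShape.up ℤ

/-- For an open immersion the derived inverse image is restriction. -/
theorem nonempty_Lpull_iso_restrictD {U X : Scheme.{u}} (j : U ⟶ X) [IsOpenImmersion j] [DCoh.HasLpull j] :
    Nonempty (DCoh.Lpull j ≅ DCoh.restrictD j) := by
  haveI := preservesFiniteColimits_restrictFunctor j
  let F := (Scheme.Modules.restrictFunctor j).mapHomologicalComplex up
  have h : ∀ K, IsIso ((Functor.whiskerRight (flatResolutionAug X) (F ⋙ L₀ U)).app K) := fun K => by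
    have := Groth.DerivedCoh.KFlat.flatResolution_quasiIso K
    exact Groth.DerivedCoh.KFlat.isIso_L₀_map (F.map ((flatResolutionAug X).app K))
  haveI := NatIso.isIso_of_isIso_app (Functor.whiskerRight (flatResolutionAug X) (F ⋙ L₀ U))
  let e : L₀ X ⋙ DCoh.Lpull j ≅ L₀ X ⋙ DCoh.restrictD j :=
    LpullResIso j ≪≫
      Functor.isoWhiskerLeft (flatResolution X) (Functor.isoWhiskerRight
        (NatIso.mapHomologicalComplex (Scheme.Modules.restrictFunctorIsoPullback j).symm up) (L₀ U)) ≪≫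
      asIso (Functor.whiskerRight (flatResolutionAug X) (F ⋙ L₀ U)) ≪≫ Functor.leftUnitor _ ≪≫
      Functor.isoWhiskerLeft F (DerivedCategory.quotientCompQhIso U.Modules) ≪≫
      (Scheme.Modules.restrictFunctor j).mapDerivedCategoryFactors.symm ≪≫
      Functor.isoWhiskerRight (DerivedCategory.quotientCompQhIso X.Modules).symm _
  exact ⟨Localization.liftNatIso (L₀ X) (HomologicalComplex.quasiIso X.Modules up)
    (L₀ X ⋙ DCoh.Lpull j) (L₀ X ⋙ DCoh.restrictD j) _ _ e⟩

theorem nonempty_Lpull_congr {X Y : Scheme.{u}} {g g' : X ⟶ Y} (h : g = g') [DCoh.HasLpull g] [DCoh.HasLpull g']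
    (K : DCoh.D Y) : Nonempty ((DCoh.Lpull g).obj K ≅ (DCoh.Lpull g').obj K) := by
  subst h
  exact ⟨Iso.refl _⟩

variable [∀ (R : CommRingCat.{u}), PreservesFiniteLimits (tilde.functor R)]

/-- The derived inverse image on compatible charts of a flat ring map. -/
theorem nonempty_restrictD_Lpull_chart {X Y : Scheme.{u}} (f : X ⟶ Y) [DCoh.HasLpull f]
    {A B : Type u} [CommRing A] [CommRing B] [Algebra A B] [Module.Flat A B]
    (i : Spec (CommRingCat.of A) ⟶ Y) [IsOpenImmersion i] (j : Spec (CommRingCat.of B) ⟶ X) [IsOpenImmersion j]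
    (hsq : j ≫ f = Spec.map (CommRingCat.ofHom (algebraMap A B)) ≫ i) (K : DCoh.D Y) (ω : Dual.D A)
    (e : (DCoh.restrictD i).obj K ≅ (DCoh.tildeD (CommRingCat.of A)).obj ω) :
    Nonempty ((DCoh.restrictD j).obj ((DCoh.Lpull f).obj K) ≅
      (DCoh.tildeD (CommRingCat.of B)).obj ((Groth.DualCore.extD A B).obj ω)) := by
  let φ := Spec.map (CommRingCat.ofHom (algebraMap A B))
  haveI := Groth.DerivedCoh.KFlat.hasLpull j
  haveI := Groth.DerivedCoh.KFlat.hasLpull i
  haveI := Groth.DerivedCoh.KFlat.hasLpull φ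
  haveI := Groth.DerivedCoh.KFlat.hasLpull (j ≫ f)
  haveI := Groth.DerivedCoh.KFlat.hasLpull (φ ≫ i)
  haveI := Groth.DualCore.hasLBaseChange A B
  obtain ⟨a⟩ := Groth.DerivedCoh.KFlat.Lpull_comp_iso j f
  obtain ⟨b⟩ := Groth.DerivedCoh.KFlat.Lpull_comp_iso φ i
  obtain ⟨c⟩ := nonempty_Lpull_iso_restrictD j
  obtain ⟨d⟩ := nonempty_Lpull_iso_restrictD i
  obtain ⟨t⟩ := Groth.Agent.S1055.result (algebraMap A B)
  obtain ⟨s⟩ := nonempty_Lpull_congr hsq K
  exact ⟨(c.app _).symm ≪≫ a.app K ≪≫ s ≪≫ (b.app K).symm ≪≫ (DCoh.Lpull φ).mapIso (d.app K ≪≫ e) ≪≫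
    (t.app ω).symm ≪≫ (DCoh.tildeD (CommRingCat.of B)).mapIso ((Groth.DualCore.LBaseChangeIso A B).app ω)⟩

end Groth.Dual3Gor
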