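import Groth.Agent.Dual3Gor.LpullChart
import Groth.Agent.Dual3Gor.FamilyDescent
import Groth.Agent.Dual3Gor.LocalD
import Groth.Agent.Dual3Gor.Open
import Groth.Agent.DualCore.FibreRings
import Groth.Agent.Gorenstein.LCI
import Groth.Agent.Syntomic.CIFibre

/-!
# Dualizing complexes and flat Gorenstein morphisms
-/

set_option autoImplicit false

universe u

open CategoryTheory CategoryTheory.Limits AlgebraicGeometry
attribute [local instance] HasDerivedCategory.standard

namespace Groth.Dual3Gor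

variable {X Y : Scheme.{u}}

theorem flat_of_isGorensteinMor (f : X ⟶ Y) (hf : Dual3.IsGorensteinMor f) : Flat f :=
  Flat.of_stalkMap _ fun x => (hf x).1

theorem comap_comap_includeRight {A B : Type u} [CommRing A] [CommRing B] [Algebra A B] (p : Ideal A) [p.IsPrime]
    (Q : Ideal (p.Fiber B)) [Q.IsPrime] :
    (Q.comap Algebra.TensorProduct.includeRight).comap (algebraMap A B) = p := by
  ext a
  have h : Algebra.TensorProduct.includeRight (R := A) (A := p.ResidueField) (algebraMap A B a) =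
      algebraMap p.ResidueField (p.Fiber B) (algebraMap A p.ResidueField a) := by
    rw [AlgHom.commutes, ← IsScalarTower.algebraMap_apply]
  rw [Ideal.mem_comap, Ideal.mem_comap]
  change Algebra.TensorProduct.includeRight (R := A) (A := p.ResidueField) (algebraMap A B a) ∈ Q ↔ _
  rw [h, ← Ideal.algebraMap_residueField_eq_zero (I := p)]
  refine ⟨fun hq => by_contra fun hne => ?_, fun h0 => by rw [h0, map_zero]; exact Q.zero_mem⟩
  exact (inferInstance : Q.IsPrime).ne_top (Ideal.eq_top_of_isUnit_mem _ hq ((isUnit_iff_ne_zero.2 hne).map _))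

/-- The fibre rings of a Gorenstein morphism on affine charts are Gorenstein. -/
theorem exists_injLT_fibre (f : X ⟶ Y) (hf : Dual3.IsGorensteinMor f) {V : Y.Opens} (hV : IsAffineOpen V)
    {U : X.Opens} (hU : IsAffineOpen U) (e : U ≤ f ⁻¹ᵁ V) :
    letI := (f.appLE V U e).hom.toAlgebra
    ∀ (p : Ideal Γ(Y, V)) [p.IsPrime] (Q : Ideal (p.Fiber Γ(X, U))) [Q.IsPrime],
      ∃ k, GrothGoren.InjLT (Localization.AtPrime Q) (Localization.AtPrime Q) k := by
  letI := (f.appLE V U e).hom.toAlgebra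
  intro p _ Q _
  let n := Q.comap (Algebra.TensorProduct.includeRight : Γ(X, U) →ₐ[Γ(Y, V)] p.Fiber Γ(X, U))
  let P : Spec Γ(X, U) := (⟨n, inferInstance⟩ : PrimeSpectrum Γ(X, U))
  have hP : hU.fromSpec P ∈ U := hU.range_fromSpec.subset ⟨_, rfl⟩
  have he : hU.primeIdealOf ⟨_, hP⟩ = P := hU.fromSpec.isOpenEmbedding.injective (hU.fromSpec_primeIdealOf _)
  have h := (gorFibre_iff_fibLocRing f hV hU e _ hP).1
    ((Groth.AlgSpEt.isGorensteinAt_iff f _).1 (hf _)).2
  obtain ⟨e1⟩ := Groth.Syntomic.exists_localization_fibre_equiv (A := Γ(Y, V)) (B := Γ(X, U)) p Q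
    (hU.primeIdealOf ⟨_, hP⟩).asIdeal (congrArg PrimeSpectrum.asIdeal he).symm
    ((congrArg (fun P : PrimeSpectrum Γ(X, U) => P.asIdeal.comap (algebraMap Γ(Y, V) Γ(X, U))) he).trans
      (comap_comap_includeRight p Q))
  haveI : LocCoh.IsGorensteinLocalRing (Localization.AtPrime Q) :=
    (Groth.AlgSpEt.GorRing.isGorenstein_iff_of_ringEquiv e1).2 h
  exact (GrothGoren.isGorenstein_iff _).1 inferInstance

/-- Flat local complete intersection morphisms are Gorenstein. -/
theorem isGorensteinMor_of_flat_lci (f : X ⟶ Y) [Flat f] (hf : Dual3.IsLCIMor f) :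
    Dual3.IsGorensteinMor f := by
  intro x
  obtain ⟨U, V, e, hxU, h⟩ := hf x
  letI := (f.appLE V.1 U.1 e).hom.toAlgebra
  haveI : Module.Flat Γ(Y, V.1) Γ(X, U.1) := HasRingHomProperty.appLE @Flat f inferInstance V U e
  rw [Groth.AlgSpEt.isGorensteinAt_iff]
  refine ⟨Flat.stalkMap f x, (gorFibre_iff_fibLocRing f V.2 U.2 e x hxU).2 ?_⟩
  let q := (U.2.primeIdealOf ⟨x, hxU⟩).asIdeal
  obtain ⟨Q, hQ, ⟨e1⟩⟩ := Groth.DualCore.exists_fibre_localization_equiv (A := Γ(Y, V.1)) q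
  haveI := GrothGoren.isGorensteinRing_fibre_of_isLCI h (q.comap (algebraMap Γ(Y, V.1) Γ(X, U.1)))
  exact (Groth.AlgSpEt.GorRing.isGorenstein_iff_of_ringEquiv e1).1
    (LocCoh.IsGorensteinRing.isGorensteinLocalRing_localization Q)

theorem locallyOfFiniteType_of_lci (f : X ⟶ Y) (hf : Dual3.IsLCIMor f) : LocallyOfFiniteType f := by
  rw [HasRingHomProperty.iff_exists_appLE (P := @LocallyOfFiniteType)
    (RingHom.finiteType_stableUnderComposition.stableUnderCompositionWithLocalizationAway RingHom.finiteType_holdsForLocalizationAway).1]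
  intro x
  obtain ⟨U, V, e, hxU, h⟩ := hf x
  exact ⟨V, U, hxU, e, by
    letI := (f.appLE V.1 U.1 e).hom.toAlgebra
    exact h.1⟩

variable [∀ (U V : Scheme.{u}) (j : U ⟶ V) [IsOpenImmersion j],
  PreservesFiniteLimits (Scheme.Modules.restrictFunctor j)]
  [∀ (R : CommRingCat.{u}), PreservesFiniteLimits (tilde.functor R)]

/-- The derived inverse image of a dualizing complex along a flat Gorenstein morphism. -/
theorem isDualizingSch_Lpull [IsLocallyNoetherian X] [IsLocallyNoetherian Y] (f : X ⟶ Y)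
    [LocallyOfFiniteType f] (hf : Dual3.IsGorensteinMor f) [DCoh.HasLpull f] (K : DCoh.D Y)
    (hK : Dual2.IsDualizingSch Y K) : Dual2.IsDualizingSch X ((DCoh.Lpull f).obj K) := by
  haveI := flat_of_isGorensteinMor f hf
  refine isDualizingSch_of_cover _ fun x => ?_
  obtain ⟨V, hV, hxV, -⟩ := exists_isAffineOpen_mem_and_subset (x := f x) (TopologicalSpace.Opens.mem_top (f x))
  obtain ⟨U, hU, hxU, e⟩ := exists_isAffineOpen_mem_and_subset (x := x) (show x ∈ f ⁻¹ᵁ V from hxV)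
  letI := (f.appLE V U e).hom.toAlgebra
  haveI : Module.Flat Γ(Y, V) Γ(X, U) :=
    HasRingHomProperty.appLE @Flat f inferInstance ⟨V, hV⟩ ⟨U, hU⟩ e
  haveI : Algebra.FiniteType Γ(Y, V) Γ(X, U) := f.finiteType_appLE hV hU e
  haveI : IsNoetherianRing Γ(Y, V) := IsLocallyNoetherian.component_noetherian ⟨V, hV⟩
  haveI : IsNoetherianRing Γ(X, U) := IsLocallyNoetherian.component_noetherian ⟨U, hU⟩
  let i : Spec (CommRingCat.of Γ(Y, V)) ⟶ Y := hV.fromSpec
  let j : Spec (CommRingCat.of Γ(X, U)) ⟶ X := hU.fromSpec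
  haveI : IsOpenImmersion i := hV.isOpenImmersion_fromSpec
  haveI : IsOpenImmersion j := hU.isOpenImmersion_fromSpec
  obtain ⟨ω, hω, ⟨eω⟩⟩ := hK Γ(Y, V) i
  obtain ⟨N, hN⟩ := Groth.DualCore.exists_fibre_dim_bound Γ(Y, V) Γ(X, U)
  refine ⟨Γ(X, U), inferInstance, j, inferInstance, (Groth.DualCore.extD Γ(Y, V) Γ(X, U)).obj ω,
    hU.range_fromSpec.ge hxU,
    Groth.DualCore.isDualizing_extD_of_gorenstein_fibre hω N (fun p _ => hN p)
      (exists_injLT_fibre f hf hV hU e), ?_⟩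
  exact nonempty_restrictD_Lpull_chart f i j (IsAffineOpen.SpecMap_appLE_fromSpec f hV hU e).symm K ω eω

/-- Descent of dualizing complexes along flat surjections locally of finite type. -/
theorem isDualizingSch_of_Lpull [IsLocallyNoetherian X] [IsLocallyNoetherian Y] (f : X ⟶ Y)
    [LocallyOfFiniteType f] [Flat f] [Surjective f] [DCoh.HasLpull f] (K : DCoh.D Y) (hq : DCoh.IsQCohD K)
    (hK : Dual2.IsDualizingSch X ((DCoh.Lpull f).obj K)) : Dual2.IsDualizingSch Y K := by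
  classical
  refine isDualizingSch_of_cover _ fun y => ?_
  obtain ⟨V, hV, hyV, -⟩ := exists_isAffineOpen_mem_and_subset (x := y) (TopologicalSpace.Opens.mem_top y)
  haveI : IsNoetherianRing Γ(Y, V) := IsLocallyNoetherian.component_noetherian ⟨V, hV⟩
  let i : Spec (CommRingCat.of Γ(Y, V)) ⟶ Y := hV.fromSpec
  haveI : IsOpenImmersion i := hV.isOpenImmersion_fromSpec
  have hqi : DCoh.IsQCohD ((DCoh.restrictD i).obj K) := fun n => by
    haveI := preservesFiniteColimits_restrictFunctor i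
    obtain ⟨e1⟩ := Groth.Calg1.DualSch.nonempty_homology_mapDerivedCategory (Scheme.Modules.restrictFunctor i) K n
    haveI : (DCoh.HD K n).IsQuasicoherent := hq n
    exact (Groth.QCohMod.isQCoh_iff_of_iso e1).2 (Scheme.Modules.isQuasicoherent_restrictFunctor i _)
  obtain ⟨ω, ⟨eω⟩⟩ := (Groth.Misc4.QCohTildeD.isQCohD_iff (CommRingCat.of Γ(Y, V)) _).1 hqi
  -- finitely many affine opens of `X` covering `V`
  have hch : ∀ v : V, ∃ (U : X.Opens) (_ : IsAffineOpen U) (x : X), x ∈ U ∧ U ≤ f ⁻¹ᵁ V ∧ f x = v.1 := fun v => by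
    obtain ⟨x, hx⟩ := f.surjective v.1
    obtain ⟨U, hU, hxU, e⟩ := exists_isAffineOpen_mem_and_subset (x := x) (show x ∈ f ⁻¹ᵁ V by
      show f x ∈ V
      exact hx ▸ v.2)
    exact ⟨U, hU, x, hxU, e, hx⟩
  choose U hU x hxU e hfx using hch
  obtain ⟨t, ht⟩ := hV.isCompact.elim_finite_subcover (fun v => f '' (U v : Set X))
    (fun v => f.isOpenMap _ (U v).2) fun z hz => Set.mem_iUnion.2 ⟨⟨z, hz⟩, x _, hxU _, hfx _⟩
  let w : Fin t.card → V := fun k => (t.equivFin.symm k).1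
  letI alg : ∀ k, Algebra Γ(Y, V) Γ(X, U (w k)) := fun k => (f.appLE V (U (w k)) (e (w k))).hom.toAlgebra
  haveI : ∀ k, Module.Flat Γ(Y, V) Γ(X, U (w k)) := fun k =>
    HasRingHomProperty.appLE @Flat f inferInstance ⟨V, hV⟩ ⟨_, hU (w k)⟩ (e (w k))
  refine ⟨Γ(Y, V), inferInstance, i, inferInstance, ω, hV.range_fromSpec.ge hyV, ?_, ⟨eω.symm⟩⟩
  refine isDualizing_of_covering (fun k => Γ(X, U (w k))) (fun p => ?_) ω fun k => ?_
  · have hp : hV.fromSpec p ∈ V := hV.range_fromSpec.subset ⟨_, rfl⟩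
    obtain ⟨v, hv, z, hz, hfz⟩ := Set.mem_iUnion₂.1 (ht hp)
    refine ⟨t.equivFin ⟨v, hv⟩, ?_⟩
    have hw : w (t.equivFin ⟨v, hv⟩) = v := by simp [w]
    have hz' : z ∈ U (w (t.equivFin ⟨v, hv⟩)) := by rw [hw]; exact hz
    refine ⟨(hU _).primeIdealOf ⟨z, hz'⟩, ?_⟩
    refine (IsAffineOpen.comap_primeIdealOf_appLE V hV _ (hU _) (e _) hz').trans ?_
    refine hV.fromSpec.isOpenEmbedding.injective ?_
    rw [hV.fromSpec_primeIdealOf]
    exact hfz
  · haveI : IsNoetherianRing Γ(X, U (w k)) := IsLocallyNoetherian.component_noetherian ⟨_, hU (w k)⟩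
    let j : Spec (CommRingCat.of Γ(X, U (w k))) ⟶ X := (hU (w k)).fromSpec
    haveI : IsOpenImmersion j := (hU (w k)).isOpenImmersion_fromSpec
    obtain ⟨ω', hω', ⟨e'⟩⟩ := hK Γ(X, U (w k)) j
    obtain ⟨e2⟩ := nonempty_restrictD_Lpull_chart f i j
      (IsAffineOpen.SpecMap_appLE_fromSpec f hV (hU (w k)) (e (w k))).symm K ω eω.symm
    obtain ⟨e3⟩ := nonempty_iso_of_tildeD_iso _ (e'.symm ≪≫ e2)
    exact Groth.DualCore.isDualizing_of_iso e3 hω'

end Groth.Dual3Gor
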