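import Mathlib
import Groth.Prelude.Def_QFDual
import Groth.Prelude.Def_EGA4b
import Groth.Agent.Calg5.OmegaBC
import Groth.Agent.Calg5.QFInvertible
import Groth.Agent.Calg5.GorensteinFinite
import Groth.Agent.Calg6.ArtinCohen
import Groth.Agent.AlgSpEt.GorRing
import Groth.Agent.Syntomic.CIFibre

/-!
# The Gorenstein locus of the fibres of a flat quasi-finite algebra is open
-/

set_option autoImplicit false
set_option linter.style.haveILetI false

universe u

open TensorProduct IsLocalRing

namespace Groth.Dual3Gor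

/-- The localization of an Artinian ring at a prime is a factor. -/
theorem exists_idempotent_atPrime {F : Type u} [CommRing F] [IsArtinianRing F] (Q : Ideal F) [Q.IsPrime] :
    ∃ e : F, IsIdempotentElem e ∧ IsLocalization.Away e (Localization.AtPrime Q) := by
  classical
  set π := algebraMap F (Localization.AtPrime Q)
  obtain ⟨u, hu, huk⟩ : ∃ u ∉ Q, ∀ y ∈ RingHom.ker π, u * y = 0 := by
    obtain ⟨s, hgen⟩ := (RingHom.ker π).fg_of_isNoetherianRing
    choose w hw using fun y : (s : Set F) => (IsLocalization.map_eq_zero_iff Q.primeCompl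
      (Localization.AtPrime Q) (y : F)).mp (hgen ▸ Ideal.subset_span y.2 : (y : F) ∈ RingHom.ker π)
    refine ⟨(∏ y, w y : Q.primeCompl), (∏ y, w y : Q.primeCompl).2, fun y hy => ?_⟩
    rw [← hgen] at hy
    induction hy using Submodule.span_induction with
    | mem x hx =>
      obtain ⟨c, hc⟩ := Finset.dvd_prod_of_mem w (Finset.mem_univ (⟨x, hx⟩ : (s : Set F)))
      rw [hc, Submonoid.coe_mul, mul_right_comm, hw ⟨x, hx⟩, zero_mul]
    | zero => rw [mul_zero]
    | add x y _ _ hx hy => rw [mul_add, hx, hy, add_zero]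
    | smul a x _ hx => rw [smul_eq_mul, mul_left_comm, hx, mul_zero]
  obtain ⟨n, yy, hy⟩ := IsArtinian.exists_pow_succ_smul_dvd u (1 : F)
  simp only [smul_eq_mul, mul_one] at hy
  have key : ∀ j, u ^ (n + j) * yy ^ j = u ^ n := by
    intro j
    induction j with
    | zero => simp
    | succ j ih =>
      calc u ^ (n + (j + 1)) * yy ^ (j + 1) = u ^ j * yy ^ j * (u ^ (n + 1) * yy) := by ring
        _ = u ^ (n + j) * yy ^ j := by rw [hy]; ring
        _ = u ^ n := ih
  let e := u ^ (n + 1) * yy ^ (n + 1)
  have he1 : u ^ (n + 1) * e = u ^ (n + 1) := by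
    calc u ^ (n + 1) * e = u * (u ^ (n + (n + 1)) * yy ^ (n + 1)) := by ring
      _ = u ^ (n + 1) := by rw [key, pow_succ']
  have hidem : IsIdempotentElem e := by
    show u ^ (n + 1) * yy ^ (n + 1) * e = e
    rw [mul_right_comm, he1]
  have heQ : e ∉ Q := fun h => hu (Ideal.IsPrime.mem_of_pow_mem ‹_› (n + 1) (he1 ▸ Q.mul_mem_left _ h))
  refine ⟨e, hidem, ?_⟩
  constructor
  constructor
  · rintro ⟨_, k, rfl⟩
    show IsUnit (π (e ^ k))
    rw [map_pow]
    exact (IsLocalization.map_units (Localization.AtPrime Q) (⟨e, heQ⟩ : Q.primeCompl)).pow k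
  · intro z
    obtain ⟨x, hx⟩ := IsArtinianRing.localization_surjective Q.primeCompl (Localization.AtPrime Q) z
    exact ⟨⟨x, 1⟩, by simp [π, hx]⟩
  · intro x y hxy
    refine ⟨⟨e, Submonoid.mem_powers e⟩, ?_⟩
    have h0 : u * (x - y) = 0 := huk _ (by rw [RingHom.mem_ker, map_sub, hxy, sub_self])
    show e * x = e * y
    rw [← sub_eq_zero, ← mul_sub,
      show e * (x - y) = u ^ n * yy ^ (n + 1) * (u * (x - y)) from by ring, h0, mul_zero]

/-- A finite local algebra over a field is Gorenstein iff its dual is cyclic, read modulo the maximal ideal. -/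
theorem isGorenstein_local_iff_finrank_le_one {k C L : Type u} [Field k] [CommRing C] [IsLocalRing C]
    [Algebra k C] [Module.Finite k C] [Field L] [Algebra C L] (hL : Function.Surjective (algebraMap C L)) :
    LocCoh.IsGorensteinLocalRing C ↔ Module.finrank L (L ⊗[C] Disc.Omega k C) ≤ 1 := by
  haveI : IsArtinianRing C := IsArtinianRing.of_finite k C
  constructor
  · intro hC
    haveI : LocCoh.IsGorensteinRing C := by
      refine ⟨fun p _ => ?_⟩
      have hp : p = maximalIdeal C := IsLocalRing.eq_maximalIdeal (IsArtinianRing.isMaximal_of_isPrime p)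
      subst hp
      exact (Groth.AlgSpEt.GorRing.isGorenstein_iff_of_ringEquiv
        (IsLocalization.atUnits C (maximalIdeal C).primeCompl (S := Localization.AtPrime (maximalIdeal C))
          fun x hx => IsLocalRing.notMem_maximalIdeal.mp hx).toRingEquiv).1 hC
    obtain ⟨E⟩ := Groth.Calg5.GorensteinFinite.exists_omega_equiv_of_isGorensteinRing (k := k) (B := C)
    rw [← ((E.baseChange C L).symm.trans (TensorProduct.AlgebraTensorModule.rid C L L)).symm.finrank_eq]
    exact (Module.finrank_self L).le
  · intro h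
    haveI : Module.Finite C (Disc.Omega k C) := by
      haveI : Module.Finite k (Module.Dual k C) := inferInstance
      obtain ⟨s, hs⟩ := (Module.finite_def.mp (inferInstance : Module.Finite k (Module.Dual k C)))
      refine ⟨⟨s.preimage Disc.Omega.toLinearMap Disc.Omega.toLinearMap_injective.injOn, ?_⟩⟩
      refine eq_top_iff.2 fun z _ => ?_
      have hz : z.toLinearMap ∈ Submodule.span k (s : Set (Module.Dual k C)) := hs ▸ Submodule.mem_top
      suffices H : ∀ w ∈ Submodule.span k (s : Set (Module.Dual k C)), (⟨w⟩ : Disc.Omega k C) ∈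
          Submodule.span C (↑(s.preimage Disc.Omega.toLinearMap Disc.Omega.toLinearMap_injective.injOn) : Set (Disc.Omega k C)) from
        H _ hz
      intro w hw
      induction hw using Submodule.span_induction with
      | mem x hx => exact Submodule.subset_span (by simpa using hx)
      | zero => exact zero_mem _
      | add x y _ _ hx hy => exact add_mem hx hy
      | smul a x _ hx =>
        have e : (⟨a • x⟩ : Disc.Omega k C) = algebraMap k C a • ⟨x⟩ := by
          ext z
          simp [← Algebra.smul_def]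
        rw [e]
        exact Submodule.smul_mem _ _ hx
    have hker : RingHom.ker (algebraMap C L) = maximalIdeal C :=
      IsLocalRing.eq_maximalIdeal (RingHom.ker_isMaximal_of_surjective _ hL)
    obtain ⟨v, hv⟩ := finrank_le_one_iff.mp h
    obtain ⟨w, hw⟩ := TensorProduct.mk_surjective C (Disc.Omega k C) L hL v
    let e : L ⊗[C] Disc.Omega k C ≃ₗ[C] Disc.Omega k C ⧸ maximalIdeal C • (⊤ : Submodule C (Disc.Omega k C)) :=
      (TensorProduct.congr ((Submodule.quotEquivOfEq (maximalIdeal C) (LinearMap.ker (Algebra.linearMap C L))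
          (by rw [← hker]; rfl)).trans ((Algebra.linearMap C L).quotKerEquivOfSurjective hL)).symm
        (LinearEquiv.refl C _)).trans (TensorProduct.quotTensorEquivQuotSMul (Disc.Omega k C) (maximalIdeal C))
    have he : ∀ z, e ((1 : L) ⊗ₜ z) = Submodule.Quotient.mk z := by
      intro z
      have h1 : ((Submodule.quotEquivOfEq (maximalIdeal C) (LinearMap.ker (Algebra.linearMap C L))
          (by rw [← hker]; rfl)).trans ((Algebra.linearMap C L).quotKerEquivOfSurjective hL)).symm 1 =
          Ideal.Quotient.mk (maximalIdeal C) 1 := by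
        rw [LinearEquiv.symm_apply_eq]
        show (1 : L) = Algebra.linearMap C L 1
        simp
      simp only [e, LinearEquiv.trans_apply, TensorProduct.congr_tmul, h1]
      simp
    have hspan : (⊤ : Submodule C (Disc.Omega k C)) ≤ Submodule.span C {w} := by
      refine Submodule.le_of_le_smul_of_le_jacobson_bot (I := maximalIdeal C) Module.Finite.fg_top
        (IsLocalRing.maximalIdeal_le_jacobson _) fun z _ => ?_
      obtain ⟨c, hc⟩ := hv ((1 : L) ⊗ₜ z)
      obtain ⟨c', rfl⟩ := hL c
      have h1 : (1 : L) ⊗ₜ[C] (z - c' • w) = 0 := by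
        rw [TensorProduct.tmul_sub, TensorProduct.tmul_smul, show (1 : L) ⊗ₜ[C] w = v from hw,
          ← algebraMap_smul L c', hc, sub_self]
      have h2 := congrArg e h1
      rw [he, map_zero, Submodule.Quotient.mk_eq_zero] at h2
      rw [← sub_add_cancel z (c' • w), add_comm]
      exact Submodule.add_mem_sup (Submodule.smul_mem _ _ (Submodule.mem_span_singleton_self w)) h2
    let ψ : C →ₗ[k] Module.Dual k C :=
      { toFun := fun c => (c • w).toLinearMap
        map_add' := fun a b => by rw [add_smul]; rfl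
        map_smul' := fun a c => by
          ext z
          simp }
    have hψ : Function.Surjective ψ := fun z => by
      obtain ⟨c, hc⟩ := Submodule.mem_span_singleton.1 (hspan (Submodule.mem_top (x := (⟨z⟩ : Disc.Omega k C))))
      exact ⟨c, congrArg Disc.Omega.toLinearMap hc⟩
    have hψi : Function.Injective ψ :=
      (LinearMap.injective_iff_surjective_of_finrank_eq_finrank (Subspace.dual_finrank_eq).symm).2 hψ
    let E : C ≃ₗ[C] Disc.Omega k C := LinearEquiv.ofBijective (LinearMap.toSpanSingleton C _ w)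
      ⟨fun a b hab => hψi (congrArg Disc.Omega.toLinearMap hab), fun z => by
        obtain ⟨c, hc⟩ := hψ z.toLinearMap
        exact ⟨c, Disc.Omega.ext hc⟩⟩
    haveI : Module.Invertible C (Disc.Omega k C) := Module.Invertible.congr E
    haveI := Groth.Calg5.GorensteinFinite.isGorensteinRing_of_invertible (k := k) (B := C)
    exact Groth.Calg6.ArtinCohen.isGorensteinLocalRing_of_isGorensteinRing C

/-- The same at a prime of a finite algebra over a field. -/
theorem isGorenstein_atPrime_iff_finrank_le_one {k F L : Type u} [Field k] [CommRing F] [Algebra k F]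
    [Module.Finite k F] (Q : Ideal F) [Q.IsPrime] [Field L] [Algebra F L]
    (hL : Function.Surjective (algebraMap F L)) (hker : RingHom.ker (algebraMap F L) = Q) :
    LocCoh.IsGorensteinLocalRing (Localization.AtPrime Q) ↔ Module.finrank L (L ⊗[F] Disc.Omega k F) ≤ 1 := by
  haveI : IsArtinianRing F := IsArtinianRing.of_finite k F
  haveI : Module.Finite k (Localization.AtPrime Q) :=
    Module.Finite.of_surjective (IsScalarTower.toAlgHom k F (Localization.AtPrime Q)).toLinearMap
      (IsArtinianRing.localization_surjective Q.primeCompl _)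
  obtain ⟨e, he, haway⟩ := exists_idempotent_atPrime Q
  obtain ⟨E⟩ := Groth.Calg5.QFInvertible.exists_omega_factor_equiv k F (Localization.AtPrime Q) he
  have hunits : ∀ y : Q.primeCompl, IsUnit (algebraMap F L y) := fun y =>
    isUnit_iff_ne_zero.2 fun h => y.2 (hker ▸ h)
  letI : Algebra (Localization.AtPrime Q) L := (IsLocalization.lift hunits).toAlgebra
  haveI : IsScalarTower F (Localization.AtPrime Q) L :=
    IsScalarTower.of_algebraMap_eq fun x => (IsLocalization.lift_eq hunits x).symm
  have hL' : Function.Surjective (algebraMap (Localization.AtPrime Q) L) := fun z => by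
    obtain ⟨x, rfl⟩ := hL z
    exact ⟨algebraMap F _ x, (IsScalarTower.algebraMap_apply F (Localization.AtPrime Q) L x).symm⟩
  rw [isGorenstein_local_iff_finrank_le_one (k := k) hL']
  rw [← ((TensorProduct.AlgebraTensorModule.cancelBaseChange F (Localization.AtPrime Q) L L (Disc.Omega k F)).symm.trans
    (E.baseChange (Localization.AtPrime Q) L)).finrank_eq]

variable {A B : Type u} [CommRing A] [CommRing B] [Algebra A B]

/-- Zariski's main theorem with a finitely presented finite algebra. -/
theorem exists_fp_model [Algebra.FinitePresentation A B] (q : Ideal B) [q.IsPrime] [Algebra.QuasiFiniteAt A q] :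
    ∃ (P : Type u) (_ : CommRing P) (_ : Algebra A P) (_ : Algebra P B) (_ : IsScalarTower A P B) (g : P),
      Module.Finite A P ∧ Module.FinitePresentation A P ∧ algebraMap P B g ∉ q ∧
        IsLocalization.Away g (Localization.Away (algebraMap P B g)) := by
  classical
  obtain ⟨S', hS', r, hr, hbij⟩ :=
    Algebra.QuasiFiniteAt.exists_fg_and_exists_notMem_and_awayMap_bijective (R := A) q
  haveI : Module.Finite A S' := Module.Finite.iff_fg.2 hS'
  obtain ⟨P0, _, _, _, _, _, π, hπ⟩ := Module.Finite.exists_free_surjective A S'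
  obtain ⟨g0, hg0⟩ := hπ r
  let φ : P0 →ₐ[A] B := S'.val.comp π
  have hφg : φ g0 = r.1 := congrArg Subtype.val hg0
  haveI : Algebra.FinitePresentation A (Localization.Away g0) :=
    (Algebra.FinitePresentation.trans A P0 (Localization.Away g0))
  haveI : Algebra.FinitePresentation A (Localization.Away (φ g0)) :=
    (Algebra.FinitePresentation.trans A B (Localization.Away (φ g0)))
  let ψ := Localization.awayMapₐ φ g0
  have hψ : ∀ x, ψ (algebraMap P0 (Localization.Away g0) x) = algebraMap B (Localization.Away (φ g0)) (φ x) :=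
    fun x => by simp [ψ, Localization.awayMapₐ, IsLocalization.Away.mapₐ, IsLocalization.Away.map]
  have hsurj : Function.Surjective ψ := by
    intro z
    obtain ⟨⟨b, ⟨_, n, rfl⟩⟩, hb⟩ := IsLocalization.surj (Submonoid.powers (φ g0)) z
    obtain ⟨w, hw⟩ := hbij.2 (algebraMap B (Localization.Away (S'.val.toRingHom r)) b)
    obtain ⟨⟨s, ⟨_, k, rfl⟩⟩, hs⟩ := IsLocalization.surj (Submonoid.powers r) w
    obtain ⟨p, rfl⟩ := hπ s
    have h1 := congrArg (Localization.awayMap S'.val.toRingHom r) hs
    rw [map_mul, hw, Localization.awayMap, IsLocalization.Away.map, IsLocalization.map_eq, IsLocalization.map_eq,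
      ← map_mul] at h1
    obtain ⟨⟨_, j, rfl⟩, hj⟩ := (IsLocalization.eq_iff_exists (Submonoid.powers (S'.val.toRingHom r)) _).1 h1
    refine ⟨algebraMap P0 _ p * IsLocalization.Away.invSelf g0 ^ (k + n), ?_⟩
    have hu : IsUnit (algebraMap B (Localization.Away (φ g0)) (φ g0)) :=
      IsLocalization.Away.algebraMap_isUnit (φ g0)
    have hinv : algebraMap B (Localization.Away (φ g0)) (φ g0) * ψ (IsLocalization.Away.invSelf g0) = 1 := by
      rw [← hψ, ← map_mul, IsLocalization.Away.mul_invSelf, map_one]
    refine (hu.pow (j + k + n)).mul_left_cancel ?_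
    rw [map_mul, map_pow, hψ]
    have hj' : (φ g0) ^ j * (b * (φ g0) ^ k) = (φ g0) ^ j * φ p := by
      rw [hφg]; exact hj
    calc algebraMap B _ (φ g0) ^ (j + k + n) * (algebraMap B _ (φ p) * ψ (IsLocalization.Away.invSelf g0) ^ (k + n))
        = algebraMap B _ (φ g0) ^ j * algebraMap B _ (φ p) *
            (algebraMap B _ (φ g0) * ψ (IsLocalization.Away.invSelf g0)) ^ (k + n) := by ring
      _ = algebraMap B (Localization.Away (φ g0)) ((φ g0) ^ j * φ p) := by rw [hinv, one_pow, mul_one, map_mul, map_pow]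
      _ = algebraMap B _ (φ g0) ^ (j + k) * algebraMap B _ b := by
            rw [← hj', map_mul, map_mul, map_pow, map_pow]; ring
      _ = algebraMap B _ (φ g0) ^ (j + k) * (z * algebraMap B _ (φ g0) ^ n) := by
            rw [← hb, map_pow]
      _ = algebraMap B _ (φ g0) ^ (j + k + n) * z := by ring
  obtain ⟨T, hT⟩ := Algebra.FinitePresentation.ker_fG_of_surjective ψ hsurj
  have hlift : ∀ t : (T : Set (Localization.Away g0)), ∃ x : P0, φ x = 0 ∧
      ∃ c : Localization.Away g0, (t : Localization.Away g0) = c * algebraMap P0 _ x := by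
    intro t
    obtain ⟨⟨x, ⟨_, n, rfl⟩⟩, hx⟩ := IsLocalization.surj (Submonoid.powers g0) (t : Localization.Away g0)
    have ht : ψ t = 0 := RingHom.mem_ker.1 (hT ▸ Ideal.subset_span t.2)
    have h0 : algebraMap B (Localization.Away (φ g0)) (φ x) = 0 := by
      rw [← hψ, ← hx, map_mul, ht, zero_mul]
    obtain ⟨⟨_, m, rfl⟩, hm⟩ := (IsLocalization.map_eq_zero_iff (Submonoid.powers (φ g0)) _ _).1 h0
    refine ⟨g0 ^ m * x, by rw [map_mul, map_pow]; exact hm,
      IsLocalization.Away.invSelf g0 ^ (m + n), ?_⟩
    rw [map_mul, map_pow, ← hx, map_pow]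
    have h1 := IsLocalization.Away.mul_invSelf (S := Localization.Away g0) g0
    calc (t : Localization.Away g0) = t * (algebraMap P0 _ g0 * IsLocalization.Away.invSelf g0) ^ (m + n) := by
          rw [h1, one_pow, mul_one]
      _ = _ := by ring
  choose x hx c hc using hlift
  let I : Ideal P0 := Ideal.span (Set.range x)
  have hI : ∀ a ∈ I, φ a = 0 := fun a ha =>
    (Ideal.span_le.2 (by rintro _ ⟨t, rfl⟩; exact hx t) : I ≤ RingHom.ker φ) ha
  let φ' : P0 ⧸ I →ₐ[A] B := Ideal.Quotient.liftₐ I φ hI
  letI : Algebra (P0 ⧸ I) B := φ'.toRingHom.toAlgebra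
  haveI : IsScalarTower A (P0 ⧸ I) B := .of_algebraMap_eq fun a => (φ'.commutes a).symm
  haveI : Algebra.FinitePresentation A (P0 ⧸ I) :=
    Algebra.FinitePresentation.quotient (Submodule.fg_span (Set.finite_range x))
  haveI : Module.Finite A (P0 ⧸ I) :=
    Module.Finite.of_surjective (Ideal.Quotient.mkₐ A I).toLinearMap Ideal.Quotient.mk_surjective
  let g : P0 ⧸ I := Ideal.Quotient.mk I g0
  have hg : algebraMap (P0 ⧸ I) B g = φ g0 := rfl
  refine ⟨P0 ⧸ I, inferInstance, inferInstance, inferInstance, inferInstance, g, inferInstance,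
    Module.FinitePresentation.of_finite_of_finitePresentation A _, by rw [hg, hφg]; exact hr, ?_⟩
  constructor
  constructor
  · rintro ⟨_, k, rfl⟩
    show IsUnit (algebraMap (P0 ⧸ I) _ (g ^ k))
    rw [map_pow, IsScalarTower.algebraMap_apply (P0 ⧸ I) B (Localization.Away (algebraMap (P0 ⧸ I) B g)) g]
    exact (IsLocalization.Away.algebraMap_isUnit (algebraMap (P0 ⧸ I) B g)).pow k
  · intro z
    obtain ⟨w, hw⟩ := hsurj z
    obtain ⟨⟨a, ⟨_, n, rfl⟩⟩, ha⟩ := IsLocalization.surj (Submonoid.powers g0) w
    refine ⟨⟨Ideal.Quotient.mk I a, ⟨g ^ n, n, rfl⟩⟩, ?_⟩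
    have h1 := congrArg ψ ha
    rw [map_mul, hw, hψ, hψ, map_pow] at h1
    rw [IsScalarTower.algebraMap_apply (P0 ⧸ I) B (Localization.Away (algebraMap (P0 ⧸ I) B g)),
      IsScalarTower.algebraMap_apply (P0 ⧸ I) B (Localization.Away (algebraMap (P0 ⧸ I) B g))]
    show z * algebraMap B _ (algebraMap (P0 ⧸ I) B (g ^ n)) = algebraMap B _ (φ a)
    rw [map_pow (algebraMap (P0 ⧸ I) B), map_pow]
    rw [map_pow] at h1
    exact h1
  · intro a b hab
    obtain ⟨a, rfl⟩ := Ideal.Quotient.mk_surjective a
    obtain ⟨b, rfl⟩ := Ideal.Quotient.mk_surjective b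
    rw [IsScalarTower.algebraMap_apply (P0 ⧸ I) B (Localization.Away (algebraMap (P0 ⧸ I) B g)),
      IsScalarTower.algebraMap_apply (P0 ⧸ I) B (Localization.Away (algebraMap (P0 ⧸ I) B g))] at hab
    have h0 : ψ (algebraMap P0 _ (a - b)) = 0 := by
      rw [hψ, map_sub, map_sub, sub_eq_zero]
      exact hab
    have hmem : algebraMap P0 (Localization.Away g0) (a - b) ∈ I.map (algebraMap P0 _) := by
      have h2 : algebraMap P0 (Localization.Away g0) (a - b) ∈ Ideal.span (T : Set (Localization.Away g0)) :=
        hT ▸ RingHom.mem_ker.2 h0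
      refine (Ideal.span_le.2 fun t ht => ?_) h2
      rw [SetLike.mem_coe, show t = _ from hc ⟨t, ht⟩]
      exact Ideal.mul_mem_left _ _ (Ideal.mem_map_of_mem _ (Ideal.subset_span ⟨⟨t, ht⟩, rfl⟩))
    obtain ⟨_, ⟨k, rfl⟩, hk⟩ :=
      (IsLocalization.algebraMap_mem_map_algebraMap_iff (Submonoid.powers g0) _ I _).1 hmem
    refine ⟨⟨g ^ k, k, rfl⟩, ?_⟩
    show g ^ k * Ideal.Quotient.mk I a = g ^ k * Ideal.Quotient.mk I b
    rw [← sub_eq_zero, ← mul_sub, ← map_sub, ← map_pow, ← map_mul, Ideal.Quotient.eq_zero_iff_mem]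
    exact hk

/-- Where the fibre rank of a finite module is at most one is open. -/
theorem isOpen_finrank_le_one (C M : Type u) [CommRing C] [AddCommGroup M] [Module C M] [Module.Finite C M] :
    IsOpen {Q : PrimeSpectrum C |
      Module.finrank Q.asIdeal.ResidueField (Q.asIdeal.ResidueField ⊗[C] M) ≤ 1} := by
  rw [isOpen_iff_forall_mem_open]
  intro Q hQ
  obtain ⟨v, hv⟩ := finrank_le_one_iff.mp hQ
  -- lift a generator
  haveI : IsLocalizedModule Q.asIdeal.primeCompl (LocalizedModule.mkLinearMap Q.asIdeal.primeCompl M) := inferInstance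
  obtain ⟨w, c, hc, hwc⟩ : ∃ (w : M) (c : Q.asIdeal.ResidueField), c ≠ 0 ∧
      (1 : Q.asIdeal.ResidueField) ⊗ₜ[C] w = c • v := by
    have hs : ∀ z : Q.asIdeal.ResidueField ⊗[C] M, ∃ (s : C) (w : M), s ∉ Q.asIdeal ∧
        algebraMap C Q.asIdeal.ResidueField s • z = 1 ⊗ₜ w := by
      intro z
      induction z using TensorProduct.induction_on with
      | zero => exact ⟨1, 0, Ideal.IsPrime.one_notMem Q.isPrime, by simp⟩
      | tmul a m =>
        obtain ⟨r, hr⟩ := IsLocalRing.residue_surjective a
        obtain ⟨x, ⟨s, hs⟩, rfl⟩ := IsLocalization.exists_mk'_eq Q.asIdeal.primeCompl r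
        refine ⟨s, x • m, hs, ?_⟩
        rw [TensorProduct.tmul_smul, TensorProduct.smul_tmul', TensorProduct.smul_tmul', ← hr, smul_eq_mul,
          IsScalarTower.algebraMap_apply C (Localization.AtPrime Q.asIdeal) Q.asIdeal.ResidueField]
        congr 1
        rw [Algebra.smul_def, mul_one,
          IsScalarTower.algebraMap_apply C (Localization.AtPrime Q.asIdeal) Q.asIdeal.ResidueField]
        rw [← IsLocalization.mk'_spec' (Localization.AtPrime Q.asIdeal) x (⟨s, hs⟩ : Q.asIdeal.primeCompl),
          map_mul]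
        rfl
      | add y z hy hz =>
        obtain ⟨s, m, hs, hsm⟩ := hy
        obtain ⟨t, m', ht, htm⟩ := hz
        refine ⟨s * t, t • m + s • m', Ideal.IsPrime.mul_notMem Q.isPrime hs ht, ?_⟩
        rw [TensorProduct.tmul_add, TensorProduct.tmul_smul, TensorProduct.tmul_smul, ← hsm, ← htm,
          ← algebraMap_smul Q.asIdeal.ResidueField t, ← algebraMap_smul Q.asIdeal.ResidueField s, smul_add,
          map_mul, smul_smul, smul_smul, mul_comm (algebraMap C Q.asIdeal.ResidueField s)]
    obtain ⟨s, w, hs, hsw⟩ := hs v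
    exact ⟨w, _, fun h => hs (Ideal.algebraMap_residueField_eq_zero.1 h), hsw.symm⟩
  let N := M ⧸ Submodule.span C {w}
  refine ⟨(Module.support C N)ᶜ, fun R hR => ?_, Module.isClosed_support.isOpen_compl, ?_⟩
  · refine finrank_le_one ((1 : R.asIdeal.ResidueField) ⊗ₜ[C] w) fun z => ?_
    suffices H : ∀ m : M, ∃ a : R.asIdeal.ResidueField, a • ((1 : R.asIdeal.ResidueField) ⊗ₜ[C] w) = 1 ⊗ₜ m by
      induction z using TensorProduct.induction_on with
      | zero => exact ⟨0, zero_smul _ _⟩
      | tmul a m =>
        obtain ⟨b, hb⟩ := H m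
        exact ⟨a * b, by rw [mul_smul, hb, TensorProduct.smul_tmul', smul_eq_mul, mul_one]⟩
      | add y z hy hz =>
        obtain ⟨a, rfl⟩ := hy
        obtain ⟨b, rfl⟩ := hz
        exact ⟨a + b, add_smul _ _ _⟩
    intro m
    obtain ⟨s, hs, hsm⟩ : ∃ s ∉ R.asIdeal, s • (Submodule.Quotient.mk m : N) = 0 := by
      rw [Set.mem_compl_iff, Module.notMem_support_iff', ] at hR
      obtain ⟨s, hs, h⟩ := hR (Submodule.Quotient.mk m)
      exact ⟨s, hs, h⟩
    rw [← Submodule.Quotient.mk_smul, Submodule.Quotient.mk_eq_zero, Submodule.mem_span_singleton] at hsm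
    obtain ⟨a, ha⟩ := hsm
    have hs0 : algebraMap C R.asIdeal.ResidueField s ≠ 0 := fun h => hs (Ideal.algebraMap_residueField_eq_zero.1 h)
    refine ⟨(algebraMap C R.asIdeal.ResidueField s)⁻¹ * algebraMap C _ a, ?_⟩
    rw [mul_smul, inv_smul_eq_iff₀ hs0, algebraMap_smul, algebraMap_smul, ← TensorProduct.tmul_smul,
      ← TensorProduct.tmul_smul, ha]
  · haveI : Module.Finite C N := inferInstance
    rw [Set.mem_compl_iff, Module.mem_support_iff_nontrivial_residueField_tensorProduct]
    intro hN
    obtain ⟨z, hz⟩ := exists_ne (0 : Q.asIdeal.ResidueField ⊗[C] N)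
    apply hz
    obtain ⟨y, rfl⟩ := LinearMap.lTensor_surjective Q.asIdeal.ResidueField (Submodule.mkQ_surjective (Submodule.span C {w})) z
    obtain ⟨a, rfl⟩ := hv y
    have : a • v = (a * c⁻¹) • ((1 : Q.asIdeal.ResidueField) ⊗ₜ[C] w) := by
      rw [hwc, smul_smul, mul_assoc, inv_mul_cancel₀ hc, mul_one]
    rw [this, TensorProduct.smul_tmul', LinearMap.lTensor_tmul, Submodule.mkQ_apply,
      (Submodule.Quotient.mk_eq_zero _).2 (Submodule.mem_span_singleton_self w), TensorProduct.tmul_zero]

/-- The Gorenstein locus of the fibres of a flat quasi-finite finitely presented algebra is open. -/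
theorem isOpen_gorenstein_qf [Module.Flat A B] [Algebra.FinitePresentation A B] [Algebra.QuasiFinite A B] :
    IsOpen {q : PrimeSpectrum B | LocCoh.IsGorensteinLocalRing (EGA4.FibLocRing A B q.asIdeal)} := by
  rw [isOpen_iff_forall_mem_open]
  intro q0 hq0
  obtain ⟨P, _, _, _, _, g, hfin, hfp, hg, haway⟩ := exists_fp_model (A := A) (B := B) q0.asIdeal
  let C := Localization.Away (algebraMap P B g)
  haveI := haway
  haveI : Module.Flat A C := Module.Flat.trans A B C
  obtain ⟨N, m, φ, y, hy⟩ := Groth.Calg5.OmegaBC.exists_factor (A := A) g C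
  let W := C ⊗[P] Disc.Omega A P
  haveI : Module.Finite C W := by
    classical
    refine ⟨⟨Finset.univ.image fun i => (1 : C) ⊗ₜ[P] φ i, eq_top_iff.2 fun z _ => ?_⟩⟩
    rw [Finset.coe_image, Finset.coe_univ, Set.image_univ]
    induction z using TensorProduct.induction_on with
    | zero => exact zero_mem _
    | add a b ha hb => exact add_mem (ha Submodule.mem_top) (hb Submodule.mem_top)
    | tmul c ψ =>
      have hu : IsUnit (algebraMap P C (g ^ N)) := IsLocalization.map_units C (⟨g ^ N, N, rfl⟩ : Submonoid.powers g)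
      rw [← Submodule.smul_mem_iff_of_isUnit _ hu, algebraMap_smul, ← TensorProduct.tmul_smul,
        Groth.Calg5.OmegaBC.smul_eq_sum hy, TensorProduct.tmul_sum]
      refine Submodule.sum_mem _ fun i _ => ?_
      rw [TensorProduct.tmul_smul, TensorProduct.smul_tmul']
      rw [show ((algebraMap A P) (ψ.toLinearMap (y i)) • c) ⊗ₜ[P] φ i =
        ((algebraMap A P) (ψ.toLinearMap (y i)) • c) • ((1 : C) ⊗ₜ[P] φ i) from by
          rw [TensorProduct.smul_tmul' _ (1 : C), smul_eq_mul, mul_one]]
      exact Submodule.smul_mem _ _ (Submodule.subset_span ⟨i, rfl⟩)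
  have key : ∀ Q : PrimeSpectrum C,
      LocCoh.IsGorensteinLocalRing (EGA4.FibLocRing A B (PrimeSpectrum.comap (algebraMap B C) Q).asIdeal) ↔
        Module.finrank Q.asIdeal.ResidueField (Q.asIdeal.ResidueField ⊗[C] W) ≤ 1 := by
    intro Q
    set q := (PrimeSpectrum.comap (algebraMap B C) Q).asIdeal with hqdef
    have hgC : algebraMap P C g ∉ Q.asIdeal := fun h => Q.isPrime.ne_top
      (Ideal.eq_top_of_isUnit_mem _ h (IsLocalization.Away.algebraMap_isUnit g))
    let qP := Q.asIdeal.comap (algebraMap P C)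
    have hqP : q.comap (algebraMap P B) = qP := by
      rw [hqdef, PrimeSpectrum.comap_asIdeal, Ideal.comap_comap, ← IsScalarTower.algebraMap_eq]
    let p := qP.comap (algebraMap A P)
    have hp : q.comap (algebraMap A B) = p := by
      rw [IsScalarTower.algebraMap_eq A P B, ← Ideal.comap_comap, hqP]
    -- the fibre
    let F := p.Fiber P
    letI : Algebra P F := Algebra.TensorProduct.rightAlgebra
    have hpo : Algebra.IsPushout A p.ResidueField P F := inferInstance
    haveI : p.IsPrime := Ideal.IsPrime.comap _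
    let Q' := PrimeSpectrum.preimageEquivFiber A P ⟨p, inferInstance⟩ ⟨⟨qP, inferInstance⟩, rfl⟩
    have hQ' : Q'.asIdeal.comap Algebra.TensorProduct.includeRight = qP :=
      congrArg (fun x => x.1.asIdeal) ((PrimeSpectrum.preimageEquivFiber A P
        ⟨p, inferInstance⟩).symm_apply_apply ⟨⟨qP, inferInstance⟩, rfl⟩)
    obtain ⟨e1⟩ := Groth.Syntomic.exists_localization_fibre_equiv (A := A) (B := P) p Q'.asIdeal qP hQ' rfl
    -- `B` and `P` have the same local ring at the point
    have hloc : Nonempty (EGA4.FibLocRing A P qP ≃+* EGA4.FibLocRing A B q) := by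
      haveI hPB : IsLocalization.AtPrime (Localization.AtPrime Q.asIdeal) qP :=
        IsLocalization.isLocalization_isLocalization_atPrime_isLocalization (Submonoid.powers g) (Localization.AtPrime Q.asIdeal) Q.asIdeal
      haveI hBC : IsLocalization.AtPrime (Localization.AtPrime Q.asIdeal) q :=
        IsLocalization.isLocalization_isLocalization_atPrime_isLocalization (Submonoid.powers (algebraMap P B g)) (Localization.AtPrime Q.asIdeal) Q.asIdeal
      let eP := (IsLocalization.algEquiv qP.primeCompl (Localization.AtPrime qP) (Localization.AtPrime Q.asIdeal)).restrictScalars A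
      let eB := (IsLocalization.algEquiv q.primeCompl (Localization.AtPrime q) (Localization.AtPrime Q.asIdeal)).restrictScalars A
      let e := eP.trans eB.symm
      refine ⟨Ideal.quotientEquiv _ _ e.toRingEquiv ?_⟩
      rw [Ideal.map_map, hp]
      congr 1
      exact RingHom.ext fun a => (e.commutes a).symm
    obtain ⟨e2⟩ := hloc
    rw [← Groth.AlgSpEt.GorRing.isGorenstein_iff_of_ringEquiv e2, ← Groth.AlgSpEt.GorRing.isGorenstein_iff_of_ringEquiv (C := Localization.AtPrime Q'.asIdeal) e1]
    -- residue field of `Q` as an algebra over the fibre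
    let L := Q.asIdeal.ResidueField
    letI algFL : Algebra F L :=
      (Algebra.TensorProduct.lift (R := A) (S := A)
        (Ideal.ResidueField.mapₐ p Q.asIdeal (Algebra.ofId A C) (by
          rw [show p = q.comap (algebraMap A B) from hp.symm, hqdef, PrimeSpectrum.comap_asIdeal, Ideal.comap_comap]
          rw [← IsScalarTower.algebraMap_eq]
          rfl))
        (IsScalarTower.toAlgHom A P L) fun _ _ => Commute.all _ _).toRingHom.toAlgebra
    haveI : IsScalarTower P F L := .of_algebraMap_eq fun x => by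
      show algebraMap P L x = Algebra.TensorProduct.lift _ _ _ ((1 : p.ResidueField) ⊗ₜ[A] x)
      rw [Algebra.TensorProduct.lift_tmul, map_one, one_mul]
      rfl
    haveI : Module.Finite p.ResidueField F := inferInstance
    haveI : IsArtinianRing F := IsArtinianRing.of_finite p.ResidueField F
    have hker : RingHom.ker (algebraMap F L) = Q'.asIdeal := by
      have h1 : (RingHom.ker (algebraMap F L)).IsPrime := RingHom.ker_isPrime _
      have h2 : (⟨RingHom.ker (algebraMap F L), h1⟩ : PrimeSpectrum F) = Q' := by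
        have h3 : (RingHom.ker (algebraMap F L)).comap (algebraMap P F) = qP := by
          ext x
          rw [Ideal.mem_comap, RingHom.mem_ker, ← IsScalarTower.algebraMap_apply P F L,
            IsScalarTower.algebraMap_apply P C L, Ideal.algebraMap_residueField_eq_zero]
          rfl
        rw [← (PrimeSpectrum.preimageEquivFiber A P ⟨p, inferInstance⟩).apply_symm_apply ⟨_, h1⟩]
        refine congrArg _ (Subtype.ext (PrimeSpectrum.ext ?_))
        exact h3
      exact congrArg PrimeSpectrum.asIdeal h2
    have hsurj : Function.Surjective (algebraMap F L) := by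
      intro z
      obtain ⟨r, rfl⟩ := IsLocalRing.residue_surjective z
      obtain ⟨⟨c, ⟨s, hs⟩⟩, hcs⟩ := IsLocalization.surj Q.asIdeal.primeCompl r
      obtain ⟨⟨a, ⟨_, k1, rfl⟩⟩, ha⟩ := IsLocalization.surj (Submonoid.powers g) c
      obtain ⟨⟨b, ⟨_, k2, rfl⟩⟩, hb⟩ := IsLocalization.surj (Submonoid.powers g) s
      have hz : IsLocalRing.residue _ r * algebraMap P L (b * g ^ k1) = algebraMap P L (a * g ^ k2) := by
        have hres : ∀ t : P, algebraMap P L t =
            IsLocalRing.residue _ (algebraMap C (Localization.AtPrime Q.asIdeal) (algebraMap P C t)) := fun t => rfl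
        rw [hres, hres, ← map_mul]
        congr 1
        rw [map_mul, map_mul, map_mul, map_mul, ← hb, ← ha, map_mul, map_mul]
        simp only at hcs
        rw [← hcs]
        ring
      have hbnot : algebraMap F L (algebraMap P F (b * g ^ k1)) ≠ 0 := by
        rw [← IsScalarTower.algebraMap_apply P F L, IsScalarTower.algebraMap_apply P C L, ne_eq,
          Ideal.algebraMap_residueField_eq_zero, map_mul, map_pow, ← hb]
        exact Q.isPrime.mul_notMem (Q.isPrime.mul_notMem hs (by
          rw [map_pow]; exact fun h => hgC (Q.isPrime.mem_of_pow_mem _ h))) fun h => hgC (Q.isPrime.mem_of_pow_mem _ h)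
      obtain ⟨v, hv⟩ : ∃ v : F, algebraMap F L (v * algebraMap P F (b * g ^ k1)) = 1 := by
        have hmax : (RingHom.ker (algebraMap F L)).IsMaximal :=
          haveI := RingHom.ker_isPrime (algebraMap F L)
          IsArtinianRing.isMaximal_of_isPrime _
        obtain ⟨v, hv⟩ := hmax.exists_inv (x := algebraMap P F (b * g ^ k1)) (fun h => hbnot (RingHom.mem_ker.1 h))
        obtain ⟨i, hi, hvi⟩ := hv
        refine ⟨v, ?_⟩
        have := congrArg (algebraMap F L) hvi
        rwa [map_add, RingHom.mem_ker.1 hi, add_zero, map_one] at this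
      refine ⟨v * algebraMap P F (a * g ^ k2), ?_⟩
      rw [map_mul, ← IsScalarTower.algebraMap_apply P F L, ← hz, mul_left_comm]
      rw [map_mul, ← IsScalarTower.algebraMap_apply P F L] at hv
      rw [hv, mul_one]
    rw [isGorenstein_atPrime_iff_finrank_le_one (k := p.ResidueField) Q'.asIdeal hsurj hker]
    obtain ⟨T, hT1, hT2⟩ := Groth.Calg5.OmegaBC.exists_almost_inverse (B₁ := L) hpo φ y hy
    have hu : IsUnit (algebraMap P L (g ^ (N + N))) := by
      rw [map_pow, IsScalarTower.algebraMap_apply P C L]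
      exact ((IsLocalization.Away.algebraMap_isUnit g).map (algebraMap C L)).pow _
    have hbij : Function.Bijective (QFDual.omegaBC (B₁ := L) hpo) := by
      refine ⟨fun a b hab => ?_, fun z => ⟨hu.unit⁻¹ • T z, ?_⟩⟩
      · have := congrArg T hab
        rw [hT1, hT1] at this
        exact hu.smul_left_cancel.1 this
      · rw [Units.smul_def, map_smul, hT2, smul_smul, IsUnit.val_inv_mul, one_smul]
    rw [(TensorProduct.AlgebraTensorModule.cancelBaseChange P C L L (Disc.Omega A P)).finrank_eq,
      (LinearEquiv.ofBijective _ hbij).finrank_eq]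
  refine ⟨PrimeSpectrum.comap (algebraMap B C) '' {Q | Module.finrank Q.asIdeal.ResidueField (Q.asIdeal.ResidueField ⊗[C] W) ≤ 1},
    ?_, ?_, ?_⟩
  · rintro _ ⟨Q, hQ, rfl⟩
    exact (key Q).2 hQ
  · exact (PrimeSpectrum.localization_away_isOpenEmbedding C (algebraMap P B g)).isOpenMap _ (isOpen_finrank_le_one C W)
  · obtain ⟨Q, hQ⟩ : q0 ∈ Set.range (PrimeSpectrum.comap (algebraMap B C)) := by
      rw [PrimeSpectrum.localization_away_comap_range C (algebraMap P B g)]
      exact hg
    exact ⟨Q, (key Q).1 (by rw [hQ]; exact hq0), hQ⟩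

end Groth.Dual3Gor
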