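import Groth.Agent.DerivedAdj.Basic
import Mathlib.Algebra.Homology.DerivedCategory.RightDerivedFunctorPlus

/-!
The bounded below right derived functor agrees with the total right derived functor.
-/

set_option autoImplicit false
universe w₁ w₂ v₁ v₂ u₁ u₂

open CategoryTheory Limits

namespace Groth.Dual3Gor.RplusTotal

variable {A : Type u₁} [Category.{v₁} A] [Abelian A] [HasDerivedCategory.{w₁} A] [EnoughInjectives A]
  {B : Type u₂} [Category.{v₂} B] [Abelian B] [HasDerivedCategory.{w₂} B]
  (u : A ⥤ B) [u.Additive]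
  [(u.mapHomotopyCategory (ComplexShape.up ℤ) ⋙ DerivedCategory.Qh (C := B)).HasRightDerivedFunctor
    (HomotopyCategory.quasiIso A (ComplexShape.up ℤ))]

/-- Bounded below complexes of injectives are good for the localization. -/
theorem exists_good_plus (Y : DerivedCategory.Plus A) :
    ∃ I : HomotopyCategory.Plus A, Nonempty (DerivedCategory.Plus.Qh.obj I ≅ Y) ∧
      CochainComplex.IsKInjective I.obj.as ∧
      ∀ K, Function.Bijective (DerivedCategory.Plus.Qh.map :
        (K ⟶ I) → (DerivedCategory.Plus.Qh.obj K ⟶ DerivedCategory.Plus.Qh.obj I)) := by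
  obtain ⟨n, hn⟩ := Y.property
  have : Y.IsGE n := (DerivedCategory.Plus.isGE_ι_obj_iff Y n).1 hn
  obtain ⟨M, _, ⟨i⟩⟩ := DerivedCategory.Plus.exists_injective_nonempty_iso Y n
  let I := ((InjectiveObject.ι A).mapHomologicalComplex (ComplexShape.up ℤ)).obj M.obj
  have : ∀ j, Injective (I.X j) := fun j => (M.obj.X j).property
  have : CochainComplex.IsStrictlyGE I n :=
    inferInstanceAs (CochainComplex.IsStrictlyGE
      (((InjectiveObject.ι A).mapHomologicalComplex (ComplexShape.up ℤ)).obj M.obj) n)
  have hI : CochainComplex.IsKInjective I := CochainComplex.isKInjective_of_injective I n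
  exact ⟨(HomotopyCategory.Plus.quotient A).obj ((InjectiveObject.ι A).mapCochainComplexPlus.obj M),
    ⟨i⟩, hI, fun K => DerivedCategory.Plus.Qh_map_bijective_of_isKInjective K _ hI⟩

/-- The comparison of the units. -/
noncomputable def unit₂ : (u.mapHomotopyCategoryPlus ⋙ DerivedCategory.Plus.Qh) ⋙ DerivedCategory.Plus.ι ⟶
    DerivedCategory.Plus.Qh ⋙ DerivedCategory.Plus.ι ⋙ Groth.DerivedAdj.totalR u :=
  Functor.whiskerLeft (HomotopyCategory.Plus.ι A)
    ((u.mapHomotopyCategory (ComplexShape.up ℤ) ⋙ DerivedCategory.Qh (C := B)).totalRightDerivedUnit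
      DerivedCategory.Qh (HomotopyCategory.quasiIso A (ComplexShape.up ℤ)))

/-- The bounded below right derived functor is the restriction of the total one. -/
theorem nonempty_iso (hA : Groth.DerivedAdj.EnoughKInj A) :
    Nonempty (u.rightDerivedFunctorPlus ⋙ (DerivedCategory.Plus.ι : DerivedCategory.Plus B ⥤ DerivedCategory B) ≅
      (DerivedCategory.Plus.ι : DerivedCategory.Plus A ⥤ DerivedCategory A) ⋙ Groth.DerivedAdj.totalR u) := by
  let W := HomotopyCategory.Plus.quasiIso A
  have hres : ∀ Y : DerivedCategory.Plus A, ∃ I : HomotopyCategory.Plus A,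
      Nonempty (DerivedCategory.Plus.Qh.obj I ≅ Y) ∧
      ∀ K, Function.Bijective (DerivedCategory.Plus.Qh.map :
        (K ⟶ I) → (DerivedCategory.Plus.Qh.obj K ⟶ DerivedCategory.Plus.Qh.obj I)) := fun Y => by
    obtain ⟨I, h, _, hI⟩ := exists_good_plus Y
    exact ⟨I, h, hI⟩
  let ι' : DerivedCategory.Plus B ⥤ DerivedCategory B := DerivedCategory.Plus.ι
  let α := Functor.whiskerRight u.rightDerivedFunctorPlusUnit ι' ≫ (Functor.associator _ _ _).hom
  haveI hder : (u.rightDerivedFunctorPlus ⋙ ι').IsRightDerivedFunctor α W :=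
    Groth.DerivedAdj.isRightDerivedFunctor_comp W u.rightDerivedFunctorPlus
      u.rightDerivedFunctorPlusUnit hres ι'
  let η := (u.rightDerivedFunctorPlus ⋙ ι').rightDerivedDesc α W
    ((DerivedCategory.Plus.ι : DerivedCategory.Plus A ⥤ DerivedCategory A) ⋙ Groth.DerivedAdj.totalR u)
    (unit₂ u)
  suffices ∀ Y, IsIso (η.app Y) from
    haveI := NatIso.isIso_of_isIso_app η
    ⟨asIso η⟩
  intro Y
  obtain ⟨I, ⟨e⟩, hIK, hI⟩ := exists_good_plus Y
  refine (NatTrans.isIso_app_iff_of_iso η e).1 ?_
  have h1 : IsIso (u.rightDerivedFunctorPlusUnit.app I) :=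
    Groth.DerivedAdj.isIso_app_of_bijective W u.rightDerivedFunctorPlus u.rightDerivedFunctorPlusUnit
      hres I hI
  have h2 : IsIso (α.app I) := by
    simp only [α, NatTrans.comp_app, Functor.whiskerRight_app, Functor.associator_hom_app]
    infer_instance
  have h3 : IsIso ((unit₂ u).app I) :=
    Groth.DerivedAdj.isIso_app_of_bijective (HomotopyCategory.quasiIso A (ComplexShape.up ℤ)) _ _
      (Groth.DerivedAdj.exists_good hA) I.obj fun K =>
        haveI := hIK
        CochainComplex.IsKInjective.Qh_map_bijective K I.obj.as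
  exact IsIso.of_isIso_fac_left ((u.rightDerivedFunctorPlus ⋙ ι').rightDerived_fac_app α W
    ((DerivedCategory.Plus.ι : DerivedCategory.Plus A ⥤ DerivedCategory A) ⋙ Groth.DerivedAdj.totalR u)
    (unit₂ u) I)

-- the total right derived functor of an exact functor
omit [EnoughInjectives A] in
theorem nonempty_totalR_iso_map (F : A ⥤ B) [F.Additive] [PreservesFiniteLimits F] [PreservesFiniteColimits F]
    [(F.mapHomotopyCategory (ComplexShape.up ℤ) ⋙ DerivedCategory.Qh (C := B)).HasRightDerivedFunctor
      (HomotopyCategory.quasiIso A (ComplexShape.up ℤ))] :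
    Nonempty (Groth.DerivedAdj.totalR F ≅ F.mapDerivedCategory) := by
  let e : DerivedCategory.Qh ⋙ F.mapDerivedCategory ≅
      F.mapHomotopyCategory (ComplexShape.up ℤ) ⋙ DerivedCategory.Qh := F.mapDerivedCategoryFactorsh
  haveI : F.mapDerivedCategory.IsRightDerivedFunctor e.inv
      (HomotopyCategory.quasiIso A (ComplexShape.up ℤ)) :=
    letI : Localization.Lifting DerivedCategory.Qh (HomotopyCategory.quasiIso A (ComplexShape.up ℤ))
        (F.mapHomotopyCategory (ComplexShape.up ℤ) ⋙ DerivedCategory.Qh) F.mapDerivedCategory := ⟨e⟩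
    Functor.isRightDerivedFunctor_of_inverts _ F.mapDerivedCategory e
  exact ⟨Functor.rightDerivedUnique _ _
    ((F.mapHomotopyCategory (ComplexShape.up ℤ) ⋙ DerivedCategory.Qh).totalRightDerivedUnit
      DerivedCategory.Qh _) e.inv (HomotopyCategory.quasiIso A (ComplexShape.up ℤ))⟩

end Groth.Dual3Gor.RplusTotal
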