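import Groth.Agent.Dual3Gor.RHomO
import Groth.Agent.Dual3Gor.RplusTotal
import Groth.Agent.Misc4.PushRestrict
import Groth.Agent.DerivedCoh.KFlat.RpushComp
import Groth.Agent.Misc6.DevissageSupp
import Groth.Prelude.Def_Dual3

/-!
For a closed immersion the right adjoint of `Ri_*` on `D_QCoh` is `R Hom(O_Z, -)` on bounded below objects.
-/

universe u

open CategoryTheory CategoryTheory.Limits AlgebraicGeometry

attribute [local instance] HasDerivedCategory.standard

namespace Groth.Dual3Gor.ShriekClosed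

/-- A natural family representing the same functor as a right adjoint is the right adjoint. -/
theorem nonempty_iso_of_represents {C D E : Type*} [Category* C] [Category* D] [Category* E]
    {L : C ⥤ D} {a : D ⥤ C} (adj : L ⊣ a) (ι : E ⥤ D) (R : E ⥤ C) (c : R ⋙ L ⟶ ι)
    (hc : ∀ (G : C) (K : E), Function.Bijective fun g : G ⟶ R.obj K => L.map g ≫ c.app K) :
    Nonempty (ι ⋙ a ≅ R) := by
  let φ : R ⟶ ι ⋙ a :=
    { app := fun K => adj.homEquiv _ _ (c.app K)
      naturality := fun K K' f => by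
        rw [← adj.homEquiv_naturality_left]
        change adj.homEquiv _ _ (L.map (R.map f) ≫ c.app K') = adj.homEquiv _ _ (c.app K) ≫ a.map (ι.map f)
        rw [← adj.homEquiv_naturality_right]
        exact congrArg _ (c.naturality f) }
  have hφ : ∀ K, IsIso (φ.app K) := fun K => by
    have hb : ∀ G, Function.Bijective fun g : G ⟶ R.obj K => g ≫ φ.app K := fun G => by
      have : (fun g : G ⟶ R.obj K => g ≫ φ.app K) = fun g => adj.homEquiv _ _ (L.map g ≫ c.app K) :=
        funext fun g => (adj.homEquiv_naturality_left g (c.app K)).symm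
      rw [this]
      exact (adj.homEquiv _ _).bijective.comp (hc G K)
    obtain ⟨inv, hinv⟩ := (hb _).2 (𝟙 _)
    exact ⟨inv, (hb _).1 (show (φ.app K ≫ inv) ≫ φ.app K = 𝟙 _ ≫ φ.app K by
      rw [Category.assoc, show inv ≫ φ.app K = 𝟙 _ from hinv, Category.comp_id, Category.id_comp]), hinv⟩
  haveI := NatIso.isIso_of_isIso_app φ
  exact ⟨(asIso φ).symm⟩

variable {Z X : Scheme.{u}} [IsLocallyNoetherian X] (i : Z ⟶ X) [IsClosedImmersion i]
  [Dual3.HasHomO i] [EnoughInjectives X.Modules] [DCoh.HasRpush i]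

theorem nonempty_iso (hf : DCoh.RpushPreservesQCoh i) (a : DCoh.DQCoh X ⥤ DCoh.DQCoh Z)
    (adj : DCoh.RpushQ i hf ⊣ a) :
    Nonempty (Dual3.bddι X ⋙ a ⋙ ObjectProperty.ι _ ≅ Dual3.bddToPlus X ⋙ Dual3.RHomOPlus i ⋙
      (DerivedCategory.Plus.ι : DerivedCategory.Plus Z.Modules ⥤ DCoh.D Z)) := by
  let u := Dual3.homO i
  let P := Scheme.Modules.pushforward i
  let hA := Groth.DerivedCoh.KFlat.enoughKInj X
  haveI := Groth.Misc4.PushRestrict.hasRightDerived (X := X) u
  obtain ⟨e₁⟩ := Groth.Dual3Gor.RplusTotal.nonempty_iso u hA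
  haveI : (P.mapHomotopyCategory (ComplexShape.up ℤ) ⋙ DerivedCategory.Qh).HasRightDerivedFunctor
      (HomotopyCategory.quasiIso Z.Modules (ComplexShape.up ℤ)) := ‹DCoh.HasRpush i›
  obtain ⟨e₂⟩ := Groth.Dual3Gor.RplusTotal.nonempty_totalR_iso_map P
  let e₂' : DCoh.Rpush i ≅ P.mapDerivedCategory := e₂
  let dadj : P.mapDerivedCategory ⊣ Groth.DerivedAdj.totalR u :=
    Groth.DerivedAdj.derivedAdj (Dual3.homOAdj i) hA
  let R₀ : (Dual3.IsBddBelowQ X).FullSubcategory ⥤ DCoh.D Z := Dual3.bddToPlus X ⋙ Dual3.RHomOPlus i ⋙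
    (DerivedCategory.Plus.ι : DerivedCategory.Plus Z.Modules ⥤ DCoh.D Z)
  let R : (Dual3.IsBddBelowQ X).FullSubcategory ⥤ DCoh.DQCoh Z :=
    ObjectProperty.lift _ R₀ fun K => Groth.Dual3Gor.RHomO.isQCohD i _ K.obj.property
  let c₀ : R₀ ⋙ DCoh.Rpush i ⟶ Dual3.bddι X ⋙ ObjectProperty.ι _ :=
    { app := fun K => (DCoh.Rpush i).map (e₁.hom.app ((Dual3.bddToPlus X).obj K)) ≫ e₂'.hom.app _ ≫
        dadj.counit.app K.obj.obj
      naturality := fun K K' f => by
        simp only [Functor.comp_map, Category.assoc]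
        rw [← Functor.map_comp_assoc]
        have h1 := e₁.hom.naturality ((Dual3.bddToPlus X).map f)
        simp only [Functor.comp_map] at h1
        erw [h1]
        rw [Functor.map_comp, Category.assoc]
        erw [e₂'.hom.naturality_assoc]
        congr 2
        exact dadj.counit.naturality _ }
  let c : R ⋙ DCoh.RpushQ i hf ⟶ Dual3.bddι X :=
    { app := fun K => ObjectProperty.homMk (c₀.app K)
      naturality := fun K K' f => ObjectProperty.hom_ext _ (c₀.naturality f) }
  refine (nonempty_iso_of_represents adj (Dual3.bddι X) R c fun G K => ?_).map fun e =>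
    Functor.isoWhiskerRight e (ObjectProperty.ι _) ≪≫ ObjectProperty.liftCompιIso _ _ _
  have h₀ : Function.Bijective fun g : G.obj ⟶ R₀.obj K => (DCoh.Rpush i).map g ≫ c₀.app K := by
    have : (fun g : G.obj ⟶ R₀.obj K => (DCoh.Rpush i).map g ≫ c₀.app K) =
        (fun h => e₂'.hom.app G.obj ≫ h) ∘ (dadj.homEquiv G.obj K.obj.obj).symm ∘
          fun g => g ≫ e₁.hom.app ((Dual3.bddToPlus X).obj K) := funext fun g => by
      simp only [Function.comp_apply, Adjunction.homEquiv_counit, Functor.map_comp, Category.assoc, c₀]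
      erw [← e₂'.hom.naturality_assoc]
      rw [← e₂'.hom.naturality_assoc]
      rfl
    rw [this]
    exact ((Iso.homFromEquiv (e₂'.app G.obj).symm).bijective.comp ((dadj.homEquiv _ _).symm.bijective)).comp
      (Iso.homToEquiv (e₁.app ((Dual3.bddToPlus X).obj K))).bijective
  refine ⟨fun g g' h => ObjectProperty.hom_ext _ (h₀.1 (congrArg (fun t => t.hom) h)), fun t => ?_⟩
  obtain ⟨g, hg⟩ := h₀.2 t.hom
  exact ⟨ObjectProperty.homMk g, ObjectProperty.hom_ext _ hg⟩

end Groth.Dual3Gor.ShriekClosed
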