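import Groth.Agent.DerivedCoh.SuppTriangle
import Groth.Agent.DerivedCoh.ExtZero.Basic
import Groth.Agent.DerivedAdj.Devissage
import Groth.Agent.KTheory.PerfCoh
import Groth.Agent.Misc4.PushRestrict
import Groth.Prelude.Def_CxOX

/-!
Objects supported on a closed subset, `RΓ_Z` and open immersions.
-/

universe u

open CategoryTheory CategoryTheory.Limits Pretriangulated AlgebraicGeometry

attribute [local instance] HasDerivedCategory.standard

namespace Groth.Dual3Gor.SuppAdj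

open scoped ZeroObject
open Groth.DerivedCoh.SuppTriangle (Supp supp_shift eq_zero_of_supp exists_triangle)

variable {U X : Scheme.{u}} (j : U ⟶ X) [IsOpenImmersion j]

theorem isZero_of_isZero_HD {A : DCoh.D U} (h : ∀ i, IsZero (DCoh.HD A i)) : IsZero A := by
  let f : A ⟶ 0 := 0
  haveI : IsIso f := (DerivedCategory.isIso_iff _ f).2 fun i =>
    isIso_of_source_target_iso_zero _ (h i).isoZero
      ((DerivedCategory.homologyFunctor U.Modules i).map_isZero (isZero_zero _)).isoZero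
  exact IsZero.of_iso (isZero_zero _) (asIso f)

/-- Zero on stalks at the points of the open means zero on the open. -/
theorem isZero_restrict_of_stalk (M : X.Modules) (h : ∀ u : U, IsZero ((Groth.QCohMod.stalk (j u)).obj M)) :
    IsZero ((Scheme.Modules.restrictFunctor j).obj M) :=
  (Groth.QCohMod.isZero_iff_stalk _).2 fun u =>
    (h u).of_iso ((Scheme.Modules.restrictStalkNatIso j u).app M)

theorem supp_of_isSuppD {A : DCoh.D X} (h : CxOX.IsSuppD j A) : Supp j A := by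
  refine isZero_of_isZero_HD fun i => ?_
  obtain ⟨e⟩ := Groth.KTheory.Perf.nonempty_hdRd j A i
  refine (isZero_restrict_of_stalk j _ fun u => ?_).of_iso e
  have hu : ¬ (j u) ∈ CohB1.support (DCoh.HD A i) := fun hu => h i hu ⟨u, rfl⟩
  exact @AddCommGrpCat.isZero_of_subsingleton _ (not_not.1 hu)

variable [CxOX.HasRgammaZ j]

/-- `RΓ_Z` is right adjoint to the inclusion of supported objects. -/
theorem bijective_toId {A : DCoh.D X} (hA : Supp j A) (M : DCoh.D X) :
    Function.Bijective fun φ : A ⟶ (CxOX.RgammaZ j).obj M => φ ≫ (CxOX.RgammaZToId j).app M := by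
  haveI : DCoh.HasRpush j := Groth.Misc4.PushRestrict.hasRightDerived (Scheme.Modules.pushforward j)
  obtain ⟨-, N, -, q, d, hT⟩ := exists_triangle j M
  refine ⟨fun φ φ' h => sub_eq_zero.1 ?_, fun φ => ?_⟩
  · have h0 : (φ - φ') ≫ (CxOX.RgammaZToId j).app M = 0 := by
      rw [Preadditive.sub_comp, sub_eq_zero]
      exact h
    obtain ⟨ψ, hψ⟩ := Triangle.coyoneda_exact₂ _ (inv_rot_of_distTriang _ hT) (φ - φ') h0
    let e := (shiftFunctorCompIsoId (DCoh.D X) 1 (-1) (by omega)).app A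
    obtain ⟨χ, hχ⟩ := (shiftFunctor (DCoh.D X) (-1 : ℤ)).map_surjective (e.hom ≫ ψ)
    have hψ0 : ψ = 0 := by
      refine (cancel_epi e.hom).1 ?_
      exact hχ.symm.trans ((congrArg ((shiftFunctor (DCoh.D X) (-1 : ℤ)).map ·)
        (eq_zero_of_supp j (supp_shift j hA 1) χ)).trans ((Functor.map_zero _ _ _).trans comp_zero.symm))
    rw [hψ, hψ0]
    exact zero_comp
  · obtain ⟨ψ, hψ⟩ := Triangle.coyoneda_exact₂ _ hT φ (eq_zero_of_supp j hA (φ ≫ q))
    exact ⟨ψ, hψ.symm⟩

omit [CxOX.HasRgammaZ j] in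
/-- `j^* j_! = 1` on derived categories. -/
theorem nonempty_restrict_extZeroD :
    Nonempty (CxOX.extZeroD j ⋙ DCoh.restrictD j ≅ 𝟭 (DCoh.D U)) := by
  let P := CxOX.extZero j
  let R := Scheme.Modules.restrictFunctor j
  haveI : IsIso (CxOX.extZeroAdj j).unit := by
    have := fun K => Groth.DerivedCoh.ExtZero.isIso_unit j K
    exact NatIso.isIso_of_isIso_app _
  let e₀ : P ⋙ R ≅ 𝟭 U.Modules := (asIso (CxOX.extZeroAdj j).unit).symm
  let eC : P.mapHomologicalComplex (ComplexShape.up ℤ) ⋙ R.mapHomologicalComplex (ComplexShape.up ℤ) ≅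
      𝟭 (CochainComplex U.Modules ℤ) :=
    NatIso.mapHomologicalComplex e₀ (ComplexShape.up ℤ) ≪≫ Functor.mapHomologicalComplexIdIso _ _
  let e : DerivedCategory.Q ⋙ CxOX.extZeroD j ⋙ DCoh.restrictD j ≅ DerivedCategory.Q ⋙ 𝟭 (DCoh.D U) :=
    (Functor.associator _ _ _).symm ≪≫ Functor.isoWhiskerRight P.mapDerivedCategoryFactors _ ≪≫
      Functor.associator _ _ _ ≪≫ Functor.isoWhiskerLeft _ R.mapDerivedCategoryFactors ≪≫
      (Functor.associator _ _ _).symm ≪≫ Functor.isoWhiskerRight eC _ ≪≫ Functor.leftUnitor _ ≪≫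
      (Functor.rightUnitor _).symm
  exact ⟨Localization.liftNatIso DerivedCategory.Q (HomologicalComplex.quasiIso U.Modules (ComplexShape.up ℤ))
    _ _ _ _ e⟩

omit [CxOX.HasRgammaZ j] in
/-- For any adjunction `j^* ⊣ Rj_*` the counit is invertible. -/
theorem isIso_counit [DCoh.HasRpush j] (adjj : DCoh.restrictD j ⊣ DCoh.Rpush j) : IsIso adjj.counit := by
  obtain ⟨e⟩ := nonempty_restrict_extZeroD j
  let adj₁ := Groth.DerivedCoh.ExtZero.extZeroDAdj j
  haveI := adj₁.isIso_unit_of_iso e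
  exact (Adjunction.Triple.mk adj₁ adjj).isIso_unit_iff_isIso_counit.1 inferInstance

omit [CxOX.HasRgammaZ j] in
/-- `j_!` of an object supported on `Z ∩ U` is supported on `Z`, when `Z ⊆ U`. -/
theorem supp_extZeroD (W : X.Opens) {F : DCoh.D U} (hF : CxOX.IsSuppD (j ⁻¹ᵁ W).ι F) :
    Supp W.ι ((CxOX.extZeroD j).obj F) := by
  refine isZero_of_isZero_HD fun i => ?_
  obtain ⟨e⟩ := Groth.KTheory.Perf.nonempty_hdRd W.ι ((CxOX.extZeroD j).obj F) i
  refine (isZero_restrict_of_stalk W.ι _ fun w => ?_).of_iso e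
  let M := DCoh.HD F i
  refine IsZero.of_iso ?_
    ((Groth.QCohMod.stalk (W.ι w)).mapIso (Groth.DerivedAdj.homologyMapDerivedIso (CxOX.extZero j) F i))
  by_cases hx : W.ι w ∈ j.opensRange
  · obtain ⟨u, hu⟩ := hx
    rw [show W.ι w = j u from hu.symm]
    haveI := Groth.DerivedCoh.ExtZero.isIso_unit j M
    refine IsZero.of_iso ?_ (((Scheme.Modules.restrictStalkNatIso j u).app _).symm ≪≫
      (Groth.QCohMod.stalk u).mapIso (asIso ((CxOX.extZeroAdj j).unit.app M)).symm)
    have hu' : u ∈ j ⁻¹ᵁ W := show j u ∈ W from hu ▸ w.2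
    have : ¬ u ∈ CohB1.support M := fun h => hF i h ⟨⟨u, hu'⟩, rfl⟩
    exact @AddCommGrpCat.isZero_of_subsingleton _ (not_not.1 this)
  · exact Groth.DerivedCoh.ExtZero.isZero_stalk_obj j M hx

omit [CxOX.HasRgammaZ j] in
/-- `Rj_*` of an object supported on `Z ∩ U` is supported on `Z`. -/
theorem supp_Rpush [DCoh.HasRpush j] (W : X.Opens) {F : DCoh.D U} (hF : CxOX.IsSuppD (j ⁻¹ᵁ W).ι F) :
    Supp W.ι ((DCoh.Rpush j).obj F) := by
  haveI : DCoh.HasRpush (j ∣_ W) := Groth.Misc4.PushRestrict.hasRightDerived (Scheme.Modules.pushforward (j ∣_ W))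
  obtain ⟨e⟩ := Groth.Misc4.PushRestrict.restrictD_Rpush_iso j W
  refine IsZero.of_iso ?_ (e.app F)
  let adj := Groth.DerivedAdj.derivedAdj (Scheme.Modules.restrictAdjunction (j ∣_ W))
    (Groth.DerivedCoh.KFlat.enoughKInj _)
  exact (IsZero.iff_id_eq_zero _).2
    ((adj.homEquiv _ _).symm.injective ((supp_of_isSuppD _ hF).eq_of_tgt _ _))

omit [CxOX.HasRgammaZ j] in
/-- Maps out of a supported object into `j^*` of `RΓ_Z M` and of `M` agree. -/
theorem bijective_restrict_toId (W : X.Opens) [CxOX.HasRgammaZ W.ι] {F : DCoh.D U}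
    (hF : CxOX.IsSuppD (j ⁻¹ᵁ W).ι F) (M : DCoh.D X) :
    Function.Bijective fun φ : F ⟶ (DCoh.restrictD j).obj ((CxOX.RgammaZ W.ι).obj M) =>
      φ ≫ (DCoh.restrictD j).map ((CxOX.RgammaZToId W.ι).app M) := by
  let adj₁ := Groth.DerivedCoh.ExtZero.extZeroDAdj j
  have h : (fun φ : F ⟶ (DCoh.restrictD j).obj ((CxOX.RgammaZ W.ι).obj M) =>
      φ ≫ (DCoh.restrictD j).map ((CxOX.RgammaZToId W.ι).app M)) =
      (adj₁.homEquiv F M) ∘ (fun ψ => ψ ≫ (CxOX.RgammaZToId W.ι).app M) ∘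
        (adj₁.homEquiv F ((CxOX.RgammaZ W.ι).obj M)).symm := by
    funext φ
    simp only [Function.comp_apply]
    erw [adj₁.homEquiv_naturality_right, Equiv.apply_symm_apply]
  rw [h]
  exact (Equiv.bijective _).comp ((bijective_toId W.ι (supp_extZeroD j W hF) M).comp (Equiv.bijective _))

end Groth.Dual3Gor.SuppAdj
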