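import Groth.Agent.Dual3Gor.SuppAdj
import Groth.Prelude.Def_Dual3

/-!
Duality with supports: `Rf_*` is left adjoint to `RΓ_{Z'} f^!` on supported objects.
-/

universe u

open CategoryTheory CategoryTheory.Limits AlgebraicGeometry

attribute [local instance] HasDerivedCategory.standard

namespace Groth.Dual3Gor.SuppDuality

open Groth.Dual3Gor.SuppAdj

variable {X Xb Y : Scheme.{u}} (j : X ⟶ Xb) [IsOpenImmersion j] (fb : Xb ⟶ Y) (W : Xb.Opens)
  [DCoh.HasRpush fb] [DCoh.HasRpush j] (hfbar : DCoh.RpushPreservesQCoh fb) (hj : DCoh.RpushPreservesQCoh j)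
  (a : DCoh.DQCoh Y ⥤ DCoh.DQCoh Xb) (adj : DCoh.RpushQ fb hfbar ⊣ a)
  (adjj : DCoh.restrictD j ⊣ DCoh.Rpush j)
  [CxOX.HasRgammaZ W.ι] [CxOX.HasRgammaZ (j ⁻¹ᵁ W).ι]

include hj in
/-- For objects supported on `Z'`, maps into `RΓ_{Z'} j^* aG` are maps out of `Rfb_* Rj_*`. -/
theorem bijective (G : DCoh.DQCoh Y)
    (θ : (CxOX.RgammaZ (j ⁻¹ᵁ W).ι).obj ((DCoh.restrictD j).obj (a.obj G).obj) ⟶
      (DCoh.restrictD j).obj ((CxOX.RgammaZ W.ι).obj (a.obj G).obj))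
    (hθ : θ ≫ (DCoh.restrictD j).map ((CxOX.RgammaZToId W.ι).app (a.obj G).obj) =
      (CxOX.RgammaZToId (j ⁻¹ᵁ W).ι).app ((DCoh.restrictD j).obj (a.obj G).obj))
    [IsIso (adjj.unit.app ((CxOX.RgammaZ W.ι).obj (a.obj G).obj))]
    (F : DCoh.D X) (hF : DCoh.IsQCohD F) (hFZ : CxOX.IsSuppD (j ⁻¹ᵁ W).ι F) :
    Function.Bijective (fun φ : F ⟶ (CxOX.RgammaZ (j ⁻¹ᵁ W).ι).obj ((DCoh.restrictD j).obj (a.obj G).obj) =>
      (DCoh.Rpush fb).map ((DCoh.Rpush j).map (φ ≫ θ) ≫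
          inv (adjj.unit.app ((CxOX.RgammaZ W.ι).obj (a.obj G).obj)) ≫
          (CxOX.RgammaZToId W.ι).app (a.obj G).obj) ≫
        (adj.counit.app G).hom) := by
  let M := (a.obj G).obj
  let A := (CxOX.RgammaZ W.ι).obj M
  have h1 : Function.Bijective fun φ : F ⟶ (CxOX.RgammaZ (j ⁻¹ᵁ W).ι).obj ((DCoh.restrictD j).obj M) =>
      φ ≫ θ := by
    refine (Function.Bijective.of_comp_iff' (bijective_restrict_toId j W hFZ M) _).1 ?_
    have : ((fun χ : F ⟶ (DCoh.restrictD j).obj A =>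
        χ ≫ (DCoh.restrictD j).map ((CxOX.RgammaZToId W.ι).app M)) ∘ fun φ => φ ≫ θ) =
        fun φ => φ ≫ (CxOX.RgammaZToId (j ⁻¹ᵁ W).ι).app ((DCoh.restrictD j).obj M) :=
      funext fun φ => (Category.assoc _ _ _).trans (congrArg (φ ≫ ·) hθ)
    rw [this]
    exact bijective_toId _ (supp_of_isSuppD _ hFZ) _
  haveI := isIso_counit j adjj
  have h2 : Function.Bijective fun χ : F ⟶ (DCoh.restrictD j).obj A =>
      (DCoh.Rpush j).map χ ≫ inv (adjj.unit.app A) := by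
    have : (fun χ : F ⟶ (DCoh.restrictD j).obj A => (DCoh.Rpush j).map χ ≫ inv (adjj.unit.app A)) =
        (fun ψ => ψ ≫ inv (adjj.unit.app A)) ∘ (adjj.homEquiv ((DCoh.Rpush j).obj F) ((DCoh.restrictD j).obj A)) ∘
          (fun χ => adjj.counit.app F ≫ χ) := funext fun χ => by
      simp [Adjunction.homEquiv_unit]
    rw [this]
    exact (Iso.homToEquiv (asIso (adjj.unit.app A)).symm).bijective.comp ((Equiv.bijective _).comp
      (Iso.homFromEquiv (asIso (adjj.counit.app F)).symm).bijective)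
  have h3 := bijective_toId W.ι (supp_Rpush j W hFZ) M
  let P : DCoh.DQCoh Xb := ⟨(DCoh.Rpush j).obj F, hj F hF⟩
  have h4 : Function.Bijective fun ψ : (DCoh.Rpush j).obj F ⟶ M =>
      (DCoh.Rpush fb).map ψ ≫ (adj.counit.app G).hom := by
    have : (fun ψ : (DCoh.Rpush j).obj F ⟶ M => (DCoh.Rpush fb).map ψ ≫ (adj.counit.app G).hom) =
        (fun g => g.hom) ∘ (adj.homEquiv P G).symm ∘
          (fun ψ => (ObjectProperty.homMk ψ : P ⟶ a.obj G)) := funext fun ψ => by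
      simp [Adjunction.homEquiv_counit]
    rw [this]
    refine Function.Bijective.comp ⟨fun g g' h => ObjectProperty.hom_ext _ h,
      fun g => ⟨ObjectProperty.homMk g, rfl⟩⟩ ((Equiv.bijective _).comp
      ⟨fun g g' h => congrArg (fun t => t.hom) h, fun g => ⟨g.hom, rfl⟩⟩)
  have heq : (fun φ : F ⟶ (CxOX.RgammaZ (j ⁻¹ᵁ W).ι).obj ((DCoh.restrictD j).obj M) =>
      (DCoh.Rpush fb).map ((DCoh.Rpush j).map (φ ≫ θ) ≫ inv (adjj.unit.app A) ≫
          (CxOX.RgammaZToId W.ι).app M) ≫ (adj.counit.app G).hom) =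
      (fun ψ : (DCoh.Rpush j).obj F ⟶ M => (DCoh.Rpush fb).map ψ ≫ (adj.counit.app G).hom) ∘
        (fun ψ : (DCoh.Rpush j).obj F ⟶ A => ψ ≫ (CxOX.RgammaZToId W.ι).app M) ∘
        (fun χ : F ⟶ (DCoh.restrictD j).obj A => (DCoh.Rpush j).map χ ≫ inv (adjj.unit.app A)) ∘
        (fun φ => φ ≫ θ) := funext fun φ => by
    simp only [Function.comp_apply, Category.assoc]
  show Function.Bijective _
  exact heq ▸ h4.comp (h3.comp (h2.comp h1))

end Groth.Dual3Gor.SuppDuality
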