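import Groth.Agent.Dual3Gor.SuppAdj
import Groth.Agent.DerivedCoh.KFlat.RpushComp
import Groth.Agent.DAlg.RFTriangle
import Groth.Agent.Misc4.QCohDPerf

/-!
Supported objects and derived direct images.
-/

universe u

open CategoryTheory CategoryTheory.Limits Pretriangulated AlgebraicGeometry

attribute [local instance] HasDerivedCategory.standard

set_option maxHeartbeats 1000000

namespace Groth.Dual3Gor.SuppEquiv

open scoped ZeroObject
open Groth.DerivedCoh.SuppTriangle (Supp supp_shift eq_zero_of_supp exists_triangle)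

variable {U X : Scheme.{u}} (j : U ⟶ X) [IsOpenImmersion j]

theorem hasRgammaZ : CxOX.HasRgammaZ j := Groth.Misc4.PushRestrict.hasRightDerived (DCoh.gammaZ j)

theorem isSuppD_of_supp {A : DCoh.D X} (h : Supp j A) : CxOX.IsSuppD j A := by
  intro i x hx
  rintro ⟨u, rfl⟩
  obtain ⟨e⟩ := Groth.KTheory.Perf.nonempty_hdRd j A i
  refine not_not.2 ?_ hx
  have h0 : IsZero (DCoh.HD ((DCoh.restrictD j).obj A) i) :=
    (DerivedCategory.homologyFunctor U.Modules i).map_isZero h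
  have h1 : IsZero ((Groth.QCohMod.stalk (j u)).obj (DCoh.HD A i)) :=
    ((Groth.QCohMod.isZero_iff_stalk _).1 (h0.of_iso e.symm) u).of_iso
      ((Scheme.Modules.restrictStalkNatIso j u).app (DCoh.HD A i)).symm
  exact AddCommGrpCat.subsingleton_of_isZero h1

theorem isSuppD_restrict (W : X.Opens) {A : DCoh.D X} (h : CxOX.IsSuppD W.ι A) :
    CxOX.IsSuppD (j ⁻¹ᵁ W).ι ((DCoh.restrictD j).obj A) := by
  intro i u hu
  rintro ⟨w, rfl⟩
  obtain ⟨e⟩ := Groth.KTheory.Perf.nonempty_hdRd j A i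
  have hj : j ((j ⁻¹ᵁ W).ι w) ∈ CohB1.support (DCoh.HD A i) := by
    intro hs
    refine hu ?_
    have h1 : IsZero ((Groth.QCohMod.stalk ((j ⁻¹ᵁ W).ι w)).obj (DCoh.HD ((DCoh.restrictD j).obj A) i)) :=
      ((@AddCommGrpCat.isZero_of_subsingleton _ hs).of_iso
        ((Scheme.Modules.restrictStalkNatIso j _).app (DCoh.HD A i))).of_iso
          ((Groth.QCohMod.stalk _).mapIso e)
    exact AddCommGrpCat.subsingleton_of_isZero h1
  exact h i hj ⟨⟨_, w.2⟩, rfl⟩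

/-- Vanishing on the two parts of an open cover. -/
theorem isZero_of_supp_cover (W : X.Opens) (hc : ∀ x : X, x ∉ W → x ∈ Set.range j.base) {A : DCoh.D X}
    (h₁ : Supp j A) (h₂ : Supp W.ι A) : IsZero A := by
  refine SuppAdj.isZero_of_isZero_HD fun i => (Groth.QCohMod.isZero_iff_stalk _).2 fun x => ?_
  have : ¬ x ∈ CohB1.support (DCoh.HD A i) := fun hx => by
    by_cases hW : x ∈ W
    · exact isSuppD_of_supp W.ι h₂ i hx ⟨⟨x, hW⟩, rfl⟩
    · exact isSuppD_of_supp j h₁ i hx (hc x hW)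
  exact @AddCommGrpCat.isZero_of_subsingleton _ (not_not.1 this)

/-- A map restricting to an isomorphism on `U` has cone supported off `U`. -/
theorem supp_cone {A B : DCoh.D X} (f : A ⟶ B) [IsIso ((DCoh.restrictD j).map f)] {C : DCoh.D X}
    {g : B ⟶ C} {h : C ⟶ A⟦(1 : ℤ)⟧} (hT : Triangle.mk f g h ∈ distTriang _) : Supp j C :=
  Triangle.isZero₃_of_isIso₁ _ ((DCoh.restrictD j).map_distinguished _ hT)
    (inferInstanceAs (IsIso ((DCoh.restrictD j).map f)))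

theorem supp_obj₃ {T : Triangle (DCoh.D X)} (hT : T ∈ distTriang _) (h₁ : Supp j T.obj₁)
    (h₂ : Supp j T.obj₂) : Supp j T.obj₃ :=
  (Triangle.isZero₃_iff _ ((DCoh.restrictD j).map_distinguished _ hT)).2
    ⟨h₂.eq_of_src _ _, ((shiftFunctor _ (1 : ℤ)).map_isZero h₁).eq_of_tgt _ _⟩

theorem isIso_restrict_unit [DCoh.HasRpush j] (adj : DCoh.restrictD j ⊣ DCoh.Rpush j) (G : DCoh.D X) :
    IsIso ((DCoh.restrictD j).map (adj.unit.app G)) := by
  haveI := SuppAdj.isIso_counit j adj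
  haveI : IsIso ((DCoh.restrictD j).map (adj.unit.app G) ≫ adj.counit.app ((DCoh.restrictD j).obj G)) :=
    (adj.left_triangle_components G).symm ▸ IsIso.id _
  exact IsIso.of_isIso_comp_right _ (adj.counit.app ((DCoh.restrictD j).obj G))

/-- If `G` is supported away from `W ∩` nothing outside `U`, the unit is invertible. -/
theorem isIso_unit [DCoh.HasRpush j] (adj : DCoh.restrictD j ⊣ DCoh.Rpush j) (W : X.Opens)
    (hc : ∀ x : X, x ∉ W → x ∈ Set.range j.base) {G : DCoh.D X} (hG : Supp W.ι G) :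
    IsIso (adj.unit.app G) := by
  obtain ⟨C, g, h, hT⟩ := distinguished_cocone_triangle (adj.unit.app G)
  haveI := isIso_restrict_unit j adj G
  have h₁ : Supp j C := supp_cone j _ hT
  have h₂ : Supp W.ι C := supp_obj₃ W.ι hT hG
    (SuppAdj.supp_Rpush j W (isSuppD_restrict j W (isSuppD_of_supp W.ι hG)))
  exact (Triangle.isZero₃_iff_isIso₁ _ hT).1 (isZero_of_supp_cover j W hc h₁ h₂)

/-- `RΓ_Z` kills direct images from `U` when `Z` misses `U`. -/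
theorem isZero_RgammaZ_Rpush [DCoh.HasRpush j] (T : X.Opens) [CxOX.HasRgammaZ T.ι]
    (hT : Set.range j.base ⊆ T) (F : DCoh.D U) :
    IsZero ((CxOX.RgammaZ T.ι).obj ((DCoh.Rpush j).obj F)) := by
  haveI := hasRgammaZ j
  haveI : DCoh.HasRpush T.ι := Groth.Misc4.PushRestrict.hasRightDerived (Scheme.Modules.pushforward T.ι)
  let B := (CxOX.RgammaZ T.ι).obj ((DCoh.Rpush j).obj F)
  have hB : Supp T.ι B := (exists_triangle T.ι _).1
  have hBj : Supp j B := SuppAdj.supp_of_isSuppD j fun i x hx hr =>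
    isSuppD_of_supp T.ι hB i hx ⟨⟨x, hT hr⟩, rfl⟩
  refine (IsZero.iff_id_eq_zero B).2 ((SuppAdj.bijective_toId T.ι hB ((DCoh.Rpush j).obj F)).1 ?_)
  exact (eq_zero_of_supp j hBj _).trans (eq_zero_of_supp j hBj _).symm

/-- The unit is invertible on objects supported off `W` with nothing on the complement of `T`. -/
theorem isIso_unit' [DCoh.HasRpush j] (adj : DCoh.restrictD j ⊣ DCoh.Rpush j) (W T : X.Opens)
    [CxOX.HasRgammaZ T.ι] (hT : (T : Set X) ⊆ (W : Set X) ∪ Set.range j.base) {G : DCoh.D X}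
    (hG : Supp W.ι G) (h0 : IsZero ((CxOX.RgammaZ T.ι).obj G)) : IsIso (adj.unit.app G) := by
  haveI := hasRgammaZ j
  haveI : DCoh.HasRpush T.ι := Groth.Misc4.PushRestrict.hasRightDerived (Scheme.Modules.pushforward T.ι)
  obtain ⟨C, g, h, hd⟩ := distinguished_cocone_triangle (adj.unit.app G)
  haveI := isIso_restrict_unit j adj G
  have h₁ : Supp j C := supp_cone j _ hd
  have h₂ : Supp W.ι C := supp_obj₃ W.ι hd hG
    (SuppAdj.supp_Rpush j W (isSuppD_restrict j W (isSuppD_of_supp W.ι hG)))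
  have h₃ : Supp T.ι C := SuppAdj.supp_of_isSuppD T.ι fun i x hx hr => by
    obtain ⟨t, rfl⟩ := hr
    rcases hT t.2 with hw | hu
    · exact isSuppD_of_supp W.ι h₂ i hx ⟨⟨_, hw⟩, rfl⟩
    · exact isSuppD_of_supp j h₁ i hx hu
  have hh : h = 0 := by
    let e := shiftFunctorCompIsoId (DCoh.D X) (-1 : ℤ) 1 (by omega)
    obtain ⟨χ, hχ⟩ := (shiftFunctor (DCoh.D X) (1 : ℤ)).map_surjective (e.hom.app C ≫ h)
    have : χ = 0 := by
      obtain ⟨ψ, hψ⟩ := (SuppAdj.bijective_toId T.ι (supp_shift T.ι h₃ (-1)) G).2 χ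
      rw [← hψ, h0.eq_of_tgt ψ 0]
      exact zero_comp
    refine (cancel_epi (e.hom.app C)).1 ?_
    rw [← hχ, this, Functor.map_zero]
    exact comp_zero.symm
  obtain ⟨s, hs⟩ := Triangle.coyoneda_exact₂ _ (rot_of_distTriang _ hd) (𝟙 C)
    ((Category.id_comp _).trans hh)
  replace hs := hs.trans ((congrArg (· ≫ _) (eq_zero_of_supp j h₁ s)).trans zero_comp)
  exact (Triangle.isZero₃_iff_isIso₁ _ hd).1 ((IsZero.iff_id_eq_zero C).2 hs)

section Push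

variable {X Y : Scheme.{u}} (f : X ⟶ Y) [DCoh.HasRpush f] (V : Y.Opens)

theorem exists_distinguished (T : Triangle (DCoh.D X)) (hT : T ∈ distTriang _) :
    ∃ c, Triangle.mk ((DCoh.Rpush f).map T.mor₁) ((DCoh.Rpush f).map T.mor₂) c ∈ distTriang _ :=
  Groth.DAlg.RFTriangle.exists_distinguished (Scheme.Modules.pushforward f) (DCoh.Rpush f)
    ((DCoh.pushKh f).totalRightDerivedUnit DerivedCategory.Qh
      (HomotopyCategory.quasiIso X.Modules (ComplexShape.up ℤ))) T hT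

theorem isZero_Rpush {Z : DCoh.D X} (hZ : IsZero Z) : IsZero ((DCoh.Rpush f).obj Z) := by
  obtain ⟨c, hc⟩ := exists_distinguished f _ (contractible_distinguished Z)
  have h0 : IsZero ((DCoh.Rpush f).obj (0 : DCoh.D X)) :=
    Triangle.isZero₃_of_isIso₁ _ hc (inferInstanceAs (IsIso ((DCoh.Rpush f).map (𝟙 Z))))
  exact h0.of_iso ((DCoh.Rpush f).mapIso hZ.isoZero)

theorem supp_Rpush {A : DCoh.D X} (hA : Supp (f ⁻¹ᵁ V).ι A) : Supp V.ι ((DCoh.Rpush f).obj A) := by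
  haveI : DCoh.HasRpush (f ∣_ V) := Groth.Misc4.PushRestrict.hasRightDerived (Scheme.Modules.pushforward (f ∣_ V))
  obtain ⟨e⟩ := Groth.Misc4.PushRestrict.restrictD_Rpush_iso f V
  exact (isZero_Rpush (f ∣_ V) hA).of_iso (e.app A)

theorem eq_zero_of_supp_comp {A : DCoh.D Y} (hA : Supp V.ι A) [DCoh.HasRpush (f ⁻¹ᵁ V).ι]
    {M : DCoh.D (f ⁻¹ᵁ V : X.Opens)} (φ : A ⟶ (DCoh.Rpush f).obj ((DCoh.Rpush (f ⁻¹ᵁ V).ι).obj M)) :
    φ = 0 := by
  haveI := hasRgammaZ V.ι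
  haveI : DCoh.HasRpush V.ι := Groth.Misc4.PushRestrict.hasRightDerived (Scheme.Modules.pushforward V.ι)
  haveI : DCoh.HasRpush (f ∣_ V) := Groth.Misc4.PushRestrict.hasRightDerived (Scheme.Modules.pushforward (f ∣_ V))
  haveI : DCoh.HasRpush ((f ⁻¹ᵁ V).ι ≫ f) :=
    Groth.Misc4.PushRestrict.hasRightDerived (Scheme.Modules.pushforward ((f ⁻¹ᵁ V).ι ≫ f))
  haveI : DCoh.HasRpush ((f ∣_ V) ≫ V.ι) :=
    Groth.Misc4.PushRestrict.hasRightDerived (Scheme.Modules.pushforward ((f ∣_ V) ≫ V.ι))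
  obtain ⟨a⟩ := Groth.DerivedCoh.KFlat.Rpush_comp_iso (f ⁻¹ᵁ V).ι f
  obtain ⟨b⟩ := Groth.DerivedCoh.KFlat.Rpush_comp_iso (f ∣_ V) V.ι
  have e : (DCoh.Rpush (f ⁻¹ᵁ V).ι ⋙ DCoh.Rpush f).obj M ≅
      (DCoh.Rpush V.ι).obj ((DCoh.Rpush (f ∣_ V)).obj M) := by
    refine a.app M ≪≫ eqToIso ?_ ≪≫ (b.app M).symm
    congr 2
    exact (morphismRestrict_ι f V).symm
  exact (cancel_mono e.hom).1 ((eq_zero_of_supp V.ι hA (φ ≫ e.hom)).trans zero_comp.symm)

/-- `RΓ_Z` commutes with derived direct images. -/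
theorem exists_factor_isIso [CxOX.HasRgammaZ V.ι] [CxOX.HasRgammaZ (f ⁻¹ᵁ V).ι] (K : DCoh.D X) :
    (∃ α : (DCoh.Rpush f).obj ((CxOX.RgammaZ (f ⁻¹ᵁ V).ι).obj K) ⟶
        (CxOX.RgammaZ V.ι).obj ((DCoh.Rpush f).obj K),
        α ≫ (CxOX.RgammaZToId V.ι).app ((DCoh.Rpush f).obj K) =
          (DCoh.Rpush f).map ((CxOX.RgammaZToId (f ⁻¹ᵁ V).ι).app K)) ∧
    ∀ α : (DCoh.Rpush f).obj ((CxOX.RgammaZ (f ⁻¹ᵁ V).ι).obj K) ⟶
        (CxOX.RgammaZ V.ι).obj ((DCoh.Rpush f).obj K),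
        α ≫ (CxOX.RgammaZToId V.ι).app ((DCoh.Rpush f).obj K) =
          (DCoh.Rpush f).map ((CxOX.RgammaZToId (f ⁻¹ᵁ V).ι).app K) → IsIso α := by
  haveI : DCoh.HasRpush V.ι := Groth.Misc4.PushRestrict.hasRightDerived (Scheme.Modules.pushforward V.ι)
  haveI : DCoh.HasRpush (f ⁻¹ᵁ V).ι :=
    Groth.Misc4.PushRestrict.hasRightDerived (Scheme.Modules.pushforward (f ⁻¹ᵁ V).ι)
  obtain ⟨hS, M, -, q, d, hT⟩ := exists_triangle (f ⁻¹ᵁ V).ι K
  obtain ⟨c, hc⟩ := exists_distinguished f _ hT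
  let B := (DCoh.Rpush f).obj ((CxOX.RgammaZ (f ⁻¹ᵁ V).ι).obj K)
  let ε' : B ⟶ (DCoh.Rpush f).obj K := (DCoh.Rpush f).map ((CxOX.RgammaZToId (f ⁻¹ᵁ V).ι).app K)
  let ε := (CxOX.RgammaZToId V.ι).app ((DCoh.Rpush f).obj K)
  have hB : Supp V.ι B := supp_Rpush f V hS
  have hC : Supp V.ι ((CxOX.RgammaZ V.ι).obj ((DCoh.Rpush f).obj K)) := (exists_triangle V.ι _).1
  obtain ⟨a₀, ha₀⟩ := (SuppAdj.bijective_toId V.ι hB ((DCoh.Rpush f).obj K)).2 ε'
  refine ⟨⟨a₀, ha₀⟩, fun α hα => ?_⟩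
  obtain ⟨β, hβ⟩ := Triangle.coyoneda_exact₂ _ hc ε (eq_zero_of_supp_comp f V hC _)
  have inj : ∀ γ : B ⟶ B, γ ≫ ε' = 0 → γ = 0 := fun γ h => by
    obtain ⟨ψ, hψ⟩ := Triangle.coyoneda_exact₂ _ (inv_rot_of_distTriang _ hc) γ h
    let e := (shiftFunctorCompIsoId (DCoh.D Y) 1 (-1) (by omega)).app B
    obtain ⟨χ, hχ⟩ := (shiftFunctor (DCoh.D Y) (-1 : ℤ)).map_surjective (e.hom ≫ ψ)
    have hψ0 : ψ = 0 := by
      refine (cancel_epi e.hom).1 ?_
      exact hχ.symm.trans ((congrArg ((shiftFunctor (DCoh.D Y) (-1 : ℤ)).map ·)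
        (eq_zero_of_supp_comp f V (supp_shift V.ι hB 1) χ)).trans ((Functor.map_zero _ _ _).trans comp_zero.symm))
    rw [hψ, hψ0]
    exact zero_comp
  refine ⟨β, sub_eq_zero.1 (inj _ ?_), (SuppAdj.bijective_toId V.ι hC ((DCoh.Rpush f).obj K)).1 ?_⟩
  · rw [Preadditive.sub_comp, Category.id_comp, Category.assoc, sub_eq_zero]
    exact (congrArg (α ≫ ·) hβ.symm).trans hα
  · show (β ≫ α) ≫ _ = 𝟙 _ ≫ _
    refine (Category.assoc _ _ _).trans ?_
    refine (congrArg (β ≫ ·) hα).trans ?_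
    exact hβ.symm.trans (Category.id_comp _).symm

end Push

end Groth.Dual3Gor.SuppEquiv
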